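/-
Matrix units acting on one factor of a tensor power, and the matrices commuting with them.
-/
import Cfsg.Agent.Aschbacher.General.Component

set_option autoImplicit false
set_option linter.unusedSectionVars false

namespace CfsgLib.Geo.TensorPow

open Matrix CfsgLib.Aschbacher
open scoped MatrixGroups

variable {F : Type*} [Field F] {t m : ℕ}

/-- The matrices on the tensor power. -/
abbrev Mt (t m : ℕ) (F : Type*) : Type _ := Matrix (Fin t → Fin m) (Fin t → Fin m) F

lemma slot_mul (i : Fin t) (A B : Matrix (Fin m) (Fin m) F) : slot i A * slot i B = slot i (A * B) := by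
  rw [slot, slot, slot, tens_mul]
  congr 1
  funext l
  rcases eq_or_ne l i with rfl | hl
  · simp
  · simp [Function.update_of_ne hl]

lemma slot_one (i : Fin t) : slot i (1 : Matrix (Fin m) (Fin m) F) = (1 : Mt t m F) := by
  rw [slot, show Function.update (fun _ : Fin t => (1 : Matrix (Fin m) (Fin m) F)) i 1 = fun _ => 1 from
    Function.update_eq_self i _, tens_one]

lemma slot_add (i : Fin t) (A B : Matrix (Fin m) (Fin m) F) : slot i (A + B) = slot i A + slot i B := by
  ext x y
  simp only [Matrix.add_apply, slot_apply]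
  split_ifs <;> simp

lemma slot_smul (i : Fin t) (c : F) (A : Matrix (Fin m) (Fin m) F) : slot i (c • A) = c • slot i A := by
  ext x y
  simp only [Matrix.smul_apply, slot_apply]
  split_ifs <;> simp

lemma slot_zero (i : Fin t) : slot i (0 : Matrix (Fin m) (Fin m) F) = (0 : Mt t m F) := by
  ext x y
  simp [slot_apply]

/-- A single factor as a linear map on matrices. -/
def slotL (i : Fin t) : Matrix (Fin m) (Fin m) F →ₗ[F] Mt t m F where
  toFun := slot i
  map_add' := slot_add i
  map_smul' := slot_smul i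

lemma slot_sub (i : Fin t) (A B : Matrix (Fin m) (Fin m) F) : slot i (A - B) = slot i A - slot i B :=
  (slotL i).map_sub A B

lemma slot_sum {α : Type*} (i : Fin t) (s : Finset α) (f : α → Matrix (Fin m) (Fin m) F) :
    slot i (∑ a ∈ s, f a) = ∑ a ∈ s, slot i (f a) :=
  map_sum (slotL i) f s

lemma slot_mul_comm {i j : Fin t} (h : i ≠ j) (A B : Matrix (Fin m) (Fin m) F) :
    slot i A * slot j B = slot j B * slot i A := by
  rw [slot, slot, tens_mul, tens_mul]
  congr 1
  funext l
  rcases eq_or_ne l i with rfl | hl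
  · simp [Function.update_of_ne h]
  · rcases eq_or_ne l j with rfl | hl'
    · simp [Function.update_of_ne hl]
    · simp [Function.update_of_ne hl, Function.update_of_ne hl']

lemma slot_update (i : Fin t) (x : Fin t → Fin m) (p q : Fin m) (A : Matrix (Fin m) (Fin m) F) :
    slot i A (Function.update x i p) (Function.update x i q) = A p q := by
  rw [slot_apply, if_pos fun l hl => by simp [Function.update_of_ne hl]]
  simp

lemma slot_injective [NeZero m] (i : Fin t) :
    Function.Injective (slot i : Matrix (Fin m) (Fin m) F → Mt t m F) := by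
  intro A B h
  ext p q
  have := congrFun (congrFun h (Function.update 0 i p)) (Function.update 0 i q)
  rwa [slot_update, slot_update] at this

/-- A matrix unit on the factor `i`. -/
def eu (i : Fin t) (p q : Fin m) : Mt t m F := slot i (Matrix.single p q 1)

lemma eu_mul (i : Fin t) (p q r : Fin m) : (eu i p q : Mt t m F) * eu i q r = eu i p r := by
  rw [eu, eu, slot_mul, Matrix.single_mul_single_same, one_mul, eu]

lemma eu_mul_ne (i : Fin t) {q r : Fin m} (h : q ≠ r) (p s : Fin m) :
    (eu i p q : Mt t m F) * eu i r s = 0 := by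
  rw [eu, eu, slot_mul, Matrix.single_mul_single_of_ne _ _ _ _ h, slot_zero]

lemma eu_mul' (i : Fin t) (p q r : Fin m) (X : Mt t m F) :
    (eu i p q : Mt t m F) * (eu i q r * X) = eu i p r * X := by
  rw [← mul_assoc, eu_mul]

lemma eu_mul_ne' (i : Fin t) {q r : Fin m} (h : q ≠ r) (p s : Fin m) (X : Mt t m F) :
    (eu i p q : Mt t m F) * (eu i r s * X) = 0 := by
  rw [← mul_assoc, eu_mul_ne i h, zero_mul]

lemma mul_eu_mul (i : Fin t) (p q r : Fin m) (X : Mt t m F) :
    X * (eu i p q : Mt t m F) * eu i q r = X * eu i p r := by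
  rw [mul_assoc, eu_mul]

lemma mul_eu_mul_ne (i : Fin t) {q r : Fin m} (h : q ≠ r) (p s : Fin m) (X : Mt t m F) :
    X * (eu i p q : Mt t m F) * eu i r s = 0 := by
  rw [mul_assoc, eu_mul_ne i h, mul_zero]

lemma sum_eu (i : Fin t) : ∑ p : Fin m, (eu i p p : Mt t m F) = 1 := by
  simp only [eu]
  rw [← slot_sum, Matrix.sum_single_one, slot_one]

lemma eu_comm {i j : Fin t} (h : i ≠ j) (p q r s : Fin m) :
    (eu i p q : Mt t m F) * eu j r s = eu j r s * eu i p q :=
  slot_mul_comm h _ _

lemma slot_eq_sum (i : Fin t) (A : Matrix (Fin m) (Fin m) F) :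
    slot i A = ∑ p, ∑ q, A p q • (eu i p q : Mt t m F) := by
  conv_lhs => rw [Matrix.matrix_eq_sum_single A]
  simp only [slot_sum, eu, ← slot_smul, Matrix.smul_single, smul_eq_mul, mul_one]

lemma eu_apply (i : Fin t) (p q : Fin m) (x y : Fin t → Fin m) :
    (eu i p q : Mt t m F) x y = if x i = p ∧ y = Function.update x i q then 1 else 0 := by
  rw [eu, slot_apply]
  by_cases h : ∀ l, l ≠ i → x l = y l
  · rw [if_pos h, Matrix.single_apply]
    refine if_congr ⟨fun ⟨h1, h2⟩ => ⟨h1.symm, funext fun l => ?_⟩, fun ⟨h1, h2⟩ => ⟨h1.symm, ?_⟩⟩ rfl rfl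
    · rcases eq_or_ne l i with rfl | hl
      · simp [h2]
      · rw [Function.update_of_ne hl, h l hl]
    · rw [h2, Function.update_self]
  · rw [if_neg h, if_neg]
    rintro ⟨-, rfl⟩
    exact h fun l hl => (Function.update_of_ne hl _ _).symm

lemma eu_mul_apply (i : Fin t) (p q : Fin m) (X : Mt t m F) (x y : Fin t → Fin m) :
    ((eu i p q : Mt t m F) * X) x y = if x i = p then X (Function.update x i q) y else 0 := by
  rw [Matrix.mul_apply, Finset.sum_eq_single (Function.update x i q)]
  · rw [eu_apply]
    simp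
  · intro z _ hz
    rw [eu_apply, if_neg fun h => hz h.2, zero_mul]
  · simp

lemma mul_eu_apply (i : Fin t) (p q : Fin m) (X : Mt t m F) (x y : Fin t → Fin m) :
    (X * (eu i p q : Mt t m F)) x y = if y i = q then X x (Function.update y i p) else 0 := by
  rw [Matrix.mul_apply, Finset.sum_eq_single (Function.update y i p)]
  · rw [eu_apply]
    by_cases h : y i = q
    · rw [if_pos h, if_pos ⟨by simp, by simp [← h]⟩, mul_one]
    · rw [if_neg h, if_neg, mul_zero]
      rintro ⟨-, h2⟩
      apply h
      rw [h2]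
      simp
  · intro z _ hz
    rw [eu_apply, if_neg, mul_zero]
    rintro ⟨h1, h2⟩
    refine hz (funext fun l => ?_)
    rcases eq_or_ne l i with rfl | hl
    · simp [h1]
    · rw [Function.update_of_ne hl, h2, Function.update_of_ne hl]
  · simp

/-- The matrix commutes with the factor `i`. -/
def Com (i : Fin t) (X : Mt t m F) : Prop := ∀ p q, (eu i p q : Mt t m F) * X = X * eu i p q

lemma com_zero (i : Fin t) : Com i (0 : Mt t m F) := fun p q => by simp

lemma com_one (i : Fin t) : Com i (1 : Mt t m F) := fun p q => by simp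

lemma Com.add {i : Fin t} {X Y : Mt t m F} (hX : Com i X) (hY : Com i Y) : Com i (X + Y) := fun p q => by
  rw [mul_add, add_mul, hX, hY]

lemma Com.sub {i : Fin t} {X Y : Mt t m F} (hX : Com i X) (hY : Com i Y) : Com i (X - Y) := fun p q => by
  rw [mul_sub, sub_mul, hX, hY]

lemma Com.mul {i : Fin t} {X Y : Mt t m F} (hX : Com i X) (hY : Com i Y) : Com i (X * Y) := fun p q => by
  rw [← mul_assoc, hX, mul_assoc, hY, mul_assoc]

lemma Com.smul {i : Fin t} {X : Mt t m F} (hX : Com i X) (c : F) : Com i (c • X) := fun p q => by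
  rw [mul_smul_comm, smul_mul_assoc, hX]

lemma com_slot {i j : Fin t} (h : i ≠ j) (A : Matrix (Fin m) (Fin m) F) : Com i (slot j A : Mt t m F) :=
  fun _ _ => slot_mul_comm h _ A

lemma com_eu {i j : Fin t} (h : i ≠ j) (p q : Fin m) : Com i (eu j p q : Mt t m F) :=
  com_slot h _

lemma Com.slot_comm {i : Fin t} {X : Mt t m F} (hX : Com i X) (A : Matrix (Fin m) (Fin m) F) :
    slot i A * X = X * slot i A := by
  simp only [slot_eq_sum, Finset.sum_mul, Finset.mul_sum, smul_mul_assoc, mul_smul_comm]
  exact Finset.sum_congr rfl fun p _ => Finset.sum_congr rfl fun q _ => by rw [hX]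

lemma Com.inv {i : Fin t} {g : GL (Fin t → Fin m) F} (h : Com i (g : Mt t m F)) :
    Com i ((g⁻¹ : GL (Fin t → Fin m) F) : Mt t m F) := by
  intro p q
  calc (eu i p q : Mt t m F) * ((g⁻¹ : GL (Fin t → Fin m) F) : Mt t m F)
      = ((g⁻¹ : GL (Fin t → Fin m) F) : Mt t m F) * ((g : Mt t m F) * eu i p q) *
          ((g⁻¹ : GL (Fin t → Fin m) F) : Mt t m F) := by rw [← mul_assoc, Units.inv_mul, one_mul]
    _ = _ := by rw [← h, mul_assoc, mul_assoc, Units.mul_inv, mul_one]

lemma Com.apply_update {i : Fin t} {X : Mt t m F} (hX : Com i X) (x y : Fin t → Fin m) (r : Fin m) :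
    X x y = if x i = y i then X (Function.update x i r) (Function.update y i r) else 0 := by
  have h1 := congrFun (congrFun (hX (x i) r) x) (Function.update y i r)
  rw [eu_mul_apply, if_pos rfl, mul_eu_apply, if_pos (Function.update_self ..)] at h1
  by_cases h : x i = y i
  · rw [if_pos h, h1, Function.update_idem, h, Function.update_eq_self]
  · rw [if_neg h]
    have h2 := congrFun (congrFun (hX (y i) (y i)) x) y
    rw [eu_mul_apply, if_neg h, mul_eu_apply, if_pos rfl, Function.update_eq_self] at h2
    exact h2.symm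

/-- The coefficient of `eu i p q` in a matrix, a matrix commuting with the factor `i`. -/
def cmp (i : Fin t) (p q : Fin m) (X : Mt t m F) : Mt t m F :=
  ∑ r, (eu i r p : Mt t m F) * X * eu i q r

lemma com_cmp (i : Fin t) (p q : Fin m) (X : Mt t m F) : Com i (cmp i p q X) := by
  intro a b
  simp only [cmp, Finset.mul_sum, Finset.sum_mul]
  rw [Finset.sum_eq_single b, Finset.sum_eq_single a]
  · rw [← mul_assoc, ← mul_assoc, eu_mul, mul_assoc _ (eu i q a : Mt t m F), eu_mul]
  · intro r _ hr; rw [mul_assoc, eu_mul_ne i hr, mul_zero]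
  · simp
  · intro r _ hr; rw [← mul_assoc, ← mul_assoc, eu_mul_ne i hr.symm, zero_mul, zero_mul]
  · simp

lemma eu_mul_cmp (i : Fin t) (p q a b : Fin m) (X : Mt t m F) :
    (eu i a b : Mt t m F) * cmp i p q X = eu i a p * X * eu i q b := by
  simp only [cmp, Finset.mul_sum]
  rw [Finset.sum_eq_single b]
  · rw [← mul_assoc, ← mul_assoc, eu_mul]
  · intro r _ hr; rw [← mul_assoc, ← mul_assoc, eu_mul_ne i hr.symm, zero_mul, zero_mul]
  · simp

lemma sum_eu_cmp (i : Fin t) (X : Mt t m F) :
    ∑ p, ∑ q, (eu i p q : Mt t m F) * cmp i p q X = X := by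
  simp only [eu_mul_cmp, mul_assoc, ← Finset.mul_sum]
  rw [sum_eu, mul_one, ← Finset.sum_mul, sum_eu, one_mul]

lemma eq_slot_of_cmp {i : Fin t} {X : Mt t m F} (h : ∀ p q, ∃ c : F, cmp i p q X = c • 1) :
    ∃ A : Matrix (Fin m) (Fin m) F, X = slot i A := by
  choose c hc using h
  refine ⟨Matrix.of c, ?_⟩
  rw [slot_eq_sum]
  conv_lhs => rw [← sum_eu_cmp i X]
  simp only [hc, mul_smul_comm, mul_one, Matrix.of_apply]

lemma com_sum {α : Type*} {i : Fin t} (s : Finset α) {f : α → Mt t m F} (h : ∀ a ∈ s, Com i (f a)) :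
    Com i (∑ a ∈ s, f a) :=
  Finset.sum_induction f _ (fun _ _ => Com.add) (com_zero i) h

/-- A matrix commuting with every factor is a scalar. -/
lemma scalar_of_com [NeZero m] {X : Mt t m F} (h : ∀ i, Com i X) : ∃ c : F, X = c • 1 := by
  classical
  refine ⟨X 0 0, Matrix.ext fun x y => ?_⟩
  rw [Matrix.smul_apply, Matrix.one_apply, smul_eq_mul, mul_ite, mul_one, mul_zero]
  suffices hs : ∀ (s : Finset (Fin t)), ∀ x y : Fin t → Fin m, (∀ l ∉ s, x l = 0 ∧ y l = 0) →
      X x y = if x = y then X 0 0 else 0 from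
    hs Finset.univ x y fun l hl => absurd (Finset.mem_univ l) hl
  intro s
  induction s using Finset.induction_on with
  | empty =>
    intro x y hxy
    have hx : x = 0 := funext fun l => (hxy l (Finset.notMem_empty l)).1
    have hy : y = 0 := funext fun l => (hxy l (Finset.notMem_empty l)).2
    subst hx hy
    simp
  | insert i s his ih =>
    intro x y hxy
    rw [(h i).apply_update x y 0]
    by_cases hi : x i = y i
    · rw [if_pos hi, ih]
      · refine if_congr ⟨fun he => funext fun l => ?_, fun he => by rw [he]⟩ rfl rfl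
        rcases eq_or_ne l i with rfl | hl
        · exact hi
        · simpa [Function.update_of_ne hl] using congrFun he l
      · intro l hl
        rcases eq_or_ne l i with rfl | hli
        · simp
        · simpa [Function.update_of_ne hli] using hxy l (by simp [hli, hl])
    · rw [if_neg hi, if_neg fun he => hi (congrFun he i)]

end CfsgLib.Geo.TensorPow
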