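/-
A ring of matrices on the factors other than one fixed factor, invariant under conjugation by root
elements of these factors and containing a non-scalar, contains all matrix units of some factor.
-/
import Cfsg.Agent.Geo.TensorPow.Units

set_option autoImplicit false
set_option linter.unusedSectionVars false

namespace CfsgLib.Geo.TensorPow

open Matrix CfsgLib.Aschbacher
open scoped MatrixGroups

variable {F : Type*} [Field F] {t m : ℕ}

lemma exists_third (hm : 3 ≤ m) (a b : Fin m) : ∃ c, c ≠ a ∧ c ≠ b := by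
  by_contra h
  push Not at h
  have hc : (Finset.univ : Finset (Fin m)) ⊆ {a, b} := fun c _ => by
    rcases eq_or_ne c a with rfl | ha
    · simp
    · simp [h c ha]
  have := (Finset.card_le_card hc).trans Finset.card_le_two
  simp at this
  omega

/-- Rings of matrices invariant under root elements of the factors other than `i`. -/
structure InvRing (i : Fin t) (S : Set (Mt t m F)) : Prop where
  add : ∀ X ∈ S, ∀ Y ∈ S, X + Y ∈ S
  mul : ∀ X ∈ S, ∀ Y ∈ S, X * Y ∈ S
  smul : ∀ (c : F), ∀ X ∈ S, c • X ∈ S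
  com : ∀ X ∈ S, Com i X
  conj : ∀ X ∈ S, ∀ j, j ≠ i → ∀ a b, a ≠ b → (1 + eu j a b) * X * (1 - eu j a b) ∈ S

namespace InvRing

variable {i : Fin t} {S : Set (Mt t m F)}

lemma sub (hS : InvRing i S) {X Y : Mt t m F} (hX : X ∈ S) (hY : Y ∈ S) : X - Y ∈ S := by
  have := hS.add _ hX _ (hS.smul (-1) _ hY)
  rwa [neg_one_smul, ← sub_eq_add_neg] at this

lemma diff (hS : InvRing i S) {X : Mt t m F} (hX : X ∈ S) {j : Fin t} (hj : j ≠ i) {a b : Fin m}
    (hab : a ≠ b) : eu j a b * X - X * eu j a b - eu j a b * X * eu j a b ∈ S := by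
  have := hS.sub (hS.conj X hX j hj a b hab) hX
  convert this using 1
  noncomm_ring

lemma cross (hS : InvRing i S) {X : Mt t m F} (hX : X ∈ S) {j : Fin t} (hj : j ≠ i) {a b c : Fin m}
    (hab : a ≠ b) (hac : a ≠ c) (hbc : b ≠ c) :
    eu j a b * X * eu j a c + eu j a c * X * eu j a b ∈ S := by
  -- conjugation by the two root elements one after the other
  have h1 := hS.conj X hX j hj a c hac
  have h2 := hS.diff h1 hj hab
  have h3 := hS.diff hX hj hab
  have h4 := hS.sub h2 h3
  have e0 : (eu j a b : Mt t m F) * eu j a c = 0 := eu_mul_ne j hab.symm _ _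
  have e1 : (eu j a c : Mt t m F) * eu j a b = 0 := eu_mul_ne j hac.symm _ _
  -- the remaining terms
  have key : eu j a b * ((1 + eu j a c) * X * (1 - eu j a c)) - (1 + eu j a c) * X * (1 - eu j a c) * eu j a b -
        eu j a b * ((1 + eu j a c) * X * (1 - eu j a c)) * eu j a b -
      (eu j a b * X - X * eu j a b - eu j a b * X * eu j a b) =
      -(eu j a b * X * eu j a c + eu j a c * X * eu j a b) := by
    have r1 : (eu j a b : Mt t m F) * (1 + eu j a c) = eu j a b := by rw [mul_add, mul_one, e0, add_zero]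
    have r2 : (1 - eu j a c) * (eu j a b : Mt t m F) = eu j a b := by rw [sub_mul, one_mul, e1, sub_zero]
    calc _ = eu j a b * (1 + eu j a c) * X * (1 - eu j a c) - (1 + eu j a c) * X * ((1 - eu j a c) * eu j a b) -
          eu j a b * (1 + eu j a c) * X * ((1 - eu j a c) * eu j a b) -
          (eu j a b * X - X * eu j a b - eu j a b * X * eu j a b) := by noncomm_ring
      _ = _ := by rw [r1, r2]; noncomm_ring
  rw [key] at h4
  have := hS.smul (-1) _ h4
  rwa [neg_one_smul, neg_neg] at this

lemma sandwich (hS : InvRing i S) {X : Mt t m F} (hX : X ∈ S) {j : Fin t} (hj : j ≠ i) {a b c : Fin m}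
    (hab : a ≠ b) (hac : a ≠ c) (hbc : b ≠ c) : eu j c b * X * eu j a b ∈ S := by
  have h := hS.cross (hS.cross hX hj hab hac hbc) hj hac.symm hbc.symm hab
  have e : eu j c a * (eu j a b * X * eu j a c + eu j a c * X * eu j a b) * eu j c b +
      eu j c b * (eu j a b * X * eu j a c + eu j a c * X * eu j a b) * eu j c a = eu j c b * X * eu j a b := by
    simp only [mul_add, add_mul, mul_assoc]
    simp only [eu_mul', eu_mul_ne' j hab.symm, eu_mul_ne' j hac.symm, eu_mul, eu_mul_ne j hbc, eu_mul_ne j hbc.symm,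
      mul_zero, add_zero, zero_add]
  rwa [e] at h

/-- A matrix unit pattern on the factor `j`. -/
def Pat (j : Fin t) (B : Mt t m F) : Prop := ∃ p q : Fin m, p ≠ q ∧ eu j p p * B = B ∧ B * eu j q q = B

lemma step (hS : InvRing i S) (hm : 3 ≤ m) {A : Mt t m F} (hA : A ∈ S) {j : Fin t} (hj : j ≠ i)
    (hnc : ¬ Com j A) :
    ∃ B ∈ S, B ≠ 0 ∧ Pat j B ∧ (∀ U, Com j U → U * A = A → U * B = B) ∧
      (∀ U, Com j U → A * U = A → B * U = B) ∧ ∀ l, l ≠ j → Com l A → Com l B := by
  by_cases hoff : ∃ a b, a ≠ b ∧ eu j b b * A * eu j a a ≠ 0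
  · obtain ⟨a, b, hab, hne⟩ := hoff
    obtain ⟨c, hca, hcb⟩ := exists_third hm a b
    refine ⟨_, hS.sandwich hA hj hab hca.symm hcb.symm, fun h0 => hne ?_, ⟨c, b, hcb, ?_, ?_⟩, ?_, ?_, ?_⟩
    · calc eu j b b * A * eu j a a = eu j b c * (eu j c b * A * eu j a b) * eu j b a := by
            simp [mul_assoc, eu_mul', eu_mul]
        _ = 0 := by rw [h0, mul_zero, zero_mul]
    · simp [mul_assoc, eu_mul']
    · simp [mul_assoc, eu_mul]
    · intro U hU hUA
      rw [← mul_assoc, ← mul_assoc, ← hU, mul_assoc (eu j c b), hUA]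
    · intro U hU hUA
      rw [mul_assoc _ (eu j a b) U, hU, ← mul_assoc, mul_assoc (eu j c b) A U, hUA]
    · intro l hl hlA
      exact ((com_eu hl _ _).mul hlA).mul (com_eu hl _ _)
  push Not at hoff
  obtain ⟨a, b, hab, hD⟩ : ∃ a b, a ≠ b ∧ (eu j a b : Mt t m F) * A - A * eu j a b ≠ 0 := by
    by_contra hc
    push Not at hc
    refine hnc fun p q => ?_
    rcases eq_or_ne p q with rfl | hpq
    · obtain ⟨r, hr, -⟩ := exists_third hm p p
      have h1 := sub_eq_zero.1 (hc p r hr.symm)
      have h2 := sub_eq_zero.1 (hc r p hr)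
      calc (eu j p p : Mt t m F) * A = eu j p r * (eu j r p * A) := by rw [eu_mul']
        _ = eu j p r * A * eu j r p := by rw [h2, mul_assoc]
        _ = A * eu j p p := by rw [h1, mul_assoc, eu_mul]
    · exact sub_eq_zero.1 (hc p q hpq)
  set D : Mt t m F := eu j a b * A - A * eu j a b with hDdef
  have hzero : eu j a b * A * eu j a b = 0 := by
    calc _ = eu j a b * (eu j b b * A * eu j a a) * eu j a b := by simp [mul_assoc, eu_mul', eu_mul]
      _ = 0 := by rw [hoff a b hab, mul_zero, zero_mul]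
  have hDS : D ∈ S := by
    have := hS.diff hA hj hab
    rwa [hzero, sub_zero] at this
  have hl : eu j a a * D = D := by
    rw [hDdef, mul_sub, ← mul_assoc, eu_mul]
    congr 1
    calc eu j a a * (A * eu j a b) = ∑ p, eu j a a * (eu j p p * (A * eu j a b)) := by
          rw [← Finset.mul_sum, ← Finset.sum_mul, sum_eu, one_mul]
      _ = ∑ p, eu j p p * (A * eu j a b) := Finset.sum_congr rfl fun p _ => by
          rcases eq_or_ne p a with rfl | hp
          · rw [eu_mul']
          · rw [eu_mul_ne' j hp.symm]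
            calc (0 : Mt t m F) = eu j p p * A * eu j a a * eu j a b := by rw [hoff a p hp.symm, zero_mul]
              _ = _ := by simp [mul_assoc, eu_mul]
      _ = _ := by rw [← Finset.sum_mul, sum_eu, one_mul]
  have hr : D * eu j b b = D := by
    rw [hDdef, sub_mul, mul_assoc A, eu_mul]
    congr 1
    calc eu j a b * A * eu j b b = ∑ p, eu j a b * A * eu j p p * eu j b b := by
          rw [← Finset.sum_mul, ← Finset.mul_sum, sum_eu, mul_one]
      _ = ∑ p, eu j a b * A * eu j p p := Finset.sum_congr rfl fun p _ => by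
          rcases eq_or_ne p b with rfl | hp
          · rw [mul_eu_mul]
          · rw [mul_eu_mul_ne j hp]
            calc (0 : Mt t m F) = eu j a b * (eu j b b * A * eu j p p) := by rw [hoff p b hp, mul_zero]
              _ = _ := by simp [mul_assoc, eu_mul']
      _ = _ := by rw [← Finset.mul_sum, sum_eu, mul_one]
  refine ⟨D, hDS, hD, ⟨a, b, hab, hl, hr⟩, ?_, ?_, ?_⟩
  · intro U hU hUA
    rw [hDdef, mul_sub, ← mul_assoc, ← hU, mul_assoc, hUA, ← mul_assoc, hUA]
  · intro U hU hUA
    rw [hDdef, sub_mul, mul_assoc, hUA, mul_assoc A, hU, ← mul_assoc, hUA]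
  · intro l hl hlA
    exact ((com_eu hl _ _).mul hlA).sub (hlA.mul (com_eu hl _ _))

/-- Matrix units on the factors in `J`, the identity on the others. -/
def pu (J : Finset (Fin t)) (p q : Fin t → Fin m) : Mt t m F :=
  tens fun l => if l ∈ J then Matrix.single (p l) (q l) 1 else 1

lemma com_pu {J : Finset (Fin t)} {l : Fin t} (hl : l ∉ J) (p q : Fin t → Fin m) :
    Com l (pu J p q : Mt t m F) := by
  intro a b
  rw [eu, pu, slot, tens_mul, tens_mul]
  congr 1
  funext k
  rcases eq_or_ne k l with rfl | hk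
  · simp [hl]
  · simp [Function.update_of_ne hk]

lemma pu_apply_self (J : Finset (Fin t)) (p q x y : Fin t → Fin m) (hx : ∀ l ∈ J, x l = p l ∧ y l = q l)
    (hy : ∀ l ∉ J, x l = y l) : (pu J p q : Mt t m F) x y = 1 := by
  simp only [pu, tens, Matrix.of_apply]
  refine Finset.prod_eq_one fun l _ => ?_
  by_cases hl : l ∈ J
  · rw [if_pos hl, (hx l hl).1, (hx l hl).2]; simp
  · rw [if_neg hl, hy l hl, Matrix.one_apply_eq]

lemma eu_pu {J : Finset (Fin t)} {l : Fin t} (hl : l ∈ J) (p q : Fin t → Fin m) (r : Fin m) :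
    eu l r (p l) * (pu J p q : Mt t m F) = pu J (Function.update p l r) q := by
  rw [eu, slot, pu, pu, tens_mul]
  congr 1
  funext k
  rcases eq_or_ne k l with rfl | hk
  · simp [hl]
  · simp [Function.update_of_ne hk]

lemma pu_eu {J : Finset (Fin t)} {l : Fin t} (hl : l ∈ J) (p q : Fin t → Fin m) (r : Fin m) :
    (pu J p q : Mt t m F) * eu l (q l) r = pu J p (Function.update q l r) := by
  rw [eu, slot, pu, pu, tens_mul]
  congr 1
  funext k
  rcases eq_or_ne k l with rfl | hk
  · simp [hl]
  · simp [Function.update_of_ne hk]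

lemma pu_mul_pu (J : Finset (Fin t)) (p q r : Fin t → Fin m) :
    (pu J p q : Mt t m F) * pu J q r = pu J p r := by
  rw [pu, pu, pu, tens_mul]
  congr 1
  funext k
  split_ifs <;> simp

lemma sum_pu {J : Finset (Fin t)} {l : Fin t} (hl : l ∈ J) (p q : Fin t → Fin m) :
    ∑ r, (pu J (Function.update p l r) (Function.update q l r) : Mt t m F) = pu (J.erase l) p q := by
  have : ∀ r, (pu J (Function.update p l r) (Function.update q l r) : Mt t m F) =
      eu l r r * pu (J.erase l) p q := fun r => by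
    rw [eu, slot, pu, pu, tens_mul]
    congr 1
    funext k
    rcases eq_or_ne k l with rfl | hk
    · simp [hl]
    · simp [Function.update_of_ne hk, hk]
  rw [Finset.sum_congr rfl fun r _ => this r, ← Finset.sum_mul, sum_eu, one_mul]

lemma pat_eq_zero [NeZero m] {J : Finset (Fin t)} {p q : Fin t → Fin m} {Z : Mt t m F}
    (hl : ∀ l ∈ J, eu l (p l) (p l) * Z = Z ∧ Z * eu l (q l) (q l) = Z) (hc : ∀ l ∉ J, Com l Z)
    (h0 : Z (fun l => if l ∈ J then p l else 0) (fun l => if l ∈ J then q l else 0) = 0) : Z = 0 := by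
  classical
  ext x y
  rw [Matrix.zero_apply]
  by_cases hJ : ∀ l ∈ J, x l = p l ∧ y l = q l
  · suffices hs : ∀ s : Finset (Fin t), ∀ x y : Fin t → Fin m, (∀ l ∈ J, x l = p l ∧ y l = q l) →
        (∀ l ∉ J, l ∉ s → x l = 0 ∧ y l = 0) → Z x y = 0 from
      hs Finset.univ x y hJ fun l _ hl => absurd (Finset.mem_univ l) hl
    intro s
    induction s using Finset.induction_on with
    | empty =>
      intro x y hJ hxy
      have hx : x = fun l => if l ∈ J then p l else 0 := funext fun l => by
        by_cases hl : l ∈ J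
        · simp [hl, (hJ l hl).1]
        · simp [hl, (hxy l hl (Finset.notMem_empty l)).1]
      have hy : y = fun l => if l ∈ J then q l else 0 := funext fun l => by
        by_cases hl : l ∈ J
        · simp [hl, (hJ l hl).2]
        · simp [hl, (hxy l hl (Finset.notMem_empty l)).2]
      rw [hx, hy, h0]
    | insert k s hks ih =>
      intro x y hJ hxy
      by_cases hkJ : k ∈ J
      · exact ih x y hJ fun l hl hls => hxy l hl (by simp [hls, show l ≠ k from fun h => hl (h ▸ hkJ)])
      rw [(hc k hkJ).apply_update x y 0]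
      split_ifs with hk
      · refine ih _ _ (fun l hl => ?_) fun l hl hls => ?_
        · simpa [Function.update_of_ne (show l ≠ k from fun h => hkJ (h ▸ hl))] using hJ l hl
        · rcases eq_or_ne l k with rfl | hlk
          · simp
          · simpa [Function.update_of_ne hlk] using hxy l hl (by simp [hls, hlk])
      · rfl
  · push Not at hJ
    obtain ⟨l, hlJ, hne⟩ := hJ
    by_cases hx : x l = p l
    · have := congrFun (congrFun (hl l hlJ).2 x) y
      rw [mul_eu_apply, if_neg (hne hx)] at this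
      exact this.symm
    · have := congrFun (congrFun (hl l hlJ).1 x) y
      rw [eu_mul_apply, if_neg hx] at this
      exact this.symm

lemma exists_pu [NeZero m] (hS : InvRing i S) (hm : 3 ≤ m) {A : Mt t m F} (hA : A ∈ S)
    (hns : ¬ ∃ c : F, A = c • 1) :
    ∃ J : Finset (Fin t), J.Nonempty ∧ i ∉ J ∧ ∃ p q, (∀ l ∈ J, p l ≠ q l) ∧ pu J p q ∈ S := by
  classical
  obtain ⟨j, hjA⟩ : ∃ j, ¬ Com j A := by
    by_contra h
    push Not at h
    exact hns (scalar_of_com h)
  have hji : j ≠ i := fun h => hjA (h ▸ hS.com A hA)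
  obtain ⟨B₀, hB₀, hB₀0, hP₀, -, -, -⟩ := hS.step hm hA hji hjA
  have key : ∀ T : Finset (Fin t), i ∉ T → ∃ B ∈ S, B ≠ 0 ∧ Pat j B ∧ ∀ l ∈ T, Com l B ∨ Pat l B := by
    intro T
    induction T using Finset.induction_on with
    | empty => exact fun _ => ⟨B₀, hB₀, hB₀0, hP₀, by simp⟩
    | insert k T hkT ih =>
      intro hiT
      simp only [Finset.mem_insert, not_or] at hiT
      obtain ⟨B, hB, hB0, hPB, hTB⟩ := ih hiT.2
      by_cases hk : Com k B
      · exact ⟨B, hB, hB0, hPB, by simp [hk]; exact hTB⟩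
      rcases eq_or_ne j k with rfl | hjk
      · exact ⟨B, hB, hB0, hPB, by simp [hPB]; exact hTB⟩
      obtain ⟨B', hB', hB'0, hPk, hL, hR, hC⟩ := hS.step hm hB (Ne.symm hiT.1) hk
      have hkeep : ∀ l, l ≠ k → Pat l B → Pat l B' := fun l hl ⟨p, q, hpq, h1, h2⟩ =>
        ⟨p, q, hpq, hL _ (com_eu (Ne.symm hl) _ _) h1, hR _ (com_eu (Ne.symm hl) _ _) h2⟩
      refine ⟨B', hB', hB'0, hkeep j hjk hPB, fun l hl => ?_⟩
      rcases Finset.mem_insert.1 hl with rfl | hl
      · exact Or.inr hPk
      have hlk : l ≠ k := fun h => hkT (h ▸ hl)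
      rcases hTB l hl with h | h
      · exact Or.inl (hC l hlk h)
      · exact Or.inr (hkeep l hlk h)
  obtain ⟨B, hB, hB0, hPj, hall⟩ := key (Finset.univ.erase i) (by simp)
  have hcl : ∀ l, ¬ Com l B → l ≠ i ∧ Pat l B := fun l hl => by
    have hli : l ≠ i := fun h => hl (h ▸ hS.com B hB)
    exact ⟨hli, (hall l (by simp [hli])).resolve_left hl⟩
  set J : Finset (Fin t) := Finset.univ.filter fun l => ¬ Com l B with hJ
  have hjJ : j ∈ J := by
    simp only [hJ, Finset.mem_filter, Finset.mem_univ, true_and]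
    intro hc
    obtain ⟨p, q, hpq, h1, h2⟩ := hPj
    refine hB0 ?_
    rw [← h2, ← h1, hc p p, mul_assoc, eu_mul_ne j hpq, mul_zero]
  have : ∀ l, ∃ p q : Fin m, l ∈ J → p ≠ q ∧ eu l p p * B = B ∧ B * eu l q q = B := fun l => by
    by_cases hl : l ∈ J
    · obtain ⟨p, q, h⟩ := (hcl l (by simpa [hJ] using hl)).2
      exact ⟨p, q, fun _ => h⟩
    · exact ⟨0, 0, fun h => absurd h hl⟩
  choose p q hpq using this
  set c := B (fun l => if l ∈ J then p l else 0) (fun l => if l ∈ J then q l else 0) with hc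
  have hBeq : B = c • pu J p q := by
    refine sub_eq_zero.1 (pat_eq_zero (J := J) (p := p) (q := q) (fun l hl => ⟨?_, ?_⟩) (fun l hl => ?_) ?_)
    · rw [mul_sub, (hpq l hl).2.1, mul_smul_comm, eu_pu hl, Function.update_eq_self]
    · rw [sub_mul, (hpq l hl).2.2, smul_mul_assoc, pu_eu hl, Function.update_eq_self]
    · exact Com.sub (by simpa [hJ] using hl) ((com_pu hl p q).smul c)
    · rw [Matrix.sub_apply, Matrix.smul_apply,
        pu_apply_self J p q _ _ (fun l hl => by simp [hl]) (fun l hl => by simp [hl]), smul_eq_mul, mul_one,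
        ← hc, sub_self]
  have hc0 : c ≠ 0 := fun h0 => hB0 (by rw [hBeq, h0, zero_smul])
  refine ⟨J, ⟨j, hjJ⟩, fun hi => ?_, p, q, fun l hl => (hpq l hl).1, ?_⟩
  · exact (Finset.mem_filter.1 hi).2 (hS.com B hB)
  · have := hS.smul c⁻¹ _ hB
    rwa [hBeq, smul_smul, inv_mul_cancel₀ hc0, one_smul] at this

lemma move_left (hS : InvRing i S) {J : Finset (Fin t)} (hiJ : i ∉ J) {p q : Fin t → Fin m}
    (h : pu J p q ∈ S) {l : Fin t} (hl : l ∈ J) (hpq : p l ≠ q l) {r : Fin m} (hrq : r ≠ q l) :
    pu J (Function.update p l r) q ∈ S := by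
  rcases eq_or_ne r (p l) with rfl | hrp
  · rwa [Function.update_eq_self]
  have hd := hS.diff h (show l ≠ i from fun e => hiJ (e ▸ hl)) hrp
  have h2 : (pu J p q : Mt t m F) * eu l r (p l) = 0 := by
    conv_lhs => rw [← Function.update_eq_self l q, ← pu_eu hl p q (q l)]
    rw [mul_assoc, eu_mul_ne l hrq.symm, mul_zero]
  rwa [mul_assoc, h2, mul_zero, sub_zero, sub_zero, eu_pu hl] at hd

lemma move_right (hS : InvRing i S) {J : Finset (Fin t)} (hiJ : i ∉ J) {p q : Fin t → Fin m}
    (h : pu J p q ∈ S) {l : Fin t} (hl : l ∈ J) (hpq : p l ≠ q l) {r : Fin m} (hrp : r ≠ p l) :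
    pu J p (Function.update q l r) ∈ S := by
  rcases eq_or_ne r (q l) with rfl | hrq
  · rwa [Function.update_eq_self]
  have hd := hS.diff h (show l ≠ i from fun e => hiJ (e ▸ hl)) hrq.symm
  have h2 : eu l (q l) r * (pu J p q : Mt t m F) = 0 := by
    conv_lhs => rw [← Function.update_eq_self l p, ← eu_pu hl p q (p l)]
    rw [← mul_assoc, eu_mul_ne l hrp, zero_mul]
  rw [h2, zero_mul, sub_zero, zero_sub] at hd
  have := hS.smul (-1) _ hd
  rwa [neg_one_smul, neg_neg, pu_eu hl] at this

lemma move_pair (hS : InvRing i S) (hm : 3 ≤ m) {J : Finset (Fin t)} (hiJ : i ∉ J) {p q : Fin t → Fin m}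
    (h : pu J p q ∈ S) {l : Fin t} (hl : l ∈ J) (hpq : p l ≠ q l) {a b : Fin m} (hab : a ≠ b) :
    pu J (Function.update p l a) (Function.update q l b) ∈ S := by
  by_cases hb : b = p l
  · obtain ⟨c, hcp, hcq⟩ := exists_third hm (p l) (q l)
    have h1 := hS.move_left hiJ h hl hpq hcq
    have h2 := hS.move_right hiJ h1 hl (by simpa using hcq) (r := b) (by simp [hb, hcp.symm])
    have h3 := hS.move_left hiJ h2 hl (by simp [hb, hcp]) (r := a) (by simp [hab])
    rwa [Function.update_idem] at h3
  · have h1 := hS.move_right hiJ h hl hpq (r := b) hb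
    exact hS.move_left hiJ h1 hl (by simp [Ne.symm hb]) (r := a) (by simp [hab])

theorem exists_full_factor [NeZero m] (hS : InvRing i S) (hm : 3 ≤ m) {A : Mt t m F} (hA : A ∈ S)
    (hns : ¬ ∃ c : F, A = c • 1) : ∃ j, j ≠ i ∧ ∀ a b, eu j a b ∈ S := by
  classical
  obtain ⟨J, ⟨j, hjJ⟩, hiJ, p, q, hpq, hmem⟩ := hS.exists_pu hm hA hns
  have hall : ∀ p' q' : Fin t → Fin m, (∀ l ∈ J, p' l ≠ q' l) → pu J p' q' ∈ S := by
    intro p' q' hne
    have hs : ∀ s : Finset (Fin t), s ⊆ J → pu J (s.piecewise p' p) (s.piecewise q' q) ∈ S := by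
      intro s
      induction s using Finset.induction_on with
      | empty => intro _; simpa using hmem
      | insert l s hls ih =>
        intro hsub
        have hl : l ∈ J := hsub (Finset.mem_insert_self l s)
        rw [Finset.piecewise_insert, Finset.piecewise_insert]
        exact hS.move_pair hm hiJ (ih fun x hx => hsub (Finset.mem_insert_of_mem hx)) hl
          (by simpa [Finset.piecewise_eq_of_notMem _ _ _ hls] using hpq l hl) (hne l hl)
    have e : pu (F := F) J (J.piecewise p' p) (J.piecewise q' q) = pu J p' q' := by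
      simp only [pu]
      congr 1
      funext l
      by_cases hl : l ∈ J <;> simp [hl]
    exact e ▸ hs J subset_rfl
  have hany : ∀ p' q' : Fin t → Fin m, pu J p' q' ∈ S := by
    intro p' q'
    choose r hr using fun l => exists_third hm (p' l) (q' l)
    rw [← pu_mul_pu J p' r q']
    exact hS.mul _ (hall p' r fun l _ => (hr l).1.symm) _ (hall r q' fun l _ => (hr l).2)
  have herase : ∀ K : Finset (Fin t), j ∉ K → ∀ p' q', pu (J \ K) p' q' ∈ S := by
    intro K
    induction K using Finset.induction_on with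
    | empty => intro _; simpa using hany
    | insert l K hlK ih =>
      intro hj p' q'
      simp only [Finset.mem_insert, not_or] at hj
      by_cases hl : l ∈ J \ K
      · rw [show J \ insert l K = (J \ K).erase l by rw [Finset.sdiff_insert], ← sum_pu hl]
        exact Finset.sum_induction_nonempty _ _ (fun x y hx hy => hS.add x hx y hy)
          ⟨0, Finset.mem_univ _⟩ fun r _ => ih hj.2 _ _
      · rw [show J \ insert l K = J \ K by rw [Finset.sdiff_insert, Finset.erase_eq_of_notMem hl]]
        exact ih hj.2 p' q'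
  refine ⟨j, fun h => hiJ (h ▸ hjJ), fun a b => ?_⟩
  have h := herase (Finset.univ.erase j) (by simp) (fun _ => a) (fun _ => b)
  have e : J \ Finset.univ.erase j = {j} := by
    ext x
    simp only [Finset.mem_sdiff, Finset.mem_erase, Finset.mem_univ, and_true, not_not, Finset.mem_singleton]
    exact ⟨fun h => h.2, fun h => ⟨h ▸ hjJ, h⟩⟩
  rw [e] at h
  convert h using 1
  rw [eu, slot, pu]
  congr 1
  funext l
  rcases eq_or_ne l j with rfl | hl
  · simp
  · simp [Function.update_of_ne hl, hl]

end InvRing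

end CfsgLib.Geo.TensorPow
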