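/-
An overgroup of the stabiliser of a tensor power containing `1 + eu i a b * B` for a non-scalar `B` on the
other factors contains `SL`.
-/
import Cfsg.Agent.Geo.TensorPow.Gen
import Cfsg.Agent.Geo.Transvection

set_option autoImplicit false
set_option linter.unusedSectionVars false

namespace CfsgLib.Geo.TensorPow

open Matrix Cfsg Cfsg.Geo CfsgLib.Geo CfsgLib.Aschbacher
open scoped MatrixGroups commutatorElement

variable {F : Type*} [Field F] {t m : ℕ}

/-- The matrix is that of a member of `M`. -/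
def Mem (M : Subgroup (GL (Fin t → Fin m) F)) (X : Mt t m F) : Prop := ∃ g ∈ M, (g : Mt t m F) = X

variable {M : Subgroup (GL (Fin t → Fin m) F)}

lemma Mem.mul {X Y : Mt t m F} (hX : Mem M X) (hY : Mem M Y) : Mem M (X * Y) := by
  obtain ⟨g, hg, rfl⟩ := hX
  obtain ⟨h, hh, rfl⟩ := hY
  exact ⟨g * h, M.mul_mem hg hh, Units.val_mul g h⟩

lemma Mem.inv {X Y : Mt t m F} (hX : Mem M X) (h : X * Y = 1) : Mem M Y := by
  obtain ⟨g, hg, rfl⟩ := hX
  refine ⟨g⁻¹, M.inv_mem hg, ?_⟩
  calc ((g⁻¹ : GL (Fin t → Fin m) F) : Mt t m F)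
      = ((g⁻¹ : GL (Fin t → Fin m) F) : Mt t m F) * ((g : Mt t m F) * Y) := by rw [h, mul_one]
    _ = Y := by rw [← mul_assoc, Units.inv_mul, one_mul]

lemma Mem.one : Mem M (1 : Mt t m F) := ⟨1, M.one_mem, rfl⟩

lemma one_add_mul_one_sub {X : Mt t m F} (hX : X * X = 0) : (1 + X) * (1 - X) = 1 := by
  rw [mul_sub, mul_one, add_mul, one_mul, hX]; abel

lemma Mem.one_sub {X : Mt t m F} (hX : X * X = 0) (h : Mem M (1 + X)) : Mem M (1 - X) :=
  h.inv (one_add_mul_one_sub hX)

lemma Mem.comm {X Y : Mt t m F} (hX : Mem M (1 + X)) (hY : Mem M (1 + Y)) (hXX : X * X = 0) (hYY : Y * Y = 0)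
    (hYX : Y * X = 0) : Mem M (1 + X * Y) := by
  have e : (1 + X) * (1 + Y) * (1 - X) * (1 - Y) = 1 + X * Y := by
    calc (1 + X) * (1 + Y) * (1 - X) * (1 - Y)
        = 1 + X * Y - X * X - Y * X - Y * Y + (X * X) * Y - X * (Y * X) - X * (Y * Y) + (Y * X) * Y +
            X * (Y * X) * Y := by noncomm_ring
      _ = 1 + X * Y := by rw [hXX, hYY, hYX]; simp
  exact e ▸ ((hX.mul hY).mul (hX.one_sub hXX)).mul (hY.one_sub hYY)

/-- An invertible matrix acting on one factor. -/
noncomputable def slotU (i : Fin t) : GL (Fin m) F →* GL (Fin t → Fin m) F :=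
  Units.map
    { toFun := slot i
      map_one' := slot_one i
      map_mul' := fun A B => (slot_mul i A B).symm }

lemma slotU_val (i : Fin t) (a : GL (Fin m) F) :
    (slotU i a : Mt t m F) = slot i (a : Matrix (Fin m) (Fin m) F) := rfl

lemma eu_sq (i : Fin t) {a b : Fin m} (h : a ≠ b) : (eu i a b : Mt t m F) * eu i a b = 0 :=
  eu_mul_ne i h.symm _ _

/-- A root element of one factor. -/
noncomputable def rootU (i : Fin t) (a b : Fin m) (h : a ≠ b) (c : F) : GL (Fin t → Fin m) F :=
  ⟨1 + c • eu i a b, 1 - c • eu i a b,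
    one_add_mul_one_sub (by rw [smul_mul_assoc, mul_smul_comm, eu_sq i h, smul_zero, smul_zero]),
    by
      have h2 : (c • eu i a b : Mt t m F) * (c • eu i a b) = 0 := by
        rw [smul_mul_assoc, mul_smul_comm, eu_sq i h, smul_zero, smul_zero]
      rw [sub_mul, one_mul, mul_add, mul_one, h2]; abel⟩

lemma rootU_val (i : Fin t) {a b : Fin m} (h : a ≠ b) (c : F) :
    (rootU i a b h c : Mt t m F) = 1 + c • eu i a b := rfl

lemma rootU_inv_val (i : Fin t) {a b : Fin m} (h : a ≠ b) (c : F) :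
    (((rootU i a b h c)⁻¹ : GL (Fin t → Fin m) F) : Mt t m F) = 1 - c • eu i a b := rfl

lemma rootU_comm (i : Fin t) {a b c : Fin m} (hab : a ≠ b) (hac : a ≠ c) (hcb : c ≠ b) (r : F) :
    rootU i a b hab r = ⁅rootU i a c hac r, rootU i c b hcb 1⁆ := by
  refine Units.ext ?_
  rw [commutatorElement_def, Units.val_mul, Units.val_mul, Units.val_mul, rootU_inv_val, rootU_inv_val,
    rootU_val, rootU_val, rootU_val, one_smul]
  have e1 : (eu i a c : Mt t m F) * eu i a c = 0 := eu_sq i hac
  have e2 : (eu i c b : Mt t m F) * eu i c b = 0 := eu_sq i hcb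
  have e3 : (eu i c b : Mt t m F) * eu i a c = 0 := eu_mul_ne i hab.symm _ _
  set X : Mt t m F := r • eu i a c with hX
  set Y : Mt t m F := eu i c b with hY
  have hXX : X * X = 0 := by rw [hX, smul_mul_assoc, mul_smul_comm, e1, smul_zero, smul_zero]
  have hYX : Y * X = 0 := by rw [hX, mul_smul_comm, e3, smul_zero]
  have hXY : X * Y = r • eu i a b := by rw [hX, hY, smul_mul_assoc, eu_mul]
  calc 1 + r • (eu i a b : Mt t m F) = 1 + X * Y := by rw [hXY]
    _ = 1 + X * Y - X * X - Y * X - Y * Y + (X * X) * Y - X * (Y * X) - X * (Y * Y) + (Y * X) * Y +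
          X * (Y * X) * Y := by rw [hXX, hYX, e2]; simp
    _ = _ := by noncomm_ring

lemma det_slotU (hm : 3 ≤ m) (i : Fin t) {a : GL (Fin m) F} (ha : a ∈ specialLinear (Fin m) F) :
    slotU i a ∈ specialLinear (Fin t → Fin m) F := by
  haveI : Nontrivial (Fin m) := Fin.nontrivial_iff_two_le.mpr (by omega)
  have key : ∀ A : Matrix.SpecialLinearGroup (Fin m) F,
      slotU i (Matrix.SpecialLinearGroup.toGL A) ∈ specialLinear (Fin t → Fin m) F := by
    refine CfsgLib.Linear.transvection_induction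
      (fun A => slotU i (Matrix.SpecialLinearGroup.toGL A) ∈ specialLinear (Fin t → Fin m) F) ?_ ?_
    · intro p q hpq c
      obtain ⟨r, hrp, hrq⟩ := exists_third hm p q
      have : slotU i (Matrix.SpecialLinearGroup.toGL (Matrix.SpecialLinearGroup.transvection hpq c)) =
          rootU i p q hpq c := Units.ext (by
        show slot i (1 + Matrix.single p q c) = 1 + c • eu i p q
        rw [slot_add, slot_one, eu, ← slot_smul, Matrix.smul_single, smul_eq_mul, mul_one])
      rw [this, rootU_comm i hpq hrp.symm hrq]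
      rw [specialLinear, MonoidHom.mem_ker, map_commutatorElement, commutatorElement_eq_one_iff_commute]
      exact mul_comm _ _
    · intro A B hA hB; rw [map_mul, map_mul]; exact mul_mem hA hB
  have := key ⟨(a : Matrix (Fin m) (Fin m) F), mem_specialLinear.1 ha⟩
  rwa [show Matrix.SpecialLinearGroup.toGL (⟨(a : Matrix (Fin m) (Fin m) F), mem_specialLinear.1 ha⟩ :
    Matrix.SpecialLinearGroup (Fin m) F) = a from Units.ext rfl] at this

lemma tensUnit_mem (a : Fin t → GL (Fin m) F) (σ : Equiv.Perm (Fin t)) :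
    tensUnit a * permUnit m σ ∈ tensorWreathStandard m t F :=
  Subgroup.mul_mem _ (Subgroup.subset_closure (Or.inl ⟨a, fun _ _ => rfl⟩))
    (Subgroup.subset_closure (Or.inr ⟨σ, fun _ _ => rfl⟩))

lemma slotU_mem_wreath (i : Fin t) (a : GL (Fin m) F) : slotU i a ∈ tensorWreathStandard m t F := by
  refine Subgroup.subset_closure (Or.inl ⟨Function.update 1 i a, fun x y => ?_⟩)
  rw [slotU_val, slot]
  simp only [tens, Matrix.of_apply]
  refine Finset.prod_congr rfl fun l _ => ?_
  rcases eq_or_ne l i with rfl | hl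
  · simp
  · simp [Function.update_of_ne hl]

lemma permMat_mul (σ τ : Equiv.Perm (Fin t)) :
    (permMat m σ : Mt t m F) * permMat m τ = permMat m (σ * τ) := by
  ext x y
  rw [permMat_mul_apply]
  simp only [permMat, Matrix.of_apply, Function.comp_assoc, Equiv.Perm.coe_mul]
  congr

lemma det_permUnit_sq (σ : Equiv.Perm (Fin t)) :
    permUnit m (σ * σ) ∈ specialLinear (Fin t → Fin m) F := by
  rw [mem_specialLinear]
  show (permMat m (σ * σ) : Mt t m F).det = 1
  have h := congrArg Matrix.det (permMat_mul_inv (m := m) (F := F) σ)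
  rw [Matrix.det_mul, ← permMat_transpose, Matrix.det_transpose, Matrix.det_one] at h
  rw [← permMat_mul, Matrix.det_mul, h]

/-- An overgroup of the stabiliser without the special linear group. -/
structure Bad (M : Subgroup (GL (Fin t → Fin m) F)) : Prop where
  le : tensorWreathStandard m t F ⊓ specialLinear (Fin t → Fin m) F ≤ M
  nsl : ¬ specialLinear (Fin t → Fin m) F ≤ M

namespace Bad

lemma slot_mem (hM : Bad M) (hm : 3 ≤ m) (i : Fin t) {a : GL (Fin m) F} (ha : a ∈ specialLinear (Fin m) F) :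
    slotU i a ∈ M :=
  hM.le ⟨slotU_mem_wreath i a, det_slotU hm i ha⟩

lemma root_mem (hM : Bad M) (hm : 3 ≤ m) (i : Fin t) {a b : Fin m} (hab : a ≠ b) (c : F) :
    Mem M (1 + c • eu i a b) := by
  let A : GL (Fin m) F :=
    Matrix.SpecialLinearGroup.toGL (Matrix.SpecialLinearGroup.transvection hab c)
  refine ⟨slotU i A, hM.slot_mem hm i (mem_specialLinear.2 (Matrix.det_transvection_of_ne a b hab c)), ?_⟩
  show slot i (1 + Matrix.single a b c) = _
  rw [slot_add, slot_one, eu, ← slot_smul, Matrix.smul_single, smul_eq_mul, mul_one]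

lemma perm_mem (hM : Bad M) (σ : Equiv.Perm (Fin t)) : Mem M (permMat m (σ * σ)) :=
  ⟨permUnit m (σ * σ), hM.le ⟨Subgroup.subset_closure (Or.inr ⟨σ * σ, fun _ _ => rfl⟩), det_permUnit_sq σ⟩, rfl⟩

/-- The matrices `B` on the other factors with `1 + eu i a b * B` in `M`. -/
def adm (M : Subgroup (GL (Fin t → Fin m) F)) (i : Fin t) : Set (Mt t m F) :=
  {B | Com i B ∧ ∀ a b, a ≠ b → Mem M (1 + eu i a b * B)}

lemma sq_zero {i : Fin t} {a b : Fin m} (h : a ≠ b) {B : Mt t m F} (hB : Com i B) :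
    (eu i a b * B) * (eu i a b * B) = 0 := by
  rw [mul_assoc, ← mul_assoc B, ← hB, mul_assoc, ← mul_assoc, eu_sq i h, zero_mul]

lemma mem_move (hM : Bad M) (hm : 3 ≤ m) {i : Fin t} {B : Mt t m F} (hB : Com i B) {a b c : Fin m}
    (hab : a ≠ b) (hca : c ≠ a) (hcb : c ≠ b) (h : Mem M (1 + eu i a b * B)) :
    Mem M (1 + eu i a c * B) ∧ Mem M (1 + eu i c b * B) := by
  constructor
  · have h2 := h.comm (Y := eu i b c) (by simpa using hM.root_mem hm i hcb.symm 1) (sq_zero hab hB)
      (eu_sq i hcb.symm) (by rw [← mul_assoc, eu_mul_ne i hca, zero_mul])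
    rwa [mul_assoc, ← hB, ← mul_assoc, eu_mul] at h2
  · have h2 := Mem.comm (X := eu i c a) (by simpa using hM.root_mem hm i hca 1) h (eu_sq i hca)
      (sq_zero hab hB) (by rw [mul_assoc, ← hB, ← mul_assoc, eu_mul_ne i hcb.symm, zero_mul])
    rwa [← mul_assoc, eu_mul] at h2

lemma adm_of_one (hM : Bad M) (hm : 3 ≤ m) {i : Fin t} {B : Mt t m F} (hB : Com i B) {a b : Fin m}
    (hab : a ≠ b) (h : Mem M (1 + eu i a b * B)) : B ∈ adm M i := by
  refine ⟨hB, fun p q hpq => ?_⟩
  have right : ∀ {a b c : Fin m}, a ≠ b → c ≠ a → Mem M (1 + eu i a b * B) → Mem M (1 + eu i a c * B) := by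
    intro a b c hab hca h
    rcases eq_or_ne c b with rfl | hcb
    · exact h
    · exact (hM.mem_move hm hB hab hca hcb h).1
  have left : ∀ {a b c : Fin m}, a ≠ b → c ≠ b → Mem M (1 + eu i a b * B) → Mem M (1 + eu i c b * B) := by
    intro a b c hab hcb h
    rcases eq_or_ne c a with rfl | hca
    · exact h
    · exact (hM.mem_move hm hB hab hca hcb h).2
  by_cases hqa : q = a
  · obtain ⟨c, hca, hcb⟩ := exists_third hm a b
    exact left (by rw [hqa]; exact hca) hpq (right hcb (by rw [hqa]; exact hca.symm) (left hab hcb h))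
  · exact left (Ne.symm hqa) hpq (right hab hqa h)

lemma one_mem_adm (hM : Bad M) (hm : 3 ≤ m) (i : Fin t) (c : F) : c • (1 : Mt t m F) ∈ adm M i :=
  ⟨(com_one i).smul c, fun a b hab => by
    rw [mul_smul_comm, mul_one]; exact hM.root_mem hm i hab c⟩

lemma mul_mem_adm (hM : Bad M) (hm : 3 ≤ m) {i : Fin t} {B B' : Mt t m F} (hB : B ∈ adm M i)
    (hB' : B' ∈ adm M i) : B * B' ∈ adm M i := by
  refine ⟨hB.1.mul hB'.1, fun a b hab => ?_⟩
  obtain ⟨c, hca, hcb⟩ := exists_third hm a b
  have h := (hB.2 a c hca.symm).comm (hB'.2 c b hcb) (sq_zero hca.symm hB.1) (sq_zero hcb hB'.1)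
    (by rw [mul_assoc, ← mul_assoc B', ← hB'.1, mul_assoc, ← mul_assoc, eu_mul_ne i hab.symm, zero_mul])
  rwa [mul_assoc, ← mul_assoc B, ← hB.1, mul_assoc, ← mul_assoc, eu_mul] at h

lemma invRing_adm (hM : Bad M) (hm : 3 ≤ m) (i : Fin t) : InvRing i (adm M i) := by
  refine ⟨fun X hX Y hY => ⟨hX.1.add hY.1, fun a b hab => ?_⟩, fun X hX Y hY => hM.mul_mem_adm hm hX hY,
    fun c X hX => ?_, fun X hX => hX.1, fun X hX j hj a b hab => ?_⟩
  · have e : (1 + eu i a b * X) * (1 + eu i a b * Y) = 1 + eu i a b * (X + Y) := by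
      have : (eu i a b * X) * (eu i a b * Y) = 0 := by
        rw [mul_assoc, ← mul_assoc X, ← hX.1, mul_assoc, ← mul_assoc, eu_sq i hab, zero_mul]
      rw [add_mul, one_mul, mul_add (eu i a b * X), mul_one, this, mul_add]
      abel
    exact e ▸ (hX.2 a b hab).mul (hY.2 a b hab)
  · have := hM.mul_mem_adm hm (hM.one_mem_adm hm i c) hX
    rwa [smul_mul_assoc, one_mul] at this
  · refine ⟨(((com_one i).add (com_eu hj.symm a b)).mul hX.1).mul ((com_one i).sub (com_eu hj.symm a b)),
      fun p q hpq => ?_⟩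
    have h1 : Mem M (1 + eu j a b) := by simpa using hM.root_mem hm j hab 1
    have hc : (1 + eu j a b) * eu i p q = eu i p q * (1 + eu j a b : Mt t m F) := by
      rw [add_mul, one_mul, mul_add, mul_one, eu_comm hj]
    have e : (1 + eu j a b) * (1 + eu i p q * X) * (1 - eu j a b) =
        1 + eu i p q * ((1 + eu j a b) * X * (1 - eu j a b)) := by
      rw [mul_add, mul_one, add_mul, one_add_mul_one_sub (eu_sq j hab), ← mul_assoc (1 + eu j a b), hc]
      simp only [mul_assoc]
    exact e ▸ (h1.mul (hX.2 p q hpq)).mul (h1.one_sub (eu_sq j hab))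

/-- All products of units of the factors `i` and `j` give members. -/
def Pair (M : Subgroup (GL (Fin t → Fin m) F)) (i j : Fin t) : Prop :=
  i ≠ j ∧ ∀ a b, (eu j a b : Mt t m F) ∈ adm M i

lemma Pair.symm (hM : Bad M) (hm : 3 ≤ m) {i j : Fin t} (h : Pair M i j) : Pair M j i := by
  have h1 : ∀ a b, a ≠ b → (eu i a b : Mt t m F) ∈ adm M j := fun a b hab =>
    ⟨com_eu h.1.symm a b, fun c d _ => by rw [← eu_comm h.1]; exact (h.2 c d).2 a b hab⟩
  refine ⟨h.1.symm, fun a b => ?_⟩
  rcases eq_or_ne a b with rfl | hab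
  · obtain ⟨c, hca, -⟩ := exists_third hm a a
    rw [← eu_mul i a c a]
    exact hM.mul_mem_adm hm (h1 a c hca.symm) (h1 c a hca)
  · exact h1 a b hab

lemma Pair.perm (hM : Bad M) {i j : Fin t} (h : Pair M i j) (σ : Equiv.Perm (Fin t)) :
    Pair M ((σ * σ) i) ((σ * σ) j) := by
  set π := σ * σ with hπ
  refine ⟨fun e => h.1 (π.injective e), fun a b => ⟨com_eu (fun e => h.1 (π.injective e)) a b, fun c d hcd => ?_⟩⟩
  have hp := hM.perm_mem σ
  have e : permMat m π * (1 + eu i c d * eu j a b) * permMat m π.symm =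
      (1 : Mt t m F) + eu (π i) c d * eu (π j) a b := by
    have hc : ∀ l p q, (permMat m π : Mt t m F) * eu l p q = eu (π l) p q * permMat m π := fun l p q =>
      permMat_mul_slot π l _
    rw [mul_add, mul_one, add_mul, permMat_mul_inv, ← mul_assoc, hc, mul_assoc (eu (π i) c d), hc, ← mul_assoc,
      mul_assoc (eu (π i) c d * eu (π j) a b), permMat_mul_inv, mul_one]
  exact e ▸ (hp.mul ((h.2 a b).2 c d hcd)).mul (hp.inv (permMat_mul_inv π))

lemma Pair.move (hM : Bad M) (hm : 3 ≤ m) {a b : Fin t} (h : Pair M a b) {c : Fin t} (hca : c ≠ a) :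
    Pair M a c := by
  rcases eq_or_ne c b with rfl | hcb
  · exact h
  set π : Equiv.Perm (Fin t) := Equiv.swap a b * Equiv.swap b c with hπ
  have ha : π a = b := by
    simp [hπ, Equiv.Perm.mul_apply, Equiv.swap_apply_of_ne_of_ne h.1 hca.symm]
  have hb : π b = c := by
    simp [hπ, Equiv.Perm.mul_apply, Equiv.swap_apply_of_ne_of_ne hca hcb]
  have hc : π c = a := by simp [hπ, Equiv.Perm.mul_apply]
  have h2 := Pair.perm hM h π
  have e1 : (π * π) a = c := (congrArg π ha).trans hb
  have e2 : (π * π) b = a := (congrArg π hb).trans hc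
  rw [e1, e2] at h2
  exact Pair.symm hM hm h2

/-- The matrices `B` of the root-type members are scalars. -/
theorem adm_scalar [NeZero m] (hM : Bad M) (hm : 3 ≤ m) {i : Fin t} {B : Mt t m F} (hB : B ∈ adm M i) :
    ∃ c : F, B = c • 1 := by
  by_contra hns
  obtain ⟨j, hji, hj⟩ := (hM.invRing_adm hm i).exists_full_factor hm hB hns
  have hpair : Pair M i j := ⟨hji.symm, hj⟩
  have hall : ∀ k l, k ≠ l → Pair M k l := by
    have hil : ∀ l, l ≠ i → Pair M i l := fun l hl => Pair.move hM hm hpair hl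
    intro k l hkl
    rcases eq_or_ne k i with rfl | hk
    · exact hil l hkl.symm
    · exact Pair.move hM hm (Pair.symm hM hm (hil k hk)) hkl.symm
  refine hM.nsl (specialLinear_le_of_elementary fun x y hxy c => ?_)
  obtain ⟨k, hk⟩ := Function.ne_iff.1 hxy
  have hprod : ∀ K : Finset (Fin t), k ∉ K → (InvRing.pu K x y : Mt t m F) ∈ adm M k := by
    intro K
    induction K using Finset.induction_on with
    | empty =>
      intro _
      have : (InvRing.pu ∅ x y : Mt t m F) = (1 : F) • 1 := by simp [InvRing.pu, tens_one]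
      rw [this]; exact hM.one_mem_adm hm k 1
    | insert l K hlK ih =>
      intro hkK
      simp only [Finset.mem_insert, not_or] at hkK
      have : (InvRing.pu (insert l K) x y : Mt t m F) = eu l (x l) (y l) * InvRing.pu K x y := by
        rw [eu, slot, InvRing.pu, InvRing.pu, tens_mul]
        congr 1
        funext r
        rcases eq_or_ne r l with rfl | hr
        · simp [hlK]
        · simp [Function.update_of_ne hr, hr]
      rw [this]
      exact hM.mul_mem_adm hm ((hall k l hkK.1).2 _ _) (ih hkK.2)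
  have hsingle : eu k (x k) (y k) * InvRing.pu (Finset.univ.erase k) x y = Matrix.single x y (1 : F) := by
    rw [eu, slot, InvRing.pu, tens_mul]
    ext u v
    simp only [tens, Matrix.of_apply]
    rw [Matrix.single_apply]
    by_cases h : x = u ∧ y = v
    · rw [if_pos h]
      refine Finset.prod_eq_one fun r _ => ?_
      rcases eq_or_ne r k with rfl | hr <;> simp [*, h.1, h.2]
    · rw [if_neg h]
      obtain ⟨r, hr⟩ : ∃ r, ¬ (x r = u r ∧ y r = v r) := by
        by_contra hc
        push Not at hc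
        exact h ⟨funext fun r => (hc r).1, funext fun r => (hc r).2⟩
      refine Finset.prod_eq_zero (Finset.mem_univ r) ?_
      rcases eq_or_ne r k with rfl | hrk
      · simpa [Matrix.single_apply] using hr
      · simpa [Function.update_of_ne hrk, hrk, Matrix.single_apply] using hr
  have hmem := ((hM.invRing_adm hm k).smul c _ (hprod _ (Finset.notMem_erase k Finset.univ))).2 _ _ hk
  rw [mul_smul_comm, hsingle, Matrix.smul_single, smul_eq_mul, mul_one] at hmem
  obtain ⟨g, hg, hgv⟩ := hmem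
  have hd : (Pi.single y 1 : (Fin t → Fin m) → F) ⬝ᵥ (c • Pi.single x 1) = 0 := by simp [hxy.symm]
  refine ⟨hd, ?_⟩
  rwa [show tvec (c • Pi.single x 1) (Pi.single y 1) hd = g from Units.ext (by
    rw [tvec_val, ← transvection_eq_tvec hxy, hgv]; rfl)]

end Bad

end CfsgLib.Geo.TensorPow
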