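/-
Multilinear forms in coefficients and their sums over the cosets of a stabiliser.
-/
import Cfsg.Agent.Geo.TensorPow.Full
import Mathlib.FieldTheory.ChevalleyWarning

set_option autoImplicit false
set_option linter.unusedSectionVars false

namespace CfsgLib.Geo.TensorPow

open Matrix Cfsg Cfsg.Geo CfsgLib.Geo CfsgLib.Aschbacher
open scoped MatrixGroups

variable {F : Type*} [Field F]

/-- An entry of `g` for a vector slot, of the inverse for a covector slot. -/
def ent {ι : Type} [Fintype ι] [DecidableEq ι] (g : GL ι F) (ε : Bool) (b a : ι) : F :=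
  if ε then (g : Matrix ι ι F) b a else ((g⁻¹ : GL ι F) : Matrix ι ι F) a b

lemma ent_true {ι : Type} [Fintype ι] [DecidableEq ι] (g : GL ι F) (b a : ι) :
    ent g true b a = (g : Matrix ι ι F) b a := rfl

lemma ent_false {ι : Type} [Fintype ι] [DecidableEq ι] (g : GL ι F) (b a : ι) :
    ent g false b a = ((g⁻¹ : GL ι F) : Matrix ι ι F) a b := rfl

lemma ent_one {ι : Type} [Fintype ι] [DecidableEq ι] (ε : Bool) (b a : ι) :
    ent (1 : GL ι F) ε b a = if b = a then 1 else 0 := by
  cases ε
  · rw [ent_false, inv_one, Units.val_one, Matrix.one_apply]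
    exact if_congr eq_comm rfl rfl
  · rw [ent_true, Units.val_one, Matrix.one_apply]

lemma ent_mul {ι : Type} [Fintype ι] [DecidableEq ι] (g h : GL ι F) (ε : Bool) (b a : ι) :
    ent (g * h) ε b a = ∑ c, ent g ε b c * ent h ε c a := by
  cases ε
  · simp only [ent_false, _root_.mul_inv_rev, Units.val_mul, Matrix.mul_apply]
    exact Finset.sum_congr rfl fun c _ => mul_comm _ _
  · simp only [ent_true, Units.val_mul, Matrix.mul_apply]

variable {t m d : ℕ}

/-- The action on coefficients of forms with `d` arguments. -/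
def act (ε : Fin d → Bool) (g : GL (Fin t → Fin m) F) (C : (Fin d → Fin t → Fin m) → F)
    (a : Fin d → Fin t → Fin m) : F :=
  ∑ b : Fin d → Fin t → Fin m, (∏ k, ent g (ε k) (b k) (a k)) * C b

variable (ε : Fin d → Bool)

lemma act_one (C : (Fin d → Fin t → Fin m) → F) : act ε 1 C = C := by
  funext a
  rw [act, Finset.sum_eq_single a]
  · simp [ent_one]
  · intro b _ hb
    obtain ⟨k, hk⟩ := Function.ne_iff.1 hb
    rw [Finset.prod_eq_zero (Finset.mem_univ k) (by rw [ent_one, if_neg hk]), zero_mul]
  · simp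

lemma act_mul (g h : GL (Fin t → Fin m) F) (C : (Fin d → Fin t → Fin m) → F) :
    act ε (g * h) C = act ε h (act ε g C) := by
  funext a
  simp only [act, Finset.mul_sum]
  rw [Finset.sum_comm]
  refine Finset.sum_congr rfl fun b _ => ?_
  simp only [ent_mul, Fintype.prod_sum, Finset.sum_mul]
  refine Finset.sum_congr rfl fun c _ => ?_
  rw [Finset.prod_mul_distrib]
  ring

lemma act_sum {α : Type*} (g : GL (Fin t → Fin m) F) (s : Finset α) (C : α → (Fin d → Fin t → Fin m) → F) :
    act ε g (∑ x ∈ s, C x) = ∑ x ∈ s, act ε g (C x) := by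
  funext a
  simp only [act, Finset.sum_apply, Finset.mul_sum]
  exact Finset.sum_comm

lemma act_sub (g : GL (Fin t → Fin m) F) (C C' : (Fin d → Fin t → Fin m) → F) :
    act ε g (C - C') = act ε g C - act ε g C' := by
  funext a
  simp only [act, Pi.sub_apply, mul_sub, Finset.sum_sub_distrib]

lemma act_inv_of_fixed {g : GL (Fin t → Fin m) F} {C : (Fin d → Fin t → Fin m) → F} (h : act ε g C = C) :
    act ε g⁻¹ C = C := by
  conv_lhs => rw [← h]
  rw [← act_mul, mul_inv_cancel, act_one]

lemma act_slot (i : Fin t) (A : GL (Fin m) F) (C : (Fin d → Fin t → Fin m) → F) (a : Fin d → Fin t → Fin m) :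
    act ε (slotU i A) C a =
      ∑ v : Fin d → Fin m, (∏ k, ent A (ε k) (v k) (a k i)) * C (fun k => Function.update (a k) i (v k)) := by
  symm
  have hslot : ∀ (e : Bool) (b x : Fin t → Fin m), ent (slotU i A) e b x =
      if ∀ l, l ≠ i → b l = x l then ent A e (b i) (x i) else 0 := by
    intro e b x
    cases e
    · simp only [ent_false, ← map_inv, slotU_val, slot_apply]
      exact if_congr ⟨fun h l hl => (h l hl).symm, fun h l hl => (h l hl).symm⟩ rfl rfl
    · simp only [ent_true, slotU_val, slot_apply]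
  refine Fintype.sum_of_injective (fun v k => Function.update (a k) i (v k)) (fun v v' h => ?_) _ _
    (fun b hb => ?_) (fun v => ?_)
  · funext k
    have := congrFun (congrFun h k) i
    simpa using this
  · obtain ⟨k, hk⟩ : ∃ k, ¬ ∀ l, l ≠ i → b k l = a k l := by
      by_contra hc
      push Not at hc
      refine hb ⟨fun k => b k i, funext fun k => funext fun l => ?_⟩
      rcases eq_or_ne l i with rfl | hl
      · simp
      · simp [Function.update_of_ne hl, hc k l hl]
    rw [Finset.prod_eq_zero (Finset.mem_univ k) (by rw [hslot, if_neg hk]), zero_mul]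
  · congr 1
    refine Finset.prod_congr rfl fun k _ => ?_
    beta_reduce
    rw [hslot, if_pos fun l hl => Function.update_of_ne hl _ _, Function.update_self]

variable [Fintype F]

lemma sum_prod_affine [DecidableEq F] {P : Type*} [Fintype P] [DecidableEq P] (c : Fin d → F) (l : Fin d → P → F)
    (h : (Finset.univ.filter fun k => l k ≠ 0).card < (Fintype.card F - 1) * Fintype.card P) :
    ∑ u : P → F, ∏ k, (c k + ∑ p, l k p * u p) = 0 := by
  set f : MvPolynomial P F := ∏ k, (MvPolynomial.C (c k) + ∑ p, MvPolynomial.C (l k p) * MvPolynomial.X p) with hf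
  have hdeg : f.totalDegree ≤ (Finset.univ.filter fun k => l k ≠ 0).card := by
    refine (MvPolynomial.totalDegree_finset_prod _ _).trans ?_
    rw [Finset.card_filter]
    refine Finset.sum_le_sum fun k _ => ?_
    by_cases hk : l k = 0
    · simp [hk]
    · rw [if_pos hk]
      refine (MvPolynomial.totalDegree_add _ _).trans (max_le (by simp) ?_)
      refine MvPolynomial.totalDegree_finsetSum_le fun p _ => ?_
      refine (MvPolynomial.totalDegree_mul _ _).trans ?_
      simp [MvPolynomial.totalDegree_X]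
  have := MvPolynomial.sum_eval_eq_zero f (hdeg.trans_lt h)
  rw [← this]
  exact Finset.sum_congr rfl fun u _ => by simp [hf, map_prod]

lemma sum_free_orbits {U : Type*} [AddCommGroup U] [Fintype U] {X : Type*} [DecidableEq X] (op : U → X → X)
    (h0 : ∀ x, op 0 x = x) (hadd : ∀ u u' x, op (u + u') x = op u (op u' x)) {A : Type*} [AddCommMonoid A]
    (φ : X → A) (hφ : ∀ x, ∑ u, φ (op u x) = 0) (T : Finset X) (hcl : ∀ u, ∀ x ∈ T, op u x ∈ T)
    (hfree : ∀ u, ∀ x ∈ T, op u x = x → u = 0) : ∑ x ∈ T, φ x = 0 := by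
  induction T using Finset.strongInduction with
  | _ T ih =>
    rcases T.eq_empty_or_nonempty with rfl | ⟨x₀, hx₀⟩
    · simp
    set O := Finset.univ.image (fun u => op u x₀) with hO
    have hOT : O ⊆ T := fun x hx => by
      obtain ⟨u, -, rfl⟩ := Finset.mem_image.1 hx
      exact hcl u _ hx₀
    have hx₀O : x₀ ∈ O := Finset.mem_image.2 ⟨0, Finset.mem_univ _, h0 _⟩
    have h1 := ih (T \ O) (Finset.sdiff_ssubset hOT ⟨x₀, hx₀O⟩)
      (fun u x hx => by
        obtain ⟨hxT, hxO⟩ := Finset.mem_sdiff.1 hx
        refine Finset.mem_sdiff.2 ⟨hcl u x hxT, fun h => hxO ?_⟩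
        obtain ⟨u', -, hu'⟩ := Finset.mem_image.1 h
        exact Finset.mem_image.2 ⟨-u + u', Finset.mem_univ _, by rw [hadd, hu', ← hadd, neg_add_cancel, h0]⟩)
      (fun u x hx => hfree u x (Finset.mem_sdiff.1 hx).1)
    rw [← Finset.sum_sdiff hOT, h1, zero_add, hO, Finset.sum_image, hφ]
    intro u _ u' _ e
    have e' : op u x₀ = op u' x₀ := e
    have := hfree (-u' + u) x₀ hx₀ (by rw [hadd, e', ← hadd, neg_add_cancel, h0])
    exact (neg_add_eq_zero.1 this).symm

end CfsgLib.Geo.TensorPow
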