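/-
A member of a bad overgroup mapping a root element of one factor to one of another maps the whole factor
to the other; members mapping every factor to a factor lie in the wreath group.
-/
import Cfsg.Agent.Geo.TensorPow.Full

set_option autoImplicit false
set_option linter.unusedSectionVars false

namespace CfsgLib.Geo.TensorPow

open Matrix Cfsg Cfsg.Geo CfsgLib.Geo CfsgLib.Aschbacher
open scoped MatrixGroups

variable {F : Type*} [Field F] {t m : ℕ}

/-- Conjugation. -/
def cj (g : GL (Fin t → Fin m) F) (X : Mt t m F) : Mt t m F :=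
  (g : Mt t m F) * X * ((g⁻¹ : GL (Fin t → Fin m) F) : Mt t m F)

lemma cj_mul (g : GL (Fin t → Fin m) F) (X Y : Mt t m F) : cj g (X * Y) = cj g X * cj g Y := by
  simp [cj, mul_assoc]

lemma cj_add (g : GL (Fin t → Fin m) F) (X Y : Mt t m F) : cj g (X + Y) = cj g X + cj g Y := by
  simp [cj, mul_add, add_mul]

lemma cj_smul (g : GL (Fin t → Fin m) F) (c : F) (X : Mt t m F) : cj g (c • X) = c • cj g X := by
  simp [cj, mul_smul_comm, smul_mul_assoc]

lemma cj_zero (g : GL (Fin t → Fin m) F) : cj g (0 : Mt t m F) = 0 := by simp [cj]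

lemma cj_one (g : GL (Fin t → Fin m) F) : cj g (1 : Mt t m F) = 1 := by simp [cj]

lemma cj_cj_inv (g : GL (Fin t → Fin m) F) (X : Mt t m F) : cj g (cj g⁻¹ X) = X := by simp [cj, mul_assoc]

lemma cj_inv_cj (g : GL (Fin t → Fin m) F) (X : Mt t m F) : cj g⁻¹ (cj g X) = X := by simp [cj, mul_assoc]

lemma cj_comp (g h : GL (Fin t → Fin m) F) (X : Mt t m F) : cj (g * h) X = cj g (cj h X) := by
  simp [cj, mul_assoc]

lemma cj_injective (g : GL (Fin t → Fin m) F) : Function.Injective (cj g) :=
  Function.LeftInverse.injective (cj_inv_cj g)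

/-- The matrix acts on the factor `k` only. -/
def InSlot (k : Fin t) (X : Mt t m F) : Prop := ∃ A : Matrix (Fin m) (Fin m) F, X = slot k A

lemma inSlot_slot (k : Fin t) (A : Matrix (Fin m) (Fin m) F) : InSlot k (slot k A : Mt t m F) := ⟨A, rfl⟩

lemma inSlot_eu (k : Fin t) (p q : Fin m) : InSlot k (eu k p q : Mt t m F) := ⟨_, rfl⟩

lemma InSlot.mul {k : Fin t} {X Y : Mt t m F} (hX : InSlot k X) (hY : InSlot k Y) : InSlot k (X * Y) := by
  obtain ⟨A, rfl⟩ := hX; obtain ⟨B, rfl⟩ := hY
  exact ⟨A * B, slot_mul k A B⟩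

lemma InSlot.add {k : Fin t} {X Y : Mt t m F} (hX : InSlot k X) (hY : InSlot k Y) : InSlot k (X + Y) := by
  obtain ⟨A, rfl⟩ := hX; obtain ⟨B, rfl⟩ := hY
  exact ⟨A + B, (slot_add k A B).symm⟩

lemma InSlot.smul {k : Fin t} {X : Mt t m F} (hX : InSlot k X) (c : F) : InSlot k (c • X) := by
  obtain ⟨A, rfl⟩ := hX
  exact ⟨c • A, (slot_smul k c A).symm⟩

lemma inSlot_zero (k : Fin t) : InSlot k (0 : Mt t m F) := ⟨0, (slot_zero k).symm⟩

lemma InSlot.sum {α : Type*} {k : Fin t} (s : Finset α) {f : α → Mt t m F} (h : ∀ a ∈ s, InSlot k (f a)) :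
    InSlot k (∑ a ∈ s, f a) :=
  Finset.sum_induction f _ (fun _ _ => InSlot.add) (inSlot_zero k) h

/-- Every unit of the factor `i` goes to the factor `k`. -/
def Pres (g : GL (Fin t → Fin m) F) (i k : Fin t) : Prop := ∀ p q, InSlot k (cj g (eu i p q))

lemma Pres.slot {g : GL (Fin t → Fin m) F} {i k : Fin t} (h : Pres g i k) (A : Matrix (Fin m) (Fin m) F) :
    InSlot k (cj g (slot i A)) := by
  rw [slot_eq_sum]
  simp only [cj, Finset.mul_sum, Finset.sum_mul, mul_smul_comm, smul_mul_assoc]
  exact InSlot.sum _ fun p _ => InSlot.sum _ fun q _ => (h p q).smul _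

lemma Pres.mul {g h : GL (Fin t → Fin m) F} {i k l : Fin t} (hh : Pres h i k) (hg : Pres g k l) :
    Pres (g * h) i l := fun p q => by
  obtain ⟨A, hA⟩ := hh p q
  rw [cj_comp, hA]
  exact hg.slot A

lemma Pres.exists_map [NeZero m] {g : GL (Fin t → Fin m) F} {i k : Fin t} (h : Pres g i k) :
    ∃ φ : Matrix (Fin m) (Fin m) F →ₗ[F] Matrix (Fin m) (Fin m) F, Function.Bijective φ ∧
      (∀ A B, φ (A * B) = φ A * φ B) ∧ ∀ A, cj g (CfsgLib.Aschbacher.slot i A) = CfsgLib.Aschbacher.slot k (φ A) := by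
  choose M hM using h
  let φ : Matrix (Fin m) (Fin m) F →ₗ[F] Matrix (Fin m) (Fin m) F :=
    { toFun := fun A => ∑ p, ∑ q, A p q • M p q
      map_add' := fun A B => by simp [add_smul, Finset.sum_add_distrib]
      map_smul' := fun c A => by simp [Finset.smul_sum, smul_smul] }
  have hφ : ∀ A, cj g (CfsgLib.Aschbacher.slot i A) = CfsgLib.Aschbacher.slot k (φ A) := fun A => by
    rw [slot_eq_sum i A]
    show _ = slotL k (∑ p, ∑ q, A p q • M p q)
    simp only [map_sum, map_smul, cj, Finset.mul_sum, Finset.sum_mul, mul_smul_comm, smul_mul_assoc]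
    exact Finset.sum_congr rfl fun p _ => Finset.sum_congr rfl fun q _ => congrArg (A p q • ·) (hM p q)
  have hinj : Function.Injective φ := fun A B e =>
    slot_injective i (cj_injective g (by rw [hφ, hφ, e]))
  exact ⟨φ, ⟨hinj, LinearMap.injective_iff_surjective.1 hinj⟩,
    fun A B => slot_injective k (by rw [← hφ, ← slot_mul, cj_mul, hφ, hφ, slot_mul]), hφ⟩

lemma Pres.com [NeZero m] {g : GL (Fin t → Fin m) F} {i k : Fin t} (h : Pres g i k) {X : Mt t m F}
    (hX : Com i X) : Com k (cj g X) := by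
  intro p q
  obtain ⟨φ, hb, -, hφ⟩ := h.exists_map
  obtain ⟨A, hA⟩ := hb.2 (Matrix.single p q 1)
  rw [eu, ← hA, ← hφ, ← cj_mul, hX.slot_comm, cj_mul]

variable {M : Subgroup (GL (Fin t → Fin m) F)}

lemma Mem.cj {X : Mt t m F} (h : Mem M (1 + X)) {g : GL (Fin t → Fin m) F} (hg : g ∈ M) :
    Mem M (1 + cj g X) := by
  obtain ⟨x, hx, hxv⟩ := h
  refine ⟨g * x * g⁻¹, M.mul_mem (M.mul_mem hg hx) (M.inv_mem hg), ?_⟩
  rw [Units.val_mul, Units.val_mul, hxv]
  simp [TensorPow.cj, mul_add, add_mul]

lemma det_one_add [Finite F] {A : Matrix (Fin m) (Fin m) F} (hA : A * A = 0) : (1 + A).det = 1 := by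
  obtain ⟨p, hchar⟩ := CharP.exists F
  haveI : Fact p.Prime := ⟨(CharP.char_is_prime_or_zero F p).resolve_right (CharP.char_ne_zero_of_finite F p)⟩
  have hpow : ∀ n : ℕ, (1 + A) ^ n = 1 + (n : F) • A := by
    intro n
    induction n with
    | zero => simp
    | succ n ih =>
      rw [pow_succ, ih, mul_add, mul_one, add_mul, one_mul, smul_mul_assoc, hA, smul_zero, add_zero,
        Nat.cast_succ, add_smul, one_smul]
      abel
  have h := congrArg Matrix.det (hpow p)
  rw [Matrix.det_pow, CharP.cast_eq_zero, zero_smul, add_zero, Matrix.det_one] at h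
  exact frobenius_inj F p (by simpa [frobenius_def] using h)

namespace Bad

variable [NeZero m]

lemma col_inSlot (hM : Bad M) (hm : 3 ≤ m) {k : Fin t} {b : Fin m} {Y : Mt t m F} (hY : Mem M (1 + Y))
    (hr : Y * eu k b b = Y) (hl : eu k b b * Y = 0) : InSlot k Y := by
  refine eq_slot_of_cmp fun p q => ?_
  by_cases hqb : q = b
  swap
  · refine ⟨0, ?_⟩
    rw [zero_smul, cmp]
    refine Finset.sum_eq_zero fun r _ => ?_
    calc eu k r p * Y * eu k q r = eu k r p * (Y * eu k b b) * eu k q r := by rw [hr]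
      _ = 0 := by rw [mul_assoc, mul_assoc, eu_mul_ne k (Ne.symm hqb), mul_zero, mul_zero]
  subst hqb
  by_cases hpb : p = q
  · refine ⟨0, ?_⟩
    subst hpb
    rw [zero_smul, cmp]
    refine Finset.sum_eq_zero fun r _ => ?_
    rw [show eu k r p * Y = eu k r p * (eu k p p * Y) by rw [eu_mul'], hl, mul_zero, zero_mul]
  obtain ⟨r, hrp, hrq⟩ := exists_third hm p q
  have hsq : Y * Y = 0 := by
    calc Y * Y = Y * eu k q q * Y := by rw [hr]
      _ = 0 := by rw [mul_assoc, hl, mul_zero]
  have hYX : Y * eu k r p = 0 := by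
    calc Y * eu k r p = Y * eu k q q * eu k r p := by rw [hr]
      _ = 0 := mul_eu_mul_ne k hrq.symm _ _ _
  have h := Mem.comm (X := eu k r p) (by simpa using hM.root_mem hm k hrp 1) hY (eu_sq k hrp) hsq hYX
  have e : eu k r p * Y = eu k r q * cmp k p q Y := by rw [eu_mul_cmp, mul_assoc, hr]
  rw [e] at h
  exact hM.adm_scalar hm (hM.adm_of_one hm (com_cmp k p q Y) hrq h)

lemma row_inSlot (hM : Bad M) (hm : 3 ≤ m) {k : Fin t} {a : Fin m} {Y : Mt t m F} (hY : Mem M (1 + Y))
    (hl : eu k a a * Y = Y) (hr : Y * eu k a a = 0) : InSlot k Y := by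
  refine eq_slot_of_cmp fun p q => ?_
  by_cases hpa : p = a
  swap
  · refine ⟨0, ?_⟩
    rw [zero_smul, cmp]
    refine Finset.sum_eq_zero fun r _ => ?_
    calc eu k r p * Y * eu k q r = eu k r p * (eu k a a * Y) * eu k q r := by rw [hl]
      _ = 0 := by rw [eu_mul_ne' k hpa, zero_mul]
  subst hpa
  by_cases hqa : q = p
  · refine ⟨0, ?_⟩
    subst hqa
    rw [zero_smul, cmp]
    refine Finset.sum_eq_zero fun r _ => ?_
    rw [mul_assoc, show Y * eu k q r = Y * eu k q q * eu k q r by rw [mul_eu_mul], hr, zero_mul, mul_zero]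
  obtain ⟨r, hrp, hrq⟩ := exists_third hm p q
  have hsq : Y * Y = 0 := by
    calc Y * Y = Y * (eu k p p * Y) := by rw [hl]
      _ = 0 := by rw [← mul_assoc, hr, zero_mul]
  have hXY : eu k q r * Y = 0 := by
    calc eu k q r * Y = eu k q r * (eu k p p * Y) := by rw [hl]
      _ = 0 := eu_mul_ne' k hrp _ _ _
  have h := hY.comm (Y := eu k q r) (by simpa using hM.root_mem hm k hrq.symm 1) hsq (eu_sq k hrq.symm) hXY
  have e : Y * eu k q r = eu k p r * cmp k p q Y := by rw [eu_mul_cmp, hl]
  rw [e] at h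
  exact hM.adm_scalar hm (hM.adm_of_one hm (com_cmp k p q Y) hrp.symm h)

/-- A member mapping a root of the factor `i` to one of the factor `k` maps the factor to the factor. -/
theorem pres_of_root [Finite F] (hM : Bad M) (hm : 3 ≤ m) {g : GL (Fin t → Fin m) F} (hg : g ∈ M)
    {i k : Fin t} {a b : Fin m} (hab : a ≠ b) (hE : cj g (eu i a b) = eu k a b) : Pres g i k := by
  have hroot : ∀ p q, p ≠ q → Mem M (1 + cj g (eu i p q)) := fun p q hpq =>
    Mem.cj (by simpa using hM.root_mem hm i hpq 1) hg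
  set T : Fin m → Fin m → Mt t m F := fun p q => cj g (eu i p q) with hT
  have hTT : ∀ p q r, T p q * T q r = T p r := fun p q r => by
    simp only [hT]; rw [← cj_mul, eu_mul]
  have hT0 : ∀ p q r s, q ≠ r → T p q * T r s = 0 := fun p q r s h => by
    simp only [hT]; rw [← cj_mul, eu_mul_ne i h, cj_zero]
  have hTab : T a b = eu k a b := hE
  -- the column `b` and the row `a`
  have hcol : ∀ p, p ≠ b → InSlot k (T p b) := by
    intro p hp
    refine hM.col_inSlot hm (b := b) (hroot p b hp) ?_ ?_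
    · show T p b * eu k b b = T p b
      rw [← hTT p a b, hTab, mul_eu_mul]
    · show eu k b b * T p b = 0
      rw [show (eu k b b : Mt t m F) = eu k b a * eu k a b from (eu_mul k b a b).symm, mul_assoc, ← hTab,
        hT0 _ _ _ _ hp.symm, mul_zero]
  have hrow : ∀ q, q ≠ a → InSlot k (T a q) := by
    intro q hq
    refine hM.row_inSlot hm (a := a) (hroot a q hq.symm) ?_ ?_
    · show eu k a a * T a q = T a q
      rw [← hTT a b q, hTab, eu_mul']
    · show T a q * eu k a a = 0
      rw [show (eu k a a : Mt t m F) = eu k a b * eu k b a from (eu_mul k a b a).symm, ← mul_assoc, ← hTab,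
        hT0 _ _ _ _ hq, zero_mul]
  have hEi : cj g⁻¹ (eu k a b) = eu i a b := by rw [← hE, cj_inv_cj]
  -- the rows and columns of the factor `k` pulled back
  have hrowI : ∀ p, p ≠ a → InSlot i (cj g⁻¹ (eu k a p)) := by
    intro p hp
    refine hM.row_inSlot hm (a := a) (Mem.cj (by simpa using hM.root_mem hm k hp.symm 1) (M.inv_mem hg)) ?_ ?_
    · rw [← eu_mul k a b p, cj_mul, hEi, eu_mul']
    · rw [← eu_mul i a b a, ← hEi, ← mul_assoc, ← cj_mul, eu_mul_ne k hp, cj_zero, zero_mul]
  have hcolI : ∀ p, p ≠ b → InSlot i (cj g⁻¹ (eu k p b)) := by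
    intro p hp
    refine hM.col_inSlot hm (b := b) (Mem.cj (by simpa using hM.root_mem hm k hp 1) (M.inv_mem hg)) ?_ ?_
    · rw [← eu_mul k p a b, cj_mul, hEi, mul_eu_mul]
    · rw [← eu_mul i b a b, ← hEi, mul_assoc, ← cj_mul, eu_mul_ne k hp.symm, cj_zero, mul_zero]
  obtain ⟨c, hca, hcb⟩ := exists_third hm a b
  have hbc : InSlot k (T b c) := by
    have hpart : ∀ p, p ≠ a → InSlot k (eu k a p * T b c) := by
      intro p hp
      obtain ⟨A, hA⟩ := hrowI p hp
      have hA' : slot i A = eu i a a * slot i A := by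
        rw [← hA, ← eu_mul k a b p, cj_mul, hEi, eu_mul']
      have e : eu k a p * T b c = A a b • T a c := by
        calc eu k a p * T b c = cj g (slot i A) * cj g (eu i b c) := by rw [← hA, cj_cj_inv]
          _ = cj g (eu i a a * slot i A * eu i b c) := by rw [← hA', cj_mul]
          _ = _ := by
            rw [eu, eu, slot_mul, slot_mul, Matrix.single_mul_mul_single, one_mul, mul_one,
              show Matrix.single a c (A a b) = A a b • Matrix.single a c 1 by
                rw [Matrix.smul_single, smul_eq_mul, mul_one], slot_smul, cj_smul]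
            rfl
      rw [e]
      exact (hrow c hca).smul _
    set X := T b c with hX
    have hXa : X * eu k a a = 0 := by
      rw [← eu_mul k a b a, ← hTab, ← mul_assoc, hX, hT0 _ _ _ _ hca, zero_mul]
    have hXX : X * X = 0 := by rw [hX, hT0 _ _ _ _ hcb]
    set S := (1 - eu k a a) * X with hS
    have hSslot : InSlot k S := by
      have e : S = ∑ p ∈ Finset.univ.erase a, eu k p a * (eu k a p * X) := by
        rw [hS, ← sum_eu k, ← Finset.sum_erase_eq_sub (Finset.mem_univ a), Finset.sum_mul]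
        exact Finset.sum_congr rfl fun p _ => by rw [eu_mul']
      rw [e]
      exact InSlot.sum _ fun p hp => (inSlot_eu k p a).mul (hpart p (Finset.ne_of_mem_erase hp))
    obtain ⟨A, hA⟩ := hSslot
    have hXe : X * (1 - eu k a a) = X := by rw [mul_sub, mul_one, hXa, sub_zero]
    have hSS : S * S = 0 := by
      calc S * S = (1 - eu k a a) * (X * (1 - eu k a a)) * X := by simp only [hS, mul_assoc]
        _ = 0 := by rw [hXe, mul_assoc, hXX, mul_zero]
    have hAA : A * A = 0 := slot_injective k (by rw [← slot_mul, ← hA, hSS, slot_zero])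
    have hSmem : Mem M (1 + S) := by
      obtain ⟨u, hu⟩ : IsUnit (1 + A) := (Matrix.isUnit_iff_isUnit_det _).2 (by rw [det_one_add hAA]; exact isUnit_one)
      refine ⟨slotU k u, hM.slot_mem hm k (mem_specialLinear.2 (by rw [hu, det_one_add hAA])), ?_⟩
      rw [slotU_val, hu, slot_add, slot_one, ← hA]
    have hSL : S * (eu k a a * X) = 0 := by
      calc S * (eu k a a * X) = (1 - eu k a a) * (X * eu k a a) * X := by simp only [hS, mul_assoc]
        _ = 0 := by rw [hXa, mul_zero, zero_mul]
    have hL : Mem M (1 + eu k a a * X) := by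
      have e : (1 - S) * (1 + X) = 1 + eu k a a * X := by
        have hsplit : X = S + eu k a a * X := by rw [hS, sub_mul, one_mul, sub_add_cancel]
        calc (1 - S) * (1 + X) = (1 - S) * (1 + (S + eu k a a * X)) := by rw [← hsplit]
          _ = 1 + eu k a a * X - S * S - S * (eu k a a * X) := by noncomm_ring
          _ = _ := by rw [hSS, hSL, sub_zero, sub_zero]
      exact e ▸ (hSmem.one_sub hSS).mul (hroot b c hcb.symm)
    have hLs := hM.row_inSlot hm hL (by rw [eu_mul']) (by rw [mul_assoc, hXa, mul_zero])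
    have : X = S + eu k a a * X := by rw [hS, sub_mul, one_mul, sub_add_cancel]
    rw [this]
    exact InSlot.add ⟨A, hA⟩ hLs
  have hca' : InSlot k (T c a) := by
    have hpart : ∀ p, p ≠ b → InSlot k (T c a * eu k p b) := by
      intro p hp
      obtain ⟨A, hA⟩ := hcolI p hp
      have hA' : slot i A = slot i A * eu i b b := by
        rw [← hA, ← eu_mul k p a b, cj_mul, hEi, mul_eu_mul]
      have e : T c a * eu k p b = A a b • T c b := by
        calc T c a * eu k p b = cj g (eu i c a) * cj g (slot i A) := by rw [← hA, cj_cj_inv]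
          _ = cj g (eu i c a * slot i A * eu i b b) := by rw [mul_assoc, ← hA', cj_mul]
          _ = _ := by
            rw [eu, eu, slot_mul, slot_mul, Matrix.single_mul_mul_single, one_mul, mul_one,
              show Matrix.single c b (A a b) = A a b • Matrix.single c b 1 by
                rw [Matrix.smul_single, smul_eq_mul, mul_one], slot_smul, cj_smul]
            rfl
      rw [e]
      exact (hcol c hcb).smul _
    set X := T c a with hX
    have hbX : eu k b b * X = 0 := by
      rw [← eu_mul k b a b, ← hTab, mul_assoc, hX, hT0 _ _ _ _ hcb.symm, mul_zero]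
    have hXX : X * X = 0 := by rw [hX, hT0 _ _ _ _ hca.symm]
    set S := X * (1 - eu k b b) with hS
    have hSslot : InSlot k S := by
      have e : S = ∑ p ∈ Finset.univ.erase b, X * eu k p b * eu k b p := by
        rw [hS, ← sum_eu k, ← Finset.sum_erase_eq_sub (Finset.mem_univ b), Finset.mul_sum]
        exact Finset.sum_congr rfl fun p _ => by rw [mul_eu_mul]
      rw [e]
      exact InSlot.sum _ fun p hp => (hpart p (Finset.ne_of_mem_erase hp)).mul (inSlot_eu k b p)
    obtain ⟨A, hA⟩ := hSslot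
    have heX : (1 - eu k b b) * X = X := by rw [sub_mul, one_mul, hbX, sub_zero]
    have hSS : S * S = 0 := by
      calc S * S = X * ((1 - eu k b b) * X) * (1 - eu k b b) := by simp only [hS, mul_assoc]
        _ = 0 := by rw [heX, hXX, zero_mul]
    have hAA : A * A = 0 := slot_injective k (by rw [← slot_mul, ← hA, hSS, slot_zero])
    have hSmem : Mem M (1 + S) := by
      obtain ⟨u, hu⟩ : IsUnit (1 + A) := (Matrix.isUnit_iff_isUnit_det _).2 (by rw [det_one_add hAA]; exact isUnit_one)
      refine ⟨slotU k u, hM.slot_mem hm k (mem_specialLinear.2 (by rw [hu, det_one_add hAA])), ?_⟩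
      rw [slotU_val, hu, slot_add, slot_one, ← hA]
    have hLS : X * eu k b b * S = 0 := by
      rw [hS, ← mul_assoc, mul_assoc X, hbX, mul_zero, zero_mul]
    have hsplit : X = S + X * eu k b b := by rw [hS, mul_sub, mul_one, sub_add_cancel]
    have hL : Mem M (1 + X * eu k b b) := by
      have e : (1 + X) * (1 - S) = 1 + X * eu k b b := by
        calc (1 + X) * (1 - S) = (1 + (S + X * eu k b b)) * (1 - S) := by rw [← hsplit]
          _ = 1 + X * eu k b b - S * S - X * eu k b b * S := by noncomm_ring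
          _ = _ := by rw [hSS, hLS, sub_zero, sub_zero]
      exact e ▸ (hroot c a hca).mul (hSmem.one_sub hSS)
    have hLs := hM.col_inSlot hm hL (by rw [mul_eu_mul]) (by rw [← mul_assoc, hbX, zero_mul])
    rw [hsplit]
    exact InSlot.add ⟨A, hA⟩ hLs
  have hba : InSlot k (T b a) := hTT b c a ▸ hbc.mul hca'
  have hTabs : InSlot k (T a b) := hTab ▸ inSlot_eu k a b
  intro p q
  show InSlot k (T p q)
  have hcol' : ∀ p, InSlot k (T p b) := fun p => by
    rcases eq_or_ne p b with rfl | hp
    · exact hTT p a p ▸ hba.mul hTabs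
    · exact hcol p hp
  have hrow' : ∀ q, InSlot k (T a q) := fun q => by
    rcases eq_or_ne q a with rfl | hq
    · exact hTT q b q ▸ hTabs.mul hba
    · exact hrow q hq
  rw [← hTT p a q, ← hTT p b a]
  exact ((hcol' p).mul hba).mul (hrow' q)

end Bad

/-- An element mapping every factor to a factor lies in the wreath group. -/
theorem mem_wreath_of_pres [NeZero m] (hm : 2 ≤ m) (ht : 0 < t) {g : GL (Fin t → Fin m) F}
    (h : ∀ i, ∃ k, Pres g i k) : g ∈ tensorWreathStandard m t F := by
  classical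
  choose f hf using h
  choose φ hφb hφm hφ using fun i => (hf i).exists_map
  have hinj : Function.Injective f := by
    intro i j hij
    by_contra hne
    obtain ⟨A, hA⟩ := (hφb i).2 (Matrix.single ⟨0, by omega⟩ ⟨1, by omega⟩ 1)
    obtain ⟨B, hB⟩ := (hφb j).2 (Matrix.single ⟨1, by omega⟩ ⟨0, by omega⟩ 1)
    have := congrArg (cj g) (slot_mul_comm (F := F) hne A B)
    rw [cj_mul, cj_mul, hφ, hφ, hij, hA, hB, slot_mul, slot_mul] at this
    have h2 := congrFun (congrFun (slot_injective _ this) ⟨0, by omega⟩) ⟨0, by omega⟩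
    rw [Matrix.single_mul_single_same, Matrix.single_mul_single_same, Matrix.single_apply_same,
      Matrix.single_apply, if_neg (by simp)] at h2
    simp at h2
  let π : Equiv.Perm (Fin t) := Equiv.ofBijective f ⟨hinj, Finite.surjective_of_injective hinj⟩
  have hconj : ∀ i, ∃ a : GL (Fin m) F, ∀ p q,
      (a : Matrix (Fin m) (Fin m) F) * Matrix.single p q 1 = φ i (Matrix.single p q 1) * (a : Matrix (Fin m) (Fin m) F) := by
    intro i
    set U : Fin m → Fin m → Matrix (Fin m) (Fin m) F := fun p q => φ i (Matrix.single p q 1) with hU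
    have hUU : ∀ p q r, U p q * U q r = U p r := fun p q r => by
      simp only [hU]; rw [← hφm, Matrix.single_mul_single_same, one_mul]
    have hU0 : ∀ p q r s, q ≠ r → U p q * U r s = 0 := fun p q r s hqr => by
      simp only [hU]; rw [← hφm, Matrix.single_mul_single_of_ne _ _ _ _ hqr, map_zero]
    obtain ⟨o⟩ : Nonempty (Fin m) := ⟨⟨0, by omega⟩⟩
    obtain ⟨v, hv⟩ : ∃ v, U o o *ᵥ v ≠ 0 := by
      by_contra hc
      push Not at hc
      have hz : U o o = 0 := Matrix.ext_iff_mulVec.2 fun v => by rw [hc, Matrix.zero_mulVec]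
      have := (hφb i).1 (hz.trans (map_zero (φ i)).symm)
      simpa using congrFun (congrFun this o) o
    set w := U o o *ᵥ v with hw
    let a : Matrix (Fin m) (Fin m) F := Matrix.of fun r p => (U p o *ᵥ w) r
    have hcolv : ∀ p, a *ᵥ Pi.single p 1 = U p o *ᵥ w := fun p => by
      rw [Matrix.mulVec_single_one]; rfl
    have hax : ∀ x : Fin m → F, a *ᵥ x = ∑ p, x p • (U p o *ᵥ w) := fun x => by
      ext r; simp [a, Matrix.mulVec, dotProduct, Finset.sum_apply, mul_comm]
    have hau : IsUnit a := by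
      rw [← Matrix.mulVec_injective_iff_isUnit]
      intro x y hxy
      funext q
      have h1 : ∀ x : Fin m → F, U o q *ᵥ (a *ᵥ x) = x q • w := fun x => by
        rw [hax, Matrix.mulVec_sum, Finset.sum_eq_single q]
        · rw [Matrix.mulVec_smul, Matrix.mulVec_mulVec, hUU, hw, Matrix.mulVec_mulVec, hUU]
        · intro p _ hp
          rw [Matrix.mulVec_smul, Matrix.mulVec_mulVec, hU0 _ _ _ _ hp.symm, Matrix.zero_mulVec, smul_zero]
        · simp
      have h2 := h1 x
      rw [show a *ᵥ x = a *ᵥ y from hxy, h1 y] at h2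
      exact (smul_left_injective F hv h2).symm
    refine ⟨hau.unit, fun p q => Matrix.ext_iff_mulVec.2 fun x => ?_⟩
    rw [IsUnit.unit_spec, ← Matrix.mulVec_mulVec, ← Matrix.mulVec_mulVec, hax x, Matrix.mulVec_sum,
      Finset.sum_eq_single q]
    · have e : Matrix.single p q (1 : F) *ᵥ x = x q • Pi.single p 1 := by
        ext r
        rcases eq_or_ne r p with rfl | hr
        · simp [Matrix.single_mulVec]
        · simp [Matrix.single_mulVec, hr]
      rw [e, Matrix.mulVec_smul, hcolv, Matrix.mulVec_smul]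
      show _ = x q • U p q *ᵥ (U q o *ᵥ w)
      rw [Matrix.mulVec_mulVec (M := U p q), hUU]
    · intro r _ hr
      rw [Matrix.mulVec_smul, Matrix.mulVec_mulVec, hU0 _ _ _ _ hr.symm, Matrix.zero_mulVec, smul_zero]
    · simp
  choose a ha using hconj
  set T : GL (Fin t → Fin m) F := tensUnit (fun j => a (π.symm j)) * permUnit m π with hT
  have hTc : ∀ i p q, (T : Mt t m F) * eu i p q = slot (π i) (φ i (Matrix.single p q 1)) * (T : Mt t m F) := by
    intro i p q
    show tens _ * permMat m π * _ = _ * (tens _ * permMat m π)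
    rw [eu, mul_assoc, permMat_mul_slot, ← mul_assoc, ← mul_assoc]
    congr 1
    refine tens_mul_slot _ _ ?_
    simpa using ha i p q
  have hg' : ∀ i p q, (g : Mt t m F) * eu i p q = slot (π i) (φ i (Matrix.single p q 1)) * (g : Mt t m F) := by
    intro i p q
    have := hφ i (Matrix.single p q 1)
    show _ = slot (f i) _ * _
    rw [← this, cj, eu, mul_assoc _ _ (g : Mt t m F), Units.inv_mul, mul_one]
  obtain ⟨c, hc⟩ := scalar_of_com (X := ((T⁻¹ : GL (Fin t → Fin m) F) : Mt t m F) * (g : Mt t m F)) fun i p q => by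
    have e : (eu i p q : Mt t m F) * ((T⁻¹ : GL (Fin t → Fin m) F) : Mt t m F)
        = ((T⁻¹ : GL (Fin t → Fin m) F) : Mt t m F) * slot (π i) (φ i (Matrix.single p q 1)) := by
      calc (eu i p q : Mt t m F) * ((T⁻¹ : GL (Fin t → Fin m) F) : Mt t m F)
          = ((T⁻¹ : GL (Fin t → Fin m) F) : Mt t m F) * ((T : Mt t m F) * eu i p q) *
              ((T⁻¹ : GL (Fin t → Fin m) F) : Mt t m F) := by rw [← mul_assoc, Units.inv_mul, one_mul]
        _ = _ := by rw [hTc, mul_assoc, mul_assoc, Units.mul_inv, mul_one]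
    rw [← mul_assoc, e, mul_assoc, ← hg', mul_assoc]
  have hgT : (g : Mt t m F) = c • (T : Mt t m F) := by
    calc (g : Mt t m F) = (T : Mt t m F) * (((T⁻¹ : GL (Fin t → Fin m) F) : Mt t m F) * (g : Mt t m F)) := by
          rw [← mul_assoc, Units.mul_inv, one_mul]
      _ = _ := by rw [hc, mul_smul_comm, mul_one]
  have hc0 : c ≠ 0 := fun h0 => g.ne_zero (by rw [hgT, h0, zero_smul])
  let s : GL (Fin m) F := Units.map (algebraMap F (Matrix (Fin m) (Fin m) F)).toMonoidHom (Units.mk0 c hc0)
  have : g = slotU ⟨0, ht⟩ s * T := Units.ext (by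
    rw [Units.val_mul, slotU_val, hgT]
    show _ = slot _ (algebraMap F (Matrix (Fin m) (Fin m) F) c) * _
    rw [Algebra.algebraMap_eq_smul_one, slot_smul, slot_one, smul_mul_assoc, one_mul])
  rw [this]
  exact Subgroup.mul_mem _ (slotU_mem_wreath _ _) (tensUnit_mem _ _)

end CfsgLib.Geo.TensorPow
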