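/-
Square-zero matrices of the rank of a root element: in one factor they are conjugate to root elements,
and none has parts in two factors.
-/
import Cfsg.Agent.Geo.TensorPow.Pres
import Cfsg.Agent.Geo.TensorLinearRoots

set_option autoImplicit false
set_option linter.unusedSectionVars false

namespace CfsgLib.Geo.TensorPow

open Matrix Cfsg Cfsg.Geo CfsgLib.Geo CfsgLib.Aschbacher
open scoped MatrixGroups

variable {F : Type*} [Field F] {t m : ℕ}

lemma rank_conj_le (P Q X : Mt t m F) : (P * X * Q).rank ≤ X.rank :=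
  (Matrix.rank_mul_le_left _ _).trans (Matrix.rank_mul_le_right _ _)

lemma rank_cj (g : GL (Fin t → Fin m) F) (X : Mt t m F) : (cj g X).rank = X.rank :=
  le_antisymm (rank_conj_le _ _ X) (by conv_lhs => rw [← cj_inv_cj g X]
                                       exact rank_conj_le _ _ _)

/-- The diagonal projection on a set of indices. -/
noncomputable def proj (s : (Fin t → Fin m) → Prop) : Mt t m F :=
  open Classical in Matrix.diagonal fun x => if s x then 1 else 0

lemma rank_proj (s : (Fin t → Fin m) → Prop) [DecidablePred s] :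
    (proj s : Mt t m F).rank = (Finset.univ.filter s).card := by
  classical
  rw [proj, Matrix.rank_diagonal, ← Fintype.card_subtype]
  refine Fintype.card_congr (Equiv.subtypeEquivRight fun x => ?_)
  by_cases h : s x <;> simp [h]

lemma eu_eq_proj (i : Fin t) (b : Fin m) : (eu i b b : Mt t m F) = proj fun x => x i = b := by
  classical
  ext x y
  rw [eu_apply, proj, Matrix.diagonal_apply]
  by_cases h : x = y
  · subst h
    by_cases hx : x i = b
    · simp [← hx]
    · simp [hx]
  · rw [if_neg h, if_neg]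
    rintro ⟨h1, h2⟩
    exact h (by rw [h2, ← h1, Function.update_eq_self])

lemma card_filter_eq (i j : Fin t) (a b : Fin m) :
    (Finset.univ.filter fun x : Fin t → Fin m => x i = a).card =
      (Finset.univ.filter fun x : Fin t → Fin m => x j = b).card := by
  let e : (Fin t → Fin m) ≃ (Fin t → Fin m) :=
    (Equiv.arrowCongr (Equiv.swap i j) (Equiv.swap a b))
  refine Finset.card_bij' (fun x _ => e x) (fun x _ => e.symm x) ?_ ?_ (fun x _ => e.symm_apply_apply x)
    (fun x _ => e.apply_symm_apply x)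
  · intro x hx
    simp only [Finset.mem_filter, Finset.mem_univ, true_and] at hx ⊢
    simp [e, hx]
  · intro x hx
    simp only [Finset.mem_filter, Finset.mem_univ, true_and] at hx ⊢
    simp [e, hx]

lemma rank_eu_self (i : Fin t) (b : Fin m) :
    (eu i b b : Mt t m F).rank = (Finset.univ.filter fun x : Fin t → Fin m => x i = b).card := by
  rw [eu_eq_proj, rank_proj]

lemma rank_eu (i j : Fin t) (a b c : Fin m) :
    (eu i a b : Mt t m F).rank = (eu j c c : Mt t m F).rank := by
  refine le_antisymm ?_ ?_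
  · calc (eu i a b : Mt t m F).rank = (eu i a b * eu i b b : Mt t m F).rank := by rw [eu_mul]
      _ ≤ (eu i b b : Mt t m F).rank := Matrix.rank_mul_le_right _ _
      _ = _ := by rw [rank_eu_self, rank_eu_self, card_filter_eq i j b c]
  · calc (eu j c c : Mt t m F).rank = (eu i b b : Mt t m F).rank := by
          rw [rank_eu_self, rank_eu_self, card_filter_eq i j b c]
      _ = (eu i b a * eu i a b : Mt t m F).rank := by rw [eu_mul]
      _ ≤ _ := Matrix.rank_mul_le_right _ _

/-- A projection plus a non-zero part outside has larger rank. -/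
lemma rank_lt_add {P Q C C' : Mt t m F} (hPP : P * P = P) (hPQ : P * Q = 0) (hQP : Q * P = 0) (hQ : Q ≠ 0)
    (hC : C * P = P * C) (hCC : C * C' = 1) : P.rank < (P * C + Q).rank := by
  have hC'C : C' * C = 1 := mul_eq_one_comm.1 hCC
  have hC' : C' * P = P * C' := by
    calc C' * P = C' * (P * C) * C' := by rw [mul_assoc, mul_assoc, hCC, mul_one]
      _ = P * C' := by rw [← hC, ← mul_assoc, hC'C, one_mul]
  have e : (P * C + Q) * (C' * P) = P := by
    rw [add_mul, hC', ← mul_assoc Q, hQP, zero_mul, add_zero, ← hC', mul_assoc P C, ← mul_assoc C, hCC,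
      one_mul, hPP]
  simp only [Matrix.rank]
  refine Submodule.finrank_lt_finrank_of_lt (lt_of_le_of_ne ?_ ?_)
  · rintro _ ⟨v, rfl⟩
    exact ⟨(C' * P) *ᵥ v, by
      rw [Matrix.mulVecLin_apply, Matrix.mulVecLin_apply, Matrix.mulVec_mulVec, e]⟩
  · intro he
    obtain ⟨v, hv⟩ : ∃ v, Q *ᵥ v ≠ 0 := by
      by_contra hc
      push Not at hc
      exact hQ (Matrix.ext_iff_mulVec.2 fun v => by rw [hc, Matrix.zero_mulVec])
    have hm' : (P * C + Q) *ᵥ v ∈ LinearMap.range P.mulVecLin := he ▸ ⟨v, rfl⟩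
    obtain ⟨w, hw⟩ := hm'
    rw [Matrix.mulVecLin_apply] at hw
    have h1 := congrArg (P *ᵥ ·) hw
    simp only [Matrix.mulVec_mulVec, hPP, mul_add, ← mul_assoc, hPQ, add_zero] at h1
    rw [h1, Matrix.add_mulVec, left_eq_add] at hw
    exact hv hw

lemma eu_mul_eq_zero {i : Fin t} {p : Fin m} {B : Mt t m F} (hB : Com i B) (h : eu i p p * B = 0) : B = 0 := by
  calc B = ∑ q, eu i q p * (eu i p p * B) * eu i p q := by
        conv_lhs => rw [← one_mul B, ← sum_eu i, Finset.sum_mul]
        refine Finset.sum_congr rfl fun q _ => ?_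
        rw [eu_mul', hB q p, mul_assoc, eu_mul, hB q q]
    _ = 0 := by simp [h]

lemma com_slotmul {i : Fin t} {B : Mt t m F} (hB : Com i B) (R : Matrix (Fin m) (Fin m) F) (X : Mt t m F) :
    X * B * slot i R = X * slot i R * B := by
  rw [mul_assoc, ← hB.slot_comm, mul_assoc]

lemma vecMulVec_single_single (p q : Fin m) :
    vecMulVec (Pi.single p (1 : F)) (Pi.single q 1) = Matrix.single p q 1 := by
  ext r s
  rw [vecMulVec_apply, Matrix.single_apply]
  by_cases hr : r = p <;> by_cases hs : s = q <;> simp [hr, hs, Ne.symm]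

/-- A root part in the factor `j` and a non-zero part elsewhere have larger rank than a root element. -/
lemma rank_lt_two (hm : 3 ≤ m) {j : Fin t} {N : Matrix (Fin m) (Fin m) F} (hN : N ≠ 0) (hNN : N * N = 0)
    {B C' : Mt t m F} (hB : Com j B) (hB0 : B ≠ 0) (d : F)
    (hC : (1 + d • B) * C' = 1) (i : Fin t) (a b : Fin m) :
    (eu i a b : Mt t m F).rank < (slot j N + (1 + d • slot j N) * B).rank := by
  classical
  haveI : NeZero m := ⟨by omega⟩
  obtain ⟨v, hv⟩ : ∃ v, N *ᵥ v ≠ 0 := by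
    by_contra hc
    push Not at hc
    exact hN (Matrix.ext_iff_mulVec.2 fun v => by rw [hc, Matrix.zero_mulVec])
  set u := N *ᵥ v with hu
  have hNu : N *ᵥ u = 0 := by rw [hu, Matrix.mulVec_mulVec, hNN, Matrix.zero_mulVec]
  have hvu : v ∉ F ∙ u := by
    intro h
    obtain ⟨c, hc⟩ := Submodule.mem_span_singleton.1 h
    exact hv (by rw [hu, ← hc, Matrix.mulVec_smul, hNu, smul_zero])
  obtain ⟨k, hk, hNk⟩ : ∃ k, k ∉ F ∙ u ∧ N *ᵥ k = 0 := by
    by_contra hc
    push Not at hc
    have hker : LinearMap.ker N.mulVecLin ≤ F ∙ u := fun x hx => by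
      by_contra hx'
      exact hc x hx' (by simpa using hx)
    have hran : LinearMap.range N.mulVecLin ≤ LinearMap.ker N.mulVecLin := by
      rintro _ ⟨x, rfl⟩
      simp [Matrix.mulVec_mulVec, hNN]
    have h1 := N.mulVecLin.finrank_range_add_finrank_ker
    have h2 := Submodule.finrank_mono hker
    have h3 := Submodule.finrank_mono hran
    have h4 := finrank_span_le_card (R := F) ({u} : Set (Fin m → F))
    rw [Module.finrank_fintype_fun_eq_card, Fintype.card_fin] at h1
    simp at h4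
    omega
  have hku : k ∉ Submodule.span F ({u, v} : Set (Fin m → F)) := by
    intro h
    obtain ⟨c, c', hc⟩ := Submodule.mem_span_pair.1 h
    have := congrArg (N *ᵥ ·) hc
    simp only [Matrix.mulVec_add, Matrix.mulVec_smul, hNu, ← hu, hNk, smul_zero, zero_add] at this
    rcases smul_eq_zero.1 this with h0 | h0
    · exact hk (Submodule.mem_span_singleton.2 ⟨c, by rw [← hc, h0, zero_smul, add_zero]⟩)
    · exact hv h0
  have hu' : u ∉ Submodule.span F ({v, k} : Set (Fin m → F)) := by
    intro h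
    obtain ⟨c, c', hc⟩ := Submodule.mem_span_pair.1 h
    have := congrArg (N *ᵥ ·) hc
    simp only [Matrix.mulVec_add, Matrix.mulVec_smul, hNu, ← hu, hNk, smul_zero, add_zero] at this
    rcases smul_eq_zero.1 this with h0 | h0
    · rw [h0, zero_smul, zero_add] at hc
      rcases eq_or_ne c' 0 with h' | h'
      · exact hv (by rw [← hc, h', zero_smul])
      · exact hk (Submodule.mem_span_singleton.2 ⟨c'⁻¹, by rw [← hc, smul_smul, inv_mul_cancel₀ h', one_smul]⟩)
    · exact hv h0
  obtain ⟨φ₀, h₀, h₀u⟩ := exists_covector _ hu'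
  obtain ⟨φ₁, h₁, h₁k⟩ := exists_covector _ hku
  have e0v : φ₀ ⬝ᵥ v = 0 := h₀ v (Submodule.subset_span (by simp))
  have e0k : φ₀ ⬝ᵥ k = 0 := h₀ k (Submodule.subset_span (by simp))
  have e1u : φ₁ ⬝ᵥ u = 0 := h₁ u (Submodule.subset_span (by simp))
  have e1v : φ₁ ⬝ᵥ v = 0 := h₁ v (Submodule.subset_span (by simp))
  let p : Fin m := ⟨0, by omega⟩
  let q : Fin m := ⟨1, by omega⟩
  have hpq : p ≠ q := by simp [p, q]
  set R : Matrix (Fin m) (Fin m) F := vecMulVec v (Pi.single p 1) + vecMulVec k (Pi.single q 1) with hR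
  set L : Matrix (Fin m) (Fin m) F := vecMulVec (Pi.single p 1) φ₀ + vecMulVec (Pi.single q 1) φ₁ with hL
  have hLR : L * R = Matrix.single q q 1 := by
    rw [hL, hR, add_mul, mul_add, mul_add]
    simp only [Matrix.vecMulVec_mul_vecMulVec, e0v, e0k, e1v, h₁k, zero_smul, one_smul]
    simp only [vecMulVec_single_single, add_zero, zero_add, zero_smul, Matrix.vecMulVec_zero, Matrix.zero_vecMulVec]
  have hLNR : L * N * R = Matrix.single p p 1 := by
    rw [mul_assoc, hL, hR, mul_add, Matrix.mul_vecMulVec, Matrix.mul_vecMulVec, ← hu, hNk, add_mul]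
    simp only [Matrix.vecMulVec_mul_vecMulVec, mul_add, dotProduct_zero, h₀u, e1u, zero_smul, one_smul]
    simp only [vecMulVec_single_single, add_zero, zero_add, zero_smul, Matrix.vecMulVec_zero, Matrix.zero_vecMulVec]
  have key : slot j L * (slot j N + (1 + d • slot j N) * B) * slot j R =
      eu j p p * (1 + d • B) + eu j q q * B := by
    have e1 : slot j L * slot j N * slot j R = eu j p p := by rw [slot_mul, slot_mul, hLNR, eu]
    have e2 : slot j L * slot j R = eu j q q := by rw [slot_mul, hLR, eu]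
    rw [mul_add, add_mul, e1, add_mul (1 : Mt t m F), one_mul, mul_add (slot j L), add_mul, com_slotmul hB, e2,
      ← mul_assoc (slot j L) (d • slot j N) B, com_slotmul hB, mul_smul_comm, smul_mul_assoc, e1, mul_add,
      mul_one, mul_smul_comm, smul_mul_assoc]
    abel
  have hQ : eu j q q * B ≠ 0 := fun h => hB0 (eu_mul_eq_zero hB h)
  have hlt := rank_lt_add (P := eu j p p) (Q := eu j q q * B) (C := 1 + d • B) (C' := C')
    (eu_mul j p p p) (eu_mul_ne' j hpq _ _ _) (by rw [hB, mul_eu_mul_ne j hpq.symm]) hQ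
    (by rw [(com_one j).add (hB.smul d) p p]) hC
  rw [rank_eu i j a b p]
  exact hlt.trans_le (key ▸ rank_conj_le _ _ _)

/-- A square-zero matrix of one factor of the rank of a root element is conjugate to one under `SL`. -/
theorem exists_std (hm : 3 ≤ m) {j : Fin t} {A : Matrix (Fin m) (Fin m) F} (hA : A ≠ 0) (hAA : A * A = 0)
    {i : Fin t} {a' b' : Fin m} (hrk : (slot j A : Mt t m F).rank = (eu i a' b' : Mt t m F).rank)
    {a b : Fin m} (hab : a ≠ b) :
    ∃ h : GL (Fin m) F, h ∈ specialLinear (Fin m) F ∧ cj (slotU j h) (slot j A) = eu j a b := by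
  haveI : NeZero m := ⟨by omega⟩
  obtain ⟨v, hv⟩ : ∃ v, A *ᵥ v ≠ 0 := by
    by_contra hc
    push Not at hc
    exact hA (Matrix.ext_iff_mulVec.2 fun v => by rw [hc, Matrix.zero_mulVec])
  set u := A *ᵥ v with hu
  have hline : ∀ w, A *ᵥ w ∈ F ∙ u := by
    intro w
    by_contra hw
    have hu' : u ∉ F ∙ (A *ᵥ w) := by
      intro h
      obtain ⟨c, hc⟩ := Submodule.mem_span_singleton.1 h
      exact hw (Submodule.mem_span_singleton.2 ⟨c⁻¹, by
        rw [← hc, smul_smul, inv_mul_cancel₀ (fun h0 => hv (by rw [hu] at hc ⊢; simpa [h0] using hc.symm)), one_smul]⟩)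
    obtain ⟨φ₀, h₀, h₀u⟩ := exists_covector _ hu'
    obtain ⟨φ₁, h₁, h₁w⟩ := exists_covector _ hw
    let p : Fin m := ⟨0, by omega⟩
    let q : Fin m := ⟨1, by omega⟩
    have hpq : p ≠ q := by simp [p, q]
    set R : Matrix (Fin m) (Fin m) F := vecMulVec v (Pi.single p 1) + vecMulVec w (Pi.single q 1) with hR
    set L : Matrix (Fin m) (Fin m) F := vecMulVec (Pi.single p 1) φ₀ + vecMulVec (Pi.single q 1) φ₁ with hL
    have hLAR : L * A * R = Matrix.single p p 1 + Matrix.single q q 1 := by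
      rw [mul_assoc, hL, hR, mul_add, Matrix.mul_vecMulVec, Matrix.mul_vecMulVec, ← hu, add_mul]
      simp only [Matrix.vecMulVec_mul_vecMulVec, mul_add, h₀u, h₀ _ (Submodule.mem_span_singleton_self _),
        h₁ _ (Submodule.mem_span_singleton_self _), h₁w, zero_smul, one_smul]
      simp only [vecMulVec_single_single, add_zero, zero_add, zero_smul, Matrix.vecMulVec_zero, Matrix.zero_vecMulVec]
    have hQ : (eu j q q : Mt t m F) ≠ 0 := fun h0 =>
      one_ne_zero (α := Mt t m F) (eu_mul_eq_zero (com_one j) (by rw [mul_one]; exact h0))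
    have hlt := rank_lt_add (P := (eu j p p : Mt t m F)) (C := 1) (C' := 1) (eu_mul j p p p)
      (eu_mul_ne j hpq _ _) (eu_mul_ne j hpq.symm _ _) hQ (by rw [one_mul, mul_one]) (one_mul 1)
    have hle : (eu j p p * 1 + eu j q q : Mt t m F).rank ≤ (slot j A : Mt t m F).rank := by
      rw [mul_one, eu, eu, ← slot_add, ← hLAR, ← slot_mul, ← slot_mul]
      exact rank_conj_le _ _ _
    rw [hrk, rank_eu i j a' b' p] at hle
    omega
  obtain ⟨ξ, hξ⟩ := Tensor.exists_dot_one hv
  set f : Fin m → F := ξ ᵥ* A with hf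
  have hAf : A = vecMulVec u f := by
    refine Matrix.ext_iff_mulVec.2 fun w => ?_
    obtain ⟨c, hc⟩ := Submodule.mem_span_singleton.1 (hline w)
    rw [Matrix.vecMulVec_mulVec, hf, ← Matrix.dotProduct_mulVec, ← hc, dotProduct_smul, hξ, smul_eq_mul, mul_one,
      op_smul_eq_smul]
  have hfu : f ⬝ᵥ u = 0 := by
    rw [hf, ← Matrix.dotProduct_mulVec, hu, Matrix.mulVec_mulVec, hAA, Matrix.zero_mulVec, dotProduct_zero]
  have hf0 : f ≠ 0 := fun h0 => hA (by rw [hAf, h0, Matrix.vecMulVec_zero])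
  obtain ⟨g₁, hg₁, hg₁u⟩ := Tensor.move_vec (show 2 ≤ Fintype.card (Fin m) by simp; omega) hv
    (show (Pi.single a 1 : Fin m → F) ≠ 0 by simp)
  set f₁ := f ᵥ* ((g₁⁻¹ : GL (Fin m) F) : Matrix (Fin m) (Fin m) F) with hf₁
  have hf₁u : f₁ ⬝ᵥ Pi.single a 1 = 0 := by rw [hf₁, ← hg₁u, vecMul_dotProduct_mulVec, hfu]
  have hf₁0 : f₁ ≠ 0 := fun h0 => hf0 (by
    have := congrArg (· ᵥ* (g₁ : Matrix (Fin m) (Fin m) F)) h0
    simpa [hf₁, Matrix.vecMul_vecMul, ← Units.val_mul] using this)
  obtain ⟨g₂, hg₂, hg₂u, hg₂f⟩ := Tensor.move_covec (show 3 ≤ Fintype.card (Fin m) by simp; omega) hf₁0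
    (show (Pi.single b 1 : Fin m → F) ≠ 0 by simp) hf₁u (show (Pi.single b 1 : Fin m → F) ⬝ᵥ Pi.single a 1 = 0 by
      simp [hab.symm])
  refine ⟨g₂ * g₁, mul_mem hg₂ hg₁, ?_⟩
  have e : (slotU j (g₂ * g₁))⁻¹ = slotU j (g₂ * g₁)⁻¹ := (map_inv _ _).symm
  rw [cj, e, slotU_val, slotU_val, slot_mul, slot_mul, eu]
  congr 1
  rw [hAf, Matrix.mul_vecMulVec, Matrix.vecMulVec_mul, mul_mulVec, hg₁u, hg₂u, _root_.mul_inv_rev, Units.val_mul,
    ← Matrix.vecMul_vecMul, ← hf₁, hg₂f]
  exact vecMulVec_single_single a b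

end CfsgLib.Geo.TensorPow
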