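/-
Square-zero sums and unipotent wreath elements of the rank of a root element.
-/
import Cfsg.Agent.Geo.TensorPow.Rank
import Cfsg.Agent.Aschbacher.Form.Members

set_option autoImplicit false
set_option linter.unusedSectionVars false

namespace CfsgLib.Geo.TensorPow

open Matrix Cfsg Cfsg.Geo CfsgLib.Geo CfsgLib.Aschbacher
open scoped MatrixGroups

variable {F : Type*} [Field F] {t m : ℕ}

lemma scalar_of_forall_comm [NeZero m] {A : Matrix (Fin m) (Fin m) F} (h : ∀ P, P * A = A * P) :
    ∃ c : F, A = c • 1 := by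
  obtain ⟨c, hc⟩ := Matrix.mem_range_scalar_of_commute_single (M := A) fun i j _ => h _
  exact ⟨c, by rw [← hc]; simp [Matrix.smul_one_eq_diagonal]⟩

lemma exists_not_mem_span (hm : 2 ≤ m) (u : Fin m → F) : ∃ w : Fin m → F, w ∉ F ∙ u := by
  by_contra h
  push Not at h
  have h1 := Submodule.finrank_mono (show (⊤ : Submodule F (Fin m → F)) ≤ F ∙ u from fun x _ => h x)
  have h2 := finrank_span_le_card (R := F) ({u} : Set (Fin m → F))
  rw [finrank_top, Module.finrank_fintype_fun_eq_card, Fintype.card_fin] at h1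
  simp at h2
  omega

lemma exists_non_eigen [NeZero m] {A : Matrix (Fin m) (Fin m) F} (hA : ∀ c : F, A ≠ c • 1) :
    ∃ w, w ≠ 0 ∧ w ∉ F ∙ (A *ᵥ w) := by
  by_contra h
  push Not at h
  obtain ⟨c, hc⟩ := CfsgLib.Geo.Tensor.exists_scalar_of_eigen A.mulVecLin fun u => by
    rcases eq_or_ne u 0 with rfl | hu
    · exact ⟨0, by simp⟩
    · obtain ⟨d, hd⟩ := Submodule.mem_span_singleton.1 (h u hu)
      have hd0 : d ≠ 0 := fun h0 => hu (by rw [← hd, h0, zero_smul])
      refine ⟨d⁻¹, ?_⟩
      rw [Matrix.mulVecLin_apply]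
      conv_rhs => arg 2; rw [← hd]
      rw [smul_smul, inv_mul_cancel₀ hd0, one_smul]
  exact hA c (Matrix.ext_iff_mulVec.2 fun u => by simpa [Matrix.smul_mulVec] using hc u)

lemma exists_sq_root [Finite F] (h2 : (2 : F) = 0) (c : F) : ∃ s : F, s * s = c := by
  have hinj : Function.Injective fun x : F => x * x := fun x y h => by
    rcases mul_self_eq_mul_self_iff.1 (show x * x = y * y from h) with h' | h'
    · exact h'
    · rw [h', neg_eq_iff_add_eq_zero, ← two_mul, h2, zero_mul]
  exact Finite.surjective_of_injective hinj c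

lemma smat_add_self {n : Type*} [Fintype n] [DecidableEq n] (h2 : (2 : F) = 0) (X : Matrix n n F) : X + X = 0 := by
  rw [← two_smul F X, h2, zero_smul]

lemma exists_nil_part [Finite F] (h2 : (2 : F) = 0) {A : Matrix (Fin m) (Fin m) F} {c : F}
    (h : A * A = c • 1) : ∃ (s : F) (N : Matrix (Fin m) (Fin m) F), N * N = 0 ∧ A = s • 1 + N := by
  obtain ⟨s, hs⟩ := exists_sq_root h2 c
  refine ⟨s, A - s • 1, ?_, by abel⟩
  calc (A - s • 1) * (A - s • 1) = A * A + (s * s) • 1 - (s • A + s • A) := by
        rw [sub_mul, mul_sub, mul_sub, mul_smul_comm, mul_one, smul_mul_assoc, one_mul, smul_mul_assoc,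
          mul_smul_comm, one_mul, smul_smul]
        abel
    _ = 0 := by rw [h, hs, smat_add_self h2, smat_add_self h2, sub_zero]

lemma slot_mul_ne_zero {j l : Fin t} (h : j ≠ l) {A B : Matrix (Fin m) (Fin m) F} (hA : A ≠ 0) (hB : B ≠ 0) :
    (slot j A : Mt t m F) * slot l B ≠ 0 := by
  intro h0
  obtain ⟨p, q, hpq⟩ : ∃ p q, A p q ≠ 0 := by
    by_contra hc; push Not at hc; exact hA (Matrix.ext hc)
  obtain ⟨r, s, hrs⟩ : ∃ r s, B r s ≠ 0 := by
    by_contra hc; push Not at hc; exact hB (Matrix.ext hc)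
  rw [slot, slot, tens_mul] at h0
  have := congrFun (congrFun h0 (fun k => if k = j then p else r)) (fun k => if k = j then q else if k = l then s else r)
  simp only [tens, Matrix.of_apply, Matrix.zero_apply] at this
  obtain ⟨k, -, hk⟩ := Finset.prod_eq_zero_iff.1 this
  rcases eq_or_ne k j with rfl | hkj
  · simp [Function.update_of_ne h] at hk
    exact hpq hk
  · rcases eq_or_ne k l with rfl | hkl
    · simp [hkj, Function.update_of_ne hkj] at hk
      exact hrs hk
    · simp [hkj, hkl, Function.update_of_ne hkj, Function.update_of_ne hkl] at hk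

/-- A square-zero sum over the factors of the rank of a root element lies in one factor. -/
theorem classify_sum [Finite F] (hm : 3 ≤ m) {T : Finset (Fin t)} (A : Fin t → Matrix (Fin m) (Fin m) F)
    {X : Mt t m F} (hX : X = ∑ j ∈ T, slot j (A j)) (hXX : X * X = 0) {i : Fin t} {a b : Fin m}
    (hrk : X.rank = (eu i a b : Mt t m F).rank) :
    ∃ j A', X = slot j A' ∧ A' ≠ 0 ∧ A' * A' = 0 := by
  classical
  haveI : NeZero m := ⟨by omega⟩
  have hX0 : X ≠ 0 := fun h => by
    rw [h, Matrix.rank_zero, rank_eu i i a b a, rank_eu_self] at hrk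
    exact Nat.ne_of_lt (Finset.card_pos.2 ⟨fun _ => a, by simp⟩) hrk
  have fin : ∀ j A', X = slot j A' → ∃ j A', X = slot j A' ∧ A' ≠ 0 ∧ A' * A' = 0 := fun j A' h =>
    ⟨j, A', h, fun h0 => hX0 (by rw [h, h0, slot_zero]),
      slot_injective j (by rw [← slot_mul, ← h, hXX, slot_zero])⟩
  -- derivations
  have hD : ∀ j ∈ T, ∀ P, slot j P * X - X * slot j P = slot j (P * A j - A j * P) := by
    intro j hj P
    rw [hX, Finset.mul_sum, Finset.sum_mul, ← Finset.sum_sub_distrib, Finset.sum_eq_single j]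
    · rw [slot_mul, slot_mul, slot_sub]
    · intro l _ hl; rw [slot_mul_comm hl.symm, sub_self]
    · exact fun h => absurd hj h
  by_cases hone : ∀ j ∈ T, ∀ l ∈ T, j ≠ l → (∃ c : F, A j = c • 1) ∨ ∃ c : F, A l = c • 1
  · by_cases hns : ∃ j ∈ T, ∀ c : F, A j ≠ c • 1
    · obtain ⟨j, hj, hjn⟩ := hns
      choose c hc using fun l (hl : l ∈ T.erase j) =>
        (hone j hj l (Finset.mem_of_mem_erase hl) (Finset.ne_of_mem_erase hl).symm).resolve_left
          fun ⟨c, hc⟩ => hjn c hc
      refine fin j (A j + (∑ l ∈ (T.erase j).attach, c l.1 l.2) • 1) ?_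
      rw [slot_add, slot_smul, slot_one, hX, ← Finset.add_sum_erase T _ hj, Finset.sum_smul,
        ← Finset.sum_attach (T.erase j)]
      refine congrArg _ (Finset.sum_congr rfl fun l _ => ?_)
      rw [hc l.1 l.2, slot_smul, slot_one]
    · push Not at hns
      obtain ⟨j, hj⟩ : T.Nonempty := by
        by_contra h
        rw [Finset.not_nonempty_iff_eq_empty] at h
        exact hX0 (by rw [hX, h, Finset.sum_empty])
      choose c hc using hns
      refine fin j ((∑ l ∈ T.attach, c l.1 l.2) • 1) ?_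
      rw [slot_smul, slot_one, hX, Finset.sum_smul, ← Finset.sum_attach T]
      exact Finset.sum_congr rfl fun l _ => by rw [hc l.1 l.2, slot_smul, slot_one]
  push Not at hone
  obtain ⟨j, hj, l, hl, hjl, hjn, hln⟩ := hone
  obtain ⟨P, hP⟩ : ∃ P, P * A j - A j * P ≠ 0 := by
    by_contra hc
    push Not at hc
    obtain ⟨c, hc⟩ := scalar_of_forall_comm fun P => sub_eq_zero.1 (hc P)
    exact hjn c hc
  obtain ⟨Q, hQ⟩ : ∃ Q, Q * A l - A l * Q ≠ 0 := by
    by_contra hc
    push Not at hc
    obtain ⟨c, hc⟩ := scalar_of_forall_comm fun P => sub_eq_zero.1 (hc P)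
    exact hln c hc
  have h2 : (2 : F) = 0 := by
    by_contra h2
    set U := slot j (P * A j - A j * P) with hU
    set W := slot l (Q * A l - A l * Q) with hW
    have eU : U * X + X * U = 0 := by
      rw [hU, ← hD j hj P]
      calc _ = slot j P * (X * X) - X * X * slot j P := by noncomm_ring
        _ = 0 := by rw [hXX, mul_zero, zero_mul, sub_zero]
    have hUQ : slot l Q * U = U * slot l Q := slot_mul_comm hjl.symm _ _
    have e2 : U * W + W * U = 0 := by
      rw [hW, ← hD l hl Q]
      calc U * (slot l Q * X - X * slot l Q) + (slot l Q * X - X * slot l Q) * U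
          = U * slot l Q * X - U * X * slot l Q + (slot l Q * (X * U) - X * (slot l Q * U)) := by noncomm_ring
        _ = slot l Q * U * X - U * X * slot l Q + (slot l Q * (X * U) - X * (U * slot l Q)) := by rw [← hUQ]
        _ = slot l Q * (U * X + X * U) - (U * X + X * U) * slot l Q := by noncomm_ring
        _ = 0 := by rw [eU, mul_zero, zero_mul, sub_zero]
    have hcm : W * U = U * W := slot_mul_comm hjl.symm _ _
    rw [hcm, ← two_smul F (U * W)] at e2
    exact slot_mul_ne_zero hjl hP hQ ((smul_eq_zero.1 e2).resolve_left h2)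
  have hsq : ∀ k ∈ T, ∃ c : F, A k * A k = c • 1 := fun k hk => scalar_of_forall_comm fun R => by
    apply slot_injective k
    have h := congrArg (fun Z => slot k R * Z - Z * slot k R) hXX
    simp only [mul_zero, zero_mul, sub_zero] at h
    set U := slot k (R * A k - A k * R) with hU
    have h' : U * X + X * U = 0 := by
      rw [hU, ← hD k hk R, ← h]; noncomm_ring
    have hUX : U * X - X * U = slot k ((R * A k - A k * R) * A k - A k * (R * A k - A k * R)) := hD k hk _
    have : U * X - X * U = 0 := by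
      rw [sub_eq_add_neg, show -(X * U) = X * U from neg_eq_iff_add_eq_zero.2 (smat_add_self h2 _), h']
    rw [hUX] at this
    have h3 := congrArg (slot k) (show (R * A k - A k * R) * A k - A k * (R * A k - A k * R)
      = R * (A k * A k) - A k * A k * R by
      rw [sub_mul, mul_sub]
      simp only [mul_assoc]
      rw [show R * (A k * A k) - A k * (R * A k) - (A k * (R * A k) - A k * (A k * R))
        = R * (A k * A k) + A k * (A k * R) - (A k * (R * A k) + A k * (R * A k)) by abel,
        smat_add_self h2, sub_zero, sub_eq_add_neg,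
        show -(A k * (A k * R)) = A k * (A k * R) from neg_eq_iff_add_eq_zero.2 (smat_add_self h2 _)] :
      (_ : Matrix (Fin m) (Fin m) F) = _)
    rw [this] at h3
    rw [slot_sub] at h3
    exact sub_eq_zero.1 h3.symm
  have hsN : ∀ k, ∃ (s : F) (N : Matrix (Fin m) (Fin m) F), k ∈ T → N * N = 0 ∧ A k = s • 1 + N := fun k => by
    by_cases hk : k ∈ T
    · obtain ⟨c, hc⟩ := hsq k hk
      obtain ⟨s, N, h⟩ := exists_nil_part h2 hc
      exact ⟨s, N, fun _ => h⟩
    · exact ⟨0, 0, fun h => absurd h hk⟩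
  choose s N hN using hsN
  have hXN : ∀ U : Finset (Fin t), U ⊆ T →
      (∑ k ∈ U, slot k (N k) : Mt t m F) * (∑ k ∈ U, slot k (N k)) = 0 := by
    intro U
    induction U using Finset.induction_on with
    | empty => simp
    | insert k U hk ih =>
      intro hU
      have hkT := hU (Finset.mem_insert_self k U)
      have hcm : slot k (N k) * (∑ r ∈ U, slot r (N r) : Mt t m F) = (∑ r ∈ U, slot r (N r)) * slot k (N k) :=
        Com.slot_comm (com_sum _ fun r hr => com_slot (show k ≠ r from fun e => hk (e.symm ▸ hr)) _) _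
      rw [Finset.sum_insert hk, add_mul, mul_add, mul_add, slot_mul, (hN k hkT).1, slot_zero, zero_add,
        ih fun x hx => hU (Finset.mem_insert_of_mem hx), add_zero, hcm, smat_add_self h2]
  set S : F := ∑ k ∈ T, s k
  have hXs : X = S • 1 + ∑ k ∈ T, slot k (N k) := by
    rw [hX, Finset.sum_smul, ← Finset.sum_add_distrib]
    exact Finset.sum_congr rfl fun k hk => by
      conv_lhs => rw [(hN k hk).2]
      rw [slot_add, slot_smul, slot_one]
  have hS : S = 0 := by
    have h := hXX
    rw [hXs, add_mul, mul_add, mul_add, hXN T subset_rfl, smul_mul_smul_comm, one_mul, smul_mul_assoc, one_mul,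
      mul_smul_comm, mul_one, add_zero, add_assoc, smat_add_self h2, add_zero] at h
    exact mul_self_eq_zero.1 ((smul_eq_zero.1 h).resolve_right one_ne_zero)
  rw [hS, zero_smul, zero_add, ← Finset.add_sum_erase T _ hj] at hXs
  set B : Mt t m F := ∑ k ∈ T.erase j, slot k (N k) with hB
  have hN0 : ∀ k ∈ T, (∀ c : F, A k ≠ c • 1) → N k ≠ 0 := fun k hk hn h0 => hn (s k) (by
    rw [(hN k hk).2, h0, add_zero])
  have hcom : Com j B := com_sum _ fun k hk => com_slot (Finset.ne_of_mem_erase hk).symm _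
  have hB0 : B ≠ 0 := by
    intro h0
    rw [h0, add_zero] at hXs
    have e := hD l hl Q
    rw [hXs, slot_mul_comm hjl.symm, sub_self] at e
    exact hQ (slot_injective l (e.symm.trans (slot_zero l).symm))
  have := rank_lt_two hm (hN0 j hj hjn) (hN j hj).1 hcom hB0 0 (C' := 1) (by simp) i a b
  rw [zero_smul, add_zero, one_mul, ← hXs, hrk] at this
  exact absurd this (lt_irrefl _)

/-! ### Unipotent wreath elements -/

/-- A pure tensor. -/
def pv (v : Fin t → Fin m → F) : (Fin t → Fin m) → F := fun x => ∏ l, v l (x l)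

lemma tens_mulVec_pv (a : Fin t → Matrix (Fin m) (Fin m) F) (v : Fin t → Fin m → F) :
    tens a *ᵥ pv v = pv fun l => a l *ᵥ v l := by
  funext x
  simp only [Matrix.mulVec, dotProduct, tens, Matrix.of_apply, pv]
  rw [Fintype.prod_sum]
  exact Finset.sum_congr rfl fun y _ => (Finset.prod_mul_distrib).symm

lemma permMat_mulVec_pv (σ : Equiv.Perm (Fin t)) (v : Fin t → Fin m → F) :
    (permMat m σ : Mt t m F) *ᵥ pv v = pv fun l => v (σ.symm l) := by
  funext x
  simp only [Matrix.mulVec, dotProduct, permMat, Matrix.of_apply, ite_mul, one_mul, zero_mul,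
    Finset.sum_ite_eq', Finset.mem_univ, if_true, pv, Function.comp]
  exact Fintype.prod_equiv σ _ _ fun l => by simp

lemma pv_dot (ψ v : Fin t → Fin m → F) : pv ψ ⬝ᵥ pv v = ∏ l, (ψ l ⬝ᵥ v l) := by
  simp only [dotProduct, pv]
  rw [Fintype.prod_sum]
  exact Finset.sum_congr rfl fun y _ => (Finset.prod_mul_distrib).symm

lemma kill {x : Mt t m F} (hXX : (x - 1) * (x - 1) = 0) {v w z : Fin t → Fin m → F} (hv : ∀ l, v l ≠ 0)
    (hxv : x *ᵥ pv v = pv w) (hxw : x *ᵥ pv w = pv z) {k l : Fin t} (hkl : k ≠ l) (hk : v k ∉ F ∙ w k)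
    (hl : v l ∉ F ∙ z l) : False := by
  classical
  obtain ⟨φ, hφ, hφv⟩ := exists_covector _ hk
  obtain ⟨χ, hχ, hχv⟩ := exists_covector _ hl
  choose ξ hξ using fun r => Tensor.exists_dot_one (hv r)
  set ψ : Fin t → Fin m → F := Function.update (Function.update ξ k φ) l χ with hψ
  have h1 : pv ψ ⬝ᵥ pv v = 1 := by
    rw [pv_dot]
    refine Finset.prod_eq_one fun r _ => ?_
    rcases eq_or_ne r l with rfl | hr
    · rw [hψ, Function.update_self, hχv]
    · rcases eq_or_ne r k with rfl | hr'
      · rw [hψ, Function.update_of_ne hr, Function.update_self, hφv]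
      · rw [hψ, Function.update_of_ne hr, Function.update_of_ne hr', hξ]
  have h2 : pv ψ ⬝ᵥ pv w = 0 := by
    rw [pv_dot]
    refine Finset.prod_eq_zero (Finset.mem_univ k) ?_
    rw [hψ, Function.update_of_ne hkl, Function.update_self]
    exact hφ _ (Submodule.mem_span_singleton_self _)
  have h3 : pv ψ ⬝ᵥ pv z = 0 := by
    rw [pv_dot]
    refine Finset.prod_eq_zero (Finset.mem_univ l) ?_
    rw [hψ, Function.update_self]
    exact hχ _ (Submodule.mem_span_singleton_self _)
  have h0 := congrArg (fun Z => pv ψ ⬝ᵥ (Z *ᵥ pv v)) hXX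
  simp only [← Matrix.mulVec_mulVec, Matrix.sub_mulVec, Matrix.one_mulVec, hxv, Matrix.mulVec_sub, hxw,
    dotProduct_sub, h1, h2, h3, Matrix.zero_mulVec, dotProduct_zero] at h0
  simp at h0

lemma card_lt_pairs (hm : 3 ≤ m) {j k : Fin t} (hjk : j ≠ k) (b : Fin m) :
    (Finset.univ.filter fun x : Fin t → Fin m => x j = b).card ≤
        (Finset.univ.filter fun x : Fin t → Fin m => x j < x k).card ∧
      (4 ≤ m → (Finset.univ.filter fun x : Fin t → Fin m => x j = b).card <
        (Finset.univ.filter fun x : Fin t → Fin m => x j < x k).card) := by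
  classical
  let P : Fin m → Fin m := fun q => if (q : ℕ) + 1 < m then q else ⟨0, by omega⟩
  let Q : Fin m → Fin m := fun q => if h : (q : ℕ) + 1 < m then ⟨q + 1, h⟩ else ⟨2, by omega⟩
  have hPQ : ∀ q, P q < Q q := fun q => by
    simp only [P, Q, Fin.lt_def]
    by_cases h : (q : ℕ) + 1 < m
    · rw [if_pos h, dif_pos h]; show (q : ℕ) < q + 1; omega
    · rw [if_neg h, dif_neg h]; show (0 : ℕ) < 2; omega
  have hinj : ∀ q q', P q = P q' → Q q = Q q' → q = q' := fun q q' h1 h2 => by
    simp only [P, Q, Fin.ext_iff] at h1 h2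
    have := q.isLt; have := q'.isLt
    by_cases h : (q : ℕ) + 1 < m <;> by_cases h' : (q' : ℕ) + 1 < m <;>
      simp [h, h'] at h1 h2 <;> exact Fin.ext (by omega)
  let f : (Fin t → Fin m) → (Fin t → Fin m) := fun x => Function.update (Function.update x j (P (x k))) k (Q (x k))
  have hfj : ∀ x, f x j = P (x k) := fun x => by simp [f, Function.update_of_ne hjk]
  have hfk : ∀ x, f x k = Q (x k) := fun x => by simp [f]
  set A := Finset.univ.filter fun x : Fin t → Fin m => x j = b with hA
  set B := Finset.univ.filter fun x : Fin t → Fin m => x j < x k with hB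
  have himg : A.image f ⊆ B := fun y hy => by
    obtain ⟨x, -, rfl⟩ := Finset.mem_image.1 hy
    simp [hB, hfj, hfk, hPQ]
  have hcard : (A.image f).card = A.card := Finset.card_image_of_injOn fun x hx y hy h => by
    simp [hA] at hx hy
    have hk' : x k = y k := hinj _ _ (by rw [← hfj, ← hfj, h]) (by rw [← hfk, ← hfk, h])
    funext l
    rcases eq_or_ne l j with rfl | hlj
    · rw [hx, hy]
    · rcases eq_or_ne l k with rfl | hlk
      · exact hk'
      · simpa [f, Function.update_of_ne hlk, Function.update_of_ne hlj] using congrFun h l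
  refine ⟨hcard ▸ Finset.card_le_card himg, fun h4 => hcard ▸ Finset.card_lt_card ⟨himg, fun hsub => ?_⟩⟩
  let z : Fin t → Fin m := fun l => if l = k then ⟨3, by omega⟩ else ⟨1, by omega⟩
  have hzk : z k = ⟨3, by omega⟩ := by simp [z]
  have hzj : z j = ⟨1, by omega⟩ := by simp [z, hjk]
  obtain ⟨x, -, hx⟩ := Finset.mem_image.1 (hsub (show z ∈ B from
    Finset.mem_filter.2 ⟨Finset.mem_univ z, by rw [hzj, hzk]; exact Fin.mk_lt_mk.2 (by omega)⟩))
  have e1 := (hfj x).symm.trans ((congrFun hx j).trans hzj)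
  have e2 := (hfk x).symm.trans ((congrFun hx k).trans hzk)
  simp only [P, Q, Fin.ext_iff] at e1 e2
  by_cases h : (x k : ℕ) + 1 < m <;> simp [h] at e1 e2 <;> omega

lemma eu_mul_eu_eq_proj {j k : Fin t} (p q : Fin m) :
    (eu j p p * eu k q q : Mt t m F) = proj fun x => x j = p ∧ x k = q := by
  classical
  rw [eu_eq_proj, eu_eq_proj, proj, proj, proj, Matrix.diagonal_mul_diagonal]
  congr 1
  funext x
  by_cases h1 : x j = p <;> by_cases h2 : x k = q <;> simp [h1, h2]

/-- A unipotent wreath element of the rank of a root element is a root element, or an exchange of two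
factors of dimension three in characteristic two. -/
theorem classify_wreath [Finite F] (hm : 3 ≤ m) {g : GL (Fin t → Fin m) F} (hg : g ∈ tensorWreathStandard m t F)
    (hXX : ((g : Mt t m F) - 1) * ((g : Mt t m F) - 1) = 0) {i : Fin t} {a₀ b₀ : Fin m}
    (hrk : ((g : Mt t m F) - 1).rank = (eu i a₀ b₀ : Mt t m F).rank) :
    (∃ j A, (g : Mt t m F) - 1 = slot j A ∧ A ≠ 0 ∧ A * A = 0) ∨
      (m = 3 ∧ (2 : F) = 0 ∧ ∃ (j k : Fin t) (a : GL (Fin m) F), j ≠ k ∧
        (g : Mt t m F) = cj (slotU k a) (permMat m (Equiv.swap j k))) := by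
  classical
  letI := Fintype.ofFinite F
  haveI : NeZero m := ⟨by omega⟩
  obtain ⟨a, σ, hgv⟩ := exists_tens_perm hg
  set X : Mt t m F := (g : Mt t m F) - 1 with hX
  have hX0 : X ≠ 0 := fun h => by
    rw [h, Matrix.rank_zero, rank_eu i i a₀ b₀ a₀, rank_eu_self] at hrk
    exact Nat.ne_of_lt (Finset.card_pos.2 ⟨fun _ => a₀, by simp⟩) hrk
  have fin : ∀ j A, (g : Mt t m F) = slot j A → ∃ j A, X = slot j A ∧ A ≠ 0 ∧ A * A = 0 := fun j A h => by
    have e : X = slot j (A - 1) := by rw [hX, h, slot_sub, slot_one]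
    exact ⟨j, A - 1, e, fun h0 => hX0 (by rw [e, h0, slot_zero]),
      slot_injective j (by rw [← slot_mul, ← e, hXX, slot_zero])⟩
  -- the action on pure tensors
  have hact : ∀ v, (g : Mt t m F) *ᵥ pv v = pv fun l => (a l : Matrix (Fin m) (Fin m) F) *ᵥ v (σ.symm l) := fun v => by
    rw [hgv, ← Matrix.mulVec_mulVec, permMat_mulVec_pv, tens_mulVec_pv]
  have hne : ∀ (l : Fin t) (u : Fin m → F), u ≠ 0 → (a l : Matrix (Fin m) (Fin m) F) *ᵥ u ≠ 0 := fun l u hu h0 =>
    hu (by rw [← inv_mulVec_mulVec (a l) u, h0, Matrix.mulVec_zero])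
  set e₀ : Fin m → F := Pi.single ⟨0, by omega⟩ 1
  have he₀ : e₀ ≠ 0 := by simp [e₀]
  have hσ : ∀ j, σ (σ j) = j := by
    intro j
    by_contra hne'
    set k := σ j with hk
    set l := σ k with hl
    have hjk : k ≠ j := fun h => hne' (by rw [hl, h, ← hk, h])
    have hkl : k ≠ l := fun h => hjk (σ.injective (by rw [← hl, ← h]))
    obtain ⟨w, hw⟩ := exists_not_mem_span (F := F) (show 2 ≤ m by omega) ((a k : Matrix (Fin m) (Fin m) F) *ᵥ e₀)
    obtain ⟨w', hw'⟩ := exists_not_mem_span (F := F) (show 2 ≤ m by omega)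
      ((a l : Matrix (Fin m) (Fin m) F) *ᵥ ((a k : Matrix (Fin m) (Fin m) F) *ᵥ e₀))
    let v : Fin t → Fin m → F := Function.update (Function.update (fun _ => e₀) k w) l w'
    have hw0 : w ≠ 0 := fun h => hw (h ▸ Submodule.zero_mem _)
    have hw'0 : w' ≠ 0 := fun h => hw' (h ▸ Submodule.zero_mem _)
    have hvj : v j = e₀ := by simp [v, Function.update_of_ne hjk.symm, Function.update_of_ne (Ne.symm hne')]
    refine kill hXX (v := v) (fun r => ?_) (hact v) (hact _) hkl ?_ ?_
    · simp only [v, Function.update_apply]; split_ifs <;> assumption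
    · simp only [show σ.symm k = j by rw [hk, Equiv.symm_apply_apply], hvj]
      simpa [v, Function.update_of_ne hkl] using hw
    · simp only [show σ.symm l = k by rw [hl, Equiv.symm_apply_apply],
        show σ.symm k = j by rw [hk, Equiv.symm_apply_apply], hvj]
      simpa [v] using hw'
  have hσs : ∀ l, σ.symm l = σ l := fun l => σ.symm_apply_eq.2 (hσ l).symm
  set β : Fin t → Matrix (Fin m) (Fin m) F := fun l => (a l : Matrix (Fin m) (Fin m) F) * (a (σ l) : Matrix (Fin m) (Fin m) F)
    with hβ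
  have hsq : (g : Mt t m F) * (g : Mt t m F) = tens β := by
    rw [hgv, mul_assoc, ← mul_assoc (permMat m σ), permMat_mul_tens, mul_assoc, ← mul_assoc (tens fun i => _),
      tens_mul, permMat_mul, show σ * σ = 1 from Equiv.ext hσ,
      show (permMat m (1 : Equiv.Perm (Fin t)) : Mt t m F) = 1 by ext x y; simp [permMat, Matrix.one_apply, eq_comm],
      mul_one]
    simp only [hσs]
    rfl
  by_cases hβs : ∀ l, ∃ c : F, β l = c • 1
  swap
  · push Not at hβs
    obtain ⟨l, hl⟩ := hβs
    obtain ⟨w, hw0, hw⟩ := exists_non_eigen hl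
    have hkill : ∀ k, k ≠ l → ∀ v : Fin t → Fin m → F, (∀ r, v r ≠ 0) → v l = w →
        v k ∉ F ∙ ((a k : Matrix (Fin m) (Fin m) F) *ᵥ v (σ k)) → False := by
      intro k hkl v hv hvl hk
      refine kill hXX hv (hact v) (hact _) hkl ?_ ?_
      · simpa [hσs] using hk
      · simp only [hσs, hσ, Matrix.mulVec_mulVec, hvl]
        exact hw
    by_cases hσ1 : ∀ r, σ r = r
    · by_cases hone : ∀ k, k ≠ l → ∃ c : F, (a k : Matrix (Fin m) (Fin m) F) = c • 1
      · left
        choose c hc using hone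
        let c' : Fin t → F := fun k => if h : k = l then 1 else c k h
        refine fin l ((∏ k, c' k) • (a l : Matrix (Fin m) (Fin m) F)) ?_
        rw [slot_smul, slot, ← tens_smul, hgv, show σ = 1 from Equiv.ext hσ1,
          show (permMat m (1 : Equiv.Perm (Fin t)) : Mt t m F) = 1 by ext x y; simp [permMat, Matrix.one_apply, eq_comm],
          mul_one]
        congr 1
        funext k
        rcases eq_or_ne k l with rfl | hk
        · simp [c']
        · simp [c', hk, Function.update_of_ne hk, ← hc k hk]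
      · push Not at hone
        obtain ⟨k, hk, hkn⟩ := hone
        obtain ⟨u, hu0, hu⟩ := exists_non_eigen hkn
        exact (hkill k hk (Function.update (Function.update (fun _ => e₀) k u) l w)
          (fun r => by simp only [Function.update_apply]; split_ifs <;> assumption)
          (by simp) (by simpa [hσ1, Function.update_of_ne hk] using hu)).elim
    · exfalso
      push Not at hσ1
      obtain ⟨k, hk⟩ : ∃ k, σ k ≠ k ∧ k ≠ l := by
        obtain ⟨r, hr⟩ := hσ1
        rcases eq_or_ne r l with rfl | hrl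
        · exact ⟨σ r, by rw [hσ]; exact hr.symm, hr⟩
        · exact ⟨r, hr, hrl⟩
      let v₁ : Fin t → Fin m → F := Function.update (fun _ => e₀) l w
      obtain ⟨u, hu⟩ := exists_not_mem_span (F := F) (show 2 ≤ m by omega)
        ((a k : Matrix (Fin m) (Fin m) F) *ᵥ v₁ (σ k))
      have hu0 : u ≠ 0 := fun h => hu (h ▸ Submodule.zero_mem _)
      refine hkill k hk.2 (Function.update v₁ k u)
        (fun r => by simp only [v₁, Function.update_apply]; split_ifs <;> assumption)
        (by simp [v₁, Function.update_of_ne hk.2.symm]) ?_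
      simpa [Function.update_of_ne hk.1] using hu
  choose γ hγ using hβs
  have hsq' : (g : Mt t m F) * (g : Mt t m F) = (∏ l, γ l) • 1 := by
    rw [hsq, show β = fun l => γ l • (1 : Matrix (Fin m) (Fin m) F) from funext hγ, tens_smul, tens_one]
  have hlin : (∏ l, γ l) • (1 : Mt t m F) = (2 : F) • (g : Mt t m F) - 1 := by
    rw [← hsq', two_smul]
    have := hXX
    rw [hX] at this
    calc (g : Mt t m F) * g = ((g : Mt t m F) - 1) * ((g : Mt t m F) - 1) + ((g : Mt t m F) + g) - 1 := by noncomm_ring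
      _ = _ := by rw [this, zero_add]
  have h2 : (2 : F) = 0 := by
    by_contra h2
    refine hX0 ?_
    set d := ((∏ l, γ l) + 1) / 2 - 1
    have : X = d • 1 := by
      rw [hX, sub_smul, one_smul, div_eq_inv_mul, ← smul_smul, add_smul, one_smul, hlin, sub_add_cancel, smul_smul,
        inv_mul_cancel₀ h2, one_smul]
    rw [this, smul_mul_smul_comm, one_mul] at hXX
    rw [this, mul_self_eq_zero.1 ((smul_eq_zero.1 hXX).resolve_right one_ne_zero), zero_smul]
  have hgg : (g : Mt t m F) * g = 1 := by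
    rw [hsq', hlin, h2, zero_smul, zero_sub, neg_eq_iff_add_eq_zero, smat_add_self h2]
  by_cases hσ1 : ∀ r, σ r = r
  · left
    have hgt : (g : Mt t m F) = tens fun l => (a l : Matrix (Fin m) (Fin m) F) := by
      rw [hgv, show σ = 1 from Equiv.ext hσ1,
        show (permMat m (1 : Equiv.Perm (Fin t)) : Mt t m F) = 1 by ext x y; simp [permMat, Matrix.one_apply, eq_comm],
        mul_one]
    choose s N hN using fun l => exists_nil_part (A := (a l : Matrix (Fin m) (Fin m) F)) h2
      (show _ = γ l • 1 by have := hγ l; simp only [hβ, hσ1] at this; exact this)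
    have hs0 : ∀ l, s l ≠ 0 := fun l h => by
      have hN0 : (a l : Matrix (Fin m) (Fin m) F) = N l := by rw [(hN l).2, h, zero_smul, zero_add]
      obtain ⟨w, hw⟩ : ∃ w : Fin m → F, w ≠ 0 := ⟨e₀, he₀⟩
      exact hne l _ (hne l w hw) (by rw [Matrix.mulVec_mulVec, hN0, (hN l).1, Matrix.zero_mulVec])
    set Z : Fin t → Matrix (Fin m) (Fin m) F := fun l => 1 + (s l)⁻¹ • N l with hZ
    have hZsq : ∀ l, Z l * Z l = 1 := fun l => by
      rw [hZ]
      show (1 + (s l)⁻¹ • N l) * (1 + (s l)⁻¹ • N l) = 1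
      rw [add_mul, one_mul, mul_add, mul_one, smul_mul_smul_comm, (hN l).1, smul_zero, add_zero,
        add_assoc, smat_add_self h2, add_zero]
    have hgZ : (g : Mt t m F) = (∏ l, s l) • tens Z := by
      rw [← tens_smul, hgt]
      congr 1
      funext l
      rw [hZ, smul_add, smul_smul, mul_inv_cancel₀ (hs0 l), one_smul, ← (hN l).2]
    have hP : ∏ l, s l = 1 := by
      have h := hgg
      rw [hgZ, smul_mul_smul_comm, tens_mul, funext hZsq, tens_one] at h
      have h' : (∏ l, s l) * (∏ l, s l) = 1 * 1 := by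
        rw [one_mul]
        exact smul_left_injective F (one_ne_zero (α := Mt t m F)) (h.trans (one_smul F _).symm)
      rcases mul_self_eq_mul_self_iff.1 h' with h'' | h''
      · exact h''
      · rw [h'', neg_eq_iff_add_eq_zero, one_add_one_eq_two, h2]
    rw [hP, one_smul] at hgZ
    obtain ⟨j, hj⟩ : ∃ j, N j ≠ 0 := by
      by_contra hc
      push Not at hc
      refine hX0 ?_
      rw [hX, hgZ, show Z = fun _ => 1 from funext fun l => by simp [hZ, hc l], tens_one, sub_self]
    set B₀ : Mt t m F := tens (Function.update Z j 1) with hB₀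
    have hB₀c : Com j B₀ := fun p q => by
      rw [hB₀, eu, slot, tens_mul, tens_mul]
      congr 1
      funext l
      rcases eq_or_ne l j with rfl | hl
      · simp
      · simp [Function.update_of_ne hl]
    have hsplit : (g : Mt t m F) = slot j (Z j) * B₀ := by
      rw [hgZ, hB₀, slot, tens_mul]
      congr 1
      funext l
      rcases eq_or_ne l j with rfl | hl
      · simp
      · simp [Function.update_of_ne hl]
    by_cases hB : B₀ = 1
    · exact fin j (Z j) (by rw [hsplit, hB, mul_one])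
    exfalso
    have hB₀2 : B₀ * B₀ = 1 := by
      rw [hB₀, tens_mul]
      rw [← tens_one]
      congr 1
      funext l
      rcases eq_or_ne l j with rfl | hl
      · simp
      · simp [Function.update_of_ne hl, hZsq]
    have := rank_lt_two hm (N := (s j)⁻¹ • N j) (smul_ne_zero (inv_ne_zero (hs0 j)) hj)
      (by rw [smul_mul_smul_comm, (hN j).1, smul_zero]) (hB₀c.sub (com_one j)) (sub_ne_zero.2 hB) 1
      (C' := B₀) (by rw [one_smul, add_sub_cancel, hB₀2]) i a₀ b₀
    rw [← hrk] at this
    refine lt_irrefl _ (this.trans_le (le_of_eq ?_))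
    congr 1
    rw [hX, hsplit, hZ, slot_add, slot_one, one_smul]
    noncomm_ring
  right
  push Not at hσ1
  obtain ⟨j, hj⟩ := hσ1
  set k := σ j with hk
  have hkj : σ k = j := hσ j
  have hjk : j ≠ k := Ne.symm hj
  set D := slotU k (a k) with hD
  set y : GL (Fin t → Fin m) F := D⁻¹ * g * D with hy
  have hyv : (y : Mt t m F) = ((D⁻¹ : GL (Fin t → Fin m) F) : Mt t m F) * (g : Mt t m F) * (D : Mt t m F) := by
    rw [hy, Units.val_mul, Units.val_mul]
  have hgslot : ∀ l R, (g : Mt t m F) * slot l R =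
      slot (σ l) ((a (σ l) : Matrix (Fin m) (Fin m) F) * R * (((a (σ l))⁻¹ : GL (Fin m) F) : Matrix (Fin m) (Fin m) F)) * (g : Mt t m F) := by
    intro l R
    rw [hgv, mul_assoc, permMat_mul_slot, ← mul_assoc, ← mul_assoc]
    congr 1
    refine tens_mul_slot _ _ ?_
    rw [mul_assoc, Units.inv_mul, mul_one]
  have hDinv : ((D⁻¹ : GL (Fin t → Fin m) F) : Mt t m F) = slot k (((a k)⁻¹ : GL (Fin m) F) : Matrix (Fin m) (Fin m) F) := by
    rw [hD, ← map_inv, slotU_val]
  have hDv : (D : Mt t m F) = slot k (a k : Matrix (Fin m) (Fin m) F) := by rw [hD, slotU_val]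
  have hyj : ∀ R, (y : Mt t m F) * slot j R = slot k R * (y : Mt t m F) := by
    intro R
    rw [hyv, mul_assoc, hDv, slot_mul_comm hjk.symm, ← mul_assoc, mul_assoc _ (g : Mt t m F) (slot j R), hgslot,
      ← hk, hDinv, ← mul_assoc, slot_mul, ← mul_assoc, ← mul_assoc, Units.inv_mul, one_mul, ← slot_mul,
      mul_assoc (slot k R), mul_assoc (slot k R), mul_assoc]
  have hyy : (y : Mt t m F) * y = 1 := by
    rw [← Units.val_mul, show y * y = D⁻¹ * (g * g) * D by rw [hy]; group,
      show g * g = 1 from Units.ext (by rw [Units.val_mul, hgg, Units.val_one]), mul_one, inv_mul_cancel, Units.val_one]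
  have hyk : ∀ R, (y : Mt t m F) * slot k R = slot j R * (y : Mt t m F) := fun R => by
    calc (y : Mt t m F) * slot k R = (y : Mt t m F) * (slot k R * ((y : Mt t m F) * y)) := by rw [hyy, mul_one]
      _ = (y : Mt t m F) * ((y : Mt t m F) * slot j R) * (y : Mt t m F) := by rw [hyj]; simp only [mul_assoc]
      _ = _ := by rw [← mul_assoc, hyy, one_mul]
  set S : Mt t m F := permMat m (Equiv.swap j k) with hS
  have hSS : S * S = 1 := by
    rw [hS, permMat_mul, Equiv.swap_mul_self]
    ext u v; simp [permMat, Matrix.one_apply, eq_comm]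
  have hSslot : ∀ l R, S * slot l R = slot (Equiv.swap j k l) R * S := fun l R => permMat_mul_slot _ l R
  set B := S * (y : Mt t m F) with hB
  have hBj : Com j B := fun p q => by
    rw [hB, mul_assoc, eu, hyj, ← mul_assoc S, hSslot, Equiv.swap_apply_right, mul_assoc]
  have hBk : Com k B := fun p q => by
    rw [hB, mul_assoc, eu, hyk, ← mul_assoc S, hSslot, Equiv.swap_apply_left, mul_assoc]
  have hyB : (y : Mt t m F) = S * B := by rw [hB, ← mul_assoc, hSS, one_mul]
  set T := Finset.univ.filter fun p : Fin m × Fin m => p.1 < p.2 with hT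
  set P₁ : Mt t m F := ∑ p ∈ T, eu j p.1 p.1 * eu k p.2 p.2 with hP₁
  set Q : Mt t m F := eu j ⟨0, by omega⟩ ⟨0, by omega⟩ * eu k ⟨0, by omega⟩ ⟨0, by omega⟩ with hQ
  have hP₁proj : P₁ = proj fun x => x j < x k := by
    ext x z
    rw [hP₁, Matrix.sum_apply]
    simp only [eu_mul_eu_eq_proj, proj, Matrix.diagonal_apply]
    by_cases hxz : x = z
    · subst hxz
      simp only [if_true]
      by_cases hlt : x j < x k
      · rw [if_pos hlt, Finset.sum_eq_single (x j, x k)]
        · simp
        · intro p _ hp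
          rw [if_neg]
          rintro ⟨h1, h2⟩
          exact hp (by rw [h1, h2])
        · intro h; exact absurd (by simp [hT, hlt]) h
      · rw [if_neg hlt]
        refine Finset.sum_eq_zero fun p hp => ?_
        rw [if_neg]
        rintro ⟨h1, h2⟩
        exact hlt (by rw [h1, h2]; exact (Finset.mem_filter.1 hp).2)
    · simp [hxz]
  have hBpair : ∀ p q : Fin m, B * (eu j p p * eu k q q) = eu j p p * eu k q q * B := fun p q => by
    rw [← mul_assoc, ← hBj, mul_assoc, ← hBk, ← mul_assoc]
  have hSpair : ∀ p q : Fin m, S * (eu j p p * eu k q q) = eu j q q * eu k p p * S := fun p q => by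
    rw [← mul_assoc, eu, hSslot, Equiv.swap_apply_left, mul_assoc, eu, hSslot, Equiv.swap_apply_right, ← mul_assoc,
      slot_mul_comm hjk.symm]
    rfl
  have hprod : ∀ p q r s : Fin m, (eu j p p * eu k q q : Mt t m F) * (eu j r r * eu k s s) =
      if p = r ∧ q = s then eu j p p * eu k q q else 0 := by
    intro p q r s
    rw [mul_assoc, ← mul_assoc (eu k q q), eu_comm hjk.symm, mul_assoc, ← mul_assoc (eu j p p)]
    by_cases h1 : p = r
    · subst h1
      by_cases h2' : q = s
      · subst h2'; rw [if_pos ⟨rfl, rfl⟩, eu_mul, eu_mul]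
      · rw [if_neg (fun h => h2' h.2), eu_mul_ne k h2', mul_zero]
    · rw [if_neg (fun h => h1 h.1), eu_mul_ne j h1, zero_mul]
  have hP₁P₁ : P₁ * P₁ = P₁ := by
    rw [hP₁proj, proj, Matrix.diagonal_mul_diagonal]
    congr 1; funext x; split_ifs <;> simp
  have hPQ : P₁ * Q = 0 := by
    rw [hP₁, hQ, Finset.sum_mul]
    refine Finset.sum_eq_zero fun p hp => ?_
    rw [hprod, if_neg]
    rintro ⟨h1, h2'⟩
    exact (ne_of_lt (Finset.mem_filter.1 hp).2) (h1.trans h2'.symm)
  have hQP : Q * P₁ = 0 := by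
    rw [hP₁, hQ, Finset.mul_sum]
    refine Finset.sum_eq_zero fun p hp => ?_
    rw [hprod, if_neg]
    rintro ⟨h1, h2'⟩
    exact (ne_of_lt (Finset.mem_filter.1 hp).2) (h1.symm.trans h2')
  have hQS : Q * S = S * Q := by rw [hQ, hSpair]
  have hPSP : P₁ * S * P₁ = 0 := by
    rw [hP₁, mul_assoc, Finset.sum_mul]
    refine Finset.sum_eq_zero fun p hp => ?_
    rw [Finset.mul_sum, Finset.mul_sum]
    refine Finset.sum_eq_zero fun r hr => ?_
    rw [hSpair, ← mul_assoc, hprod, if_neg, zero_mul]
    rintro ⟨h1, h2'⟩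
    have a1 := (Finset.mem_filter.1 hp).2
    have a2 := (Finset.mem_filter.1 hr).2
    rw [h1, h2'] at a1
    exact lt_asymm a1 a2
  have hQQ : Q * Q = Q := by rw [hQ, hprod, if_pos ⟨rfl, rfl⟩]
  have hBP : B * P₁ = P₁ * B := by
    rw [hP₁, Finset.mul_sum, Finset.sum_mul]
    exact Finset.sum_congr rfl fun p _ => hBpair p.1 p.2
  have hBQ : B * Q = Q * B := hBpair _ _
  have key : (P₁ + Q) * ((y : Mt t m F) - 1) * (P₁ + Q) = -(P₁ + Q * (1 - B)) := by
    have e1 : (P₁ + Q) * S * (P₁ + Q) = Q * S := by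
      have a1 : Q * S * P₁ = 0 := by rw [hQS, mul_assoc, hQP, mul_zero]
      have a2 : P₁ * S * Q = 0 := by rw [mul_assoc, ← hQS, ← mul_assoc, hPQ, zero_mul]
      have a3 : Q * S * Q = Q * S := by rw [hQS, mul_assoc, hQQ]
      rw [mul_add, add_mul, add_mul, add_mul, hPSP, a1, a2, a3, zero_add, zero_add, zero_add]
    have e2 : Q * S = Q := by
      rw [hQ, hS, eu_mul_eu_eq_proj]
      ext u v
      rw [mul_permMat_apply]
      simp only [proj, Matrix.diagonal_apply]
      by_cases hc : u j = ⟨0, by omega⟩ ∧ u k = ⟨0, by omega⟩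
      · have hu : u ∘ Equiv.swap j k = u := by
          funext l
          show u (Equiv.swap j k l) = u l
          rcases eq_or_ne l j with rfl | hlj
          · rw [Equiv.swap_apply_left, hc.1, hc.2]
          · rcases eq_or_ne l k with rfl | hlk
            · rw [Equiv.swap_apply_right, hc.1, hc.2]
            · rw [Equiv.swap_apply_of_ne_of_ne hlj hlk]
        simp only [if_pos hc, Equiv.symm_swap]
        refine if_congr ⟨fun h => ?_, fun h => ?_⟩ rfl rfl
        · have : v = u ∘ Equiv.swap j k := by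
            rw [h]; funext l; simp
          rw [this, hu]
        · rw [← h, hu]
      · simp only [if_neg hc, ite_self]
    have e3 : (P₁ + Q) * (P₁ + Q) = P₁ + Q := by
      rw [mul_add, add_mul, add_mul, hP₁P₁, hPQ, hQP, hQQ, zero_add, add_zero]
    calc (P₁ + Q) * ((y : Mt t m F) - 1) * (P₁ + Q)
        = (P₁ + Q) * S * (B * (P₁ + Q)) - (P₁ + Q) * (P₁ + Q) := by rw [hyB]; noncomm_ring
      _ = (P₁ + Q) * S * (P₁ + Q) * B - (P₁ + Q) := by
          rw [e3, show B * (P₁ + Q) = (P₁ + Q) * B by rw [mul_add, add_mul, hBP, hBQ], mul_assoc]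
          simp only [mul_assoc]
      _ = _ := by rw [e1, e2]; noncomm_ring
  have hrank : (P₁ + Q * (1 - B)).rank ≤ X.rank := by
    have e1 : (y : Mt t m F) - 1 = cj D⁻¹ X := by
      rw [hX, cj, inv_inv, mul_sub, sub_mul, mul_one, Units.inv_mul, hyv]
    have e3 : P₁ + Q * (1 - B) = -(P₁ + Q) * ((y : Mt t m F) - 1) * (P₁ + Q) := by
      rw [Matrix.neg_mul, Matrix.neg_mul, key, neg_neg]
    rw [e3, ← rank_cj D⁻¹ X, ← e1]
    exact rank_conj_le _ _ _
  have hle : X.rank ≤ P₁.rank ∧ (4 ≤ m → X.rank < P₁.rank) := by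
    rw [hrk, rank_eu i j a₀ b₀ a₀, rank_eu_self, hP₁proj, rank_proj]
    exact card_lt_pairs hm hjk a₀
  have hB1 : B = 1 := by
    by_contra hB1
    have hQ0 : Q * (1 - B) ≠ 0 := by
      rw [hQ, mul_assoc]
      intro h0
      have h1 := eu_mul_eq_zero ((com_eu hjk _ _).mul ((com_one j).sub hBj)) h0
      exact sub_ne_zero.2 (Ne.symm hB1) (eu_mul_eq_zero ((com_one k).sub hBk) h1)
    have hlt := rank_lt_add (P := P₁) (Q := Q * (1 - B)) (C := 1) (C' := 1) hP₁P₁
      (by rw [← mul_assoc, hPQ, zero_mul]) (by rw [mul_assoc, sub_mul, one_mul, hBP, mul_sub, ← mul_assoc Q, hQP,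
        zero_mul, sub_zero]) hQ0 (by rw [one_mul, mul_one]) (one_mul 1)
    rw [mul_one] at hlt
    exact lt_irrefl _ ((hlt.trans_le hrank).trans_le hle.1)
  refine ⟨?_, h2, j, k, a k, hjk, ?_⟩
  · by_contra hm3
    have h4 := hle.2 (by omega)
    rw [hB1, sub_self, mul_zero, add_zero] at hrank
    omega
  · rw [← hD, ← hS, show S = (y : Mt t m F) by rw [hyB, hB1, mul_one], hyv, cj]
    simp [mul_assoc]

end CfsgLib.Geo.TensorPow
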