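/-
No root element of a factor is conjugate to a transposition of two factors in a bad overgroup.
-/
import Cfsg.Agent.Geo.TensorPow.Classify

set_option autoImplicit false
set_option linter.unusedSectionVars false

namespace CfsgLib.Geo.TensorPow

open Matrix Cfsg Cfsg.Geo CfsgLib.Geo CfsgLib.Aschbacher
open scoped MatrixGroups

variable {F : Type*} [Field F] {t m : ℕ}

lemma cj_sub (g : GL (Fin t → Fin m) F) (X Y : Mt t m F) : cj g (X - Y) = cj g X - cj g Y := by
  simp [cj, mul_sub, sub_mul]

lemma cj_mul_coe (g : GL (Fin t → Fin m) F) (X : Mt t m F) : cj g X * (g : Mt t m F) = (g : Mt t m F) * X := by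
  simp [cj, mul_assoc]

lemma eu_ne_zero [NeZero m] (i : Fin t) (a b : Fin m) : (eu i a b : Mt t m F) ≠ 0 := fun h => by
  have := congrFun (congrFun h (Function.update 0 i a)) (Function.update 0 i b)
  rw [eu, slot_update, Matrix.single_apply_same, Matrix.zero_apply] at this
  exact one_ne_zero this

/-- A matrix fixed by a transposition on both sides with the rows on the diagonal related to the others
vanishes there. -/
lemma diag_rows_zero (hm : 3 ≤ m) {j k : Fin t} (hjk : j ≠ k) {Φ : Mt t m F}
    (hσ : ∀ x y, Φ x (y ∘ Equiv.swap j k) = Φ x y)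
    (heq : ∀ p q, p ≠ q → ∀ x y, x j = x k → y j = q → y k ≠ q →
      (if x j = p then Φ (Function.update (Function.update x j q) k q) y else 0) = Φ x (Function.update y j p)) :
    ∀ x y, x j = x k → Φ x y = 0 := by
  have h1 : ∀ x y, x j = x k → y j ≠ x j → Φ x y = 0 := by
    intro x y hx hy
    obtain ⟨q, hqj, hqk⟩ := exists_third hm (y j) (y k)
    have h := heq (y j) q hqj.symm x (Function.update y j q) hx (by simp)
      (by rw [Function.update_of_ne hjk.symm]; exact hqk.symm)
    rw [if_neg (Ne.symm hy), Function.update_idem, Function.update_eq_self] at h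
    exact h.symm
  have h2 : ∀ x y, x j = x k → y k ≠ x j → Φ x y = 0 := by
    intro x y hx hy
    rw [← hσ x y]
    exact h1 x _ hx (by simpa using hy)
  intro x y hx
  by_cases hr : y j = x j
  swap
  · exact h1 x y hx hr
  by_cases hs : y k = x j
  swap
  · exact h2 x y hx hs
  obtain ⟨q, hq, -⟩ := exists_third hm (x j) (x j)
  have hd : (Function.update (Function.update x j q) k q) j = (Function.update (Function.update x j q) k q) k := by
    simp [Function.update_of_ne hjk]
  have h := heq (x j) q hq.symm x (Function.update y j q) hx (by simp)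
    (by rw [Function.update_of_ne hjk.symm, hs]; exact hq.symm)
  rw [if_pos rfl, Function.update_idem, ← hr, Function.update_eq_self] at h
  rw [← h]
  refine h2 _ _ hd ?_
  rw [Function.update_of_ne hjk.symm, hs]
  simp [Function.update_of_ne hjk, hq.symm]

/-- An involutory automorphism of the matrices fixing a matrix unit, on a second one in its column. -/
lemma fix_root_image (hm : m = 3) (h2 : (2 : F) = 0) {a b c : Fin m} (hab : a ≠ b) (hca : c ≠ a) (hcb : c ≠ b)
    (φ : Matrix (Fin m) (Fin m) F →ₗ[F] Matrix (Fin m) (Fin m) F) (hφm : ∀ A B, φ (A * B) = φ A * φ B)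
    (hφab : φ (Matrix.single a b 1) = Matrix.single a b 1)
    (hφφ : φ (φ (Matrix.single c b 1)) = Matrix.single c b 1) :
    ∃ ν : F, φ (Matrix.single c b 1) = ν • Matrix.single a b 1 + Matrix.single c b 1 := by
  set C := φ (Matrix.single c b 1) with hC
  have hrow : ∀ s, C b s = 0 := fun s => by
    have h1 : Matrix.single a b (1 : F) * C = 0 := by
      rw [← hφab, hC, ← hφm, Matrix.single_mul_single_of_ne _ _ _ _ hcb.symm, map_zero]
    simpa [Matrix.single_mul_apply_same] using congrFun (congrFun h1 a) s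
  have hcol : ∀ r s, s ≠ b → C r s = 0 := fun r s hs => by
    have h1 : C = φ (Matrix.single c a 1) * Matrix.single a b 1 := by
      rw [hC, ← hφab, ← hφm, Matrix.single_mul_single_same, one_mul]
    rw [h1]
    simp [Matrix.mul_apply, Matrix.single_apply, hs.symm]
  have huniv : ∀ r : Fin m, r = a ∨ r = b ∨ r = c := by
    intro r
    by_contra hr
    push Not at hr
    have := Finset.card_le_univ ({r, a, b, c} : Finset (Fin m))
    rw [Finset.card_insert_of_notMem (by simp [hr.1, hr.2.1, hr.2.2]),
      Finset.card_insert_of_notMem (by simp [hab, hca.symm]),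
      Finset.card_pair hcb.symm, Fintype.card_fin] at this
    omega
  have hCe : C = C a b • Matrix.single a b 1 + C c b • Matrix.single c b 1 := by
    ext r s
    simp only [Matrix.add_apply, Matrix.smul_apply, Matrix.single_apply, smul_eq_mul]
    by_cases hs : s = b
    · subst hs
      rcases huniv r with rfl | rfl | rfl
      · simp [hca]
      · simp [hrow, hab, hcb]
      · simp [hca.symm]
    · rw [hcol r s hs, if_neg fun h => hs h.2.symm, if_neg fun h => hs h.2.symm]
      simp
  have hlam : C c b = 1 := by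
    have e : φ C = C a b • Matrix.single a b 1 + C c b • C := by
      conv_lhs => rw [hCe]
      rw [map_add, map_smul, map_smul, hφab, ← hC]
    have h1 := congrFun (congrFun (e.symm.trans hφφ) c) b
    simp [Matrix.single_apply, hca.symm] at h1
    rcases mul_self_eq_one_iff.1 h1 with h | h
    · exact h
    · rw [h, neg_eq_iff_add_eq_zero, one_add_one_eq_two, h2]
  refine ⟨C a b, ?_⟩
  conv_lhs => rw [hCe, hlam, one_smul]

namespace Bad

variable {M : Subgroup (GL (Fin t → Fin m) F)}

lemma swap_rel [Finite F] (hM : Bad M) (hm : m = 3) (h2 : (2 : F) = 0) {g : GL (Fin t → Fin m) F} (hg : g ∈ M)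
    {i : Fin t} {a b c : Fin m} (hab : a ≠ b) (hca : c ≠ a) (hcb : c ≠ b) {j k : Fin t} (hjk : j ≠ k)
    (a₀ : GL (Fin m) F) (hx : 1 + cj g (eu i a b) = cj (slotU k a₀) (permMat m (Equiv.swap j k)))
    {p q : Fin m} (hpq : p ≠ q) :
    ∃ ν : F, ((1 + eu j p q) * (1 + eu k p q) : Mt t m F) * cj ((slotU k a₀)⁻¹ * g) (eu i c b) =
      (ν • cj ((slotU k a₀)⁻¹ * g) (eu i a b) + cj ((slotU k a₀)⁻¹ * g) (eu i c b)) *
        ((1 + eu j p q) * (1 + eu k p q)) := by
  haveI : NeZero m := ⟨by omega⟩
  have hm3 : 3 ≤ m := hm.ge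
  set σ := Equiv.swap j k with hσdef
  set P : Mt t m F := permMat m σ with hP
  set D := slotU (F := F) k a₀ with hD
  set g' := D⁻¹ * g with hg'
  let T : GL (Fin m) F :=
    Matrix.SpecialLinearGroup.toGL (Matrix.SpecialLinearGroup.transvection hpq (1 : F))
  have hT : T ∈ specialLinear (Fin m) F := mem_specialLinear.2 (Matrix.det_transvection_of_ne p q hpq 1)
  have hTl : ∀ l, (slotU l T : Mt t m F) = 1 + eu l p q := fun l => by
    show slot l (1 + Matrix.single p q 1) = _
    rw [slot_add, slot_one, eu]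
  have hT' : a₀ * T * a₀⁻¹ ∈ specialLinear (Fin m) F := by
    rw [specialLinear, MonoidHom.mem_ker] at hT ⊢
    rw [map_mul, map_mul, hT, mul_one, ← map_mul, mul_inv_cancel, map_one]
  set H := slotU j T * slotU k T with hH
  set z := slotU j T * slotU k (a₀ * T * a₀⁻¹) with hz
  have hzM : z ∈ M := M.mul_mem (hM.slot_mem hm3 j hT) (hM.slot_mem hm3 k hT')
  have hDj : slotU j T * D = D * slotU j T := Units.ext (slot_mul_comm hjk _ _)
  have hzD : z * D = D * H := by
    rw [hz, map_mul, map_mul, map_inv, ← hD, hH]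
    simp only [mul_assoc, inv_mul_cancel, mul_one]
    rw [← mul_assoc (slotU j T) D, hDj, mul_assoc]
  have hHP : (H : Mt t m F) * P = P * (H : Mt t m F) := by
    rw [hH, Units.val_mul, slotU_val, slotU_val, hP, ← mul_assoc, permMat_mul_slot, mul_assoc (slot (σ j) _),
      permMat_mul_slot, ← mul_assoc, hσdef, Equiv.swap_apply_left, Equiv.swap_apply_right,
      slot_mul_comm hjk.symm]
  set w := g⁻¹ * z * g with hw
  have hwM : w ∈ M := M.mul_mem (M.mul_mem (M.inv_mem hg) hzM) hg
  have hwE : cj w (eu i a b) = eu i a b := by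
    refine cj_injective g ?_
    rw [← cj_comp, show g * w = z * g by rw [hw]; group, cj_comp, eq_sub_of_add_eq' hx, cj_sub, cj_one,
      ← cj_comp, hzD, cj_comp]
    congr 2
    rw [cj, hHP, mul_assoc, Units.mul_inv, mul_one]
  obtain ⟨φ, hφb, hφm, hφ⟩ := (hM.pres_of_root hm3 hwM hab hwE).exists_map
  have hTT : T * T = 1 := Units.ext (by
    show ((1 + Matrix.single p q 1) * (1 + Matrix.single p q 1) : Matrix (Fin m) (Fin m) F) = 1
    rw [add_mul, one_mul, mul_add, mul_one, Matrix.single_mul_single_of_ne _ _ _ _ hpq.symm, add_zero,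
      add_assoc, smat_add_self h2, add_zero])
  have hzz : z * z = 1 := by
    have hjk' : slotU k (a₀ * T * a₀⁻¹) * slotU j T = slotU j T * slotU k (a₀ * T * a₀⁻¹) :=
      Units.ext (slot_mul_comm hjk.symm _ _)
    rw [hz, mul_assoc, ← mul_assoc (slotU k _), hjk', mul_assoc, ← map_mul, ← mul_assoc, ← map_mul, hTT,
      map_one, one_mul]
    rw [show a₀ * T * a₀⁻¹ * (a₀ * T * a₀⁻¹) = a₀ * (T * T) * a₀⁻¹ by group, hTT, mul_one, mul_inv_cancel,
      map_one]
  have hww : w * w = 1 := by
    rw [hw, show g⁻¹ * z * g * (g⁻¹ * z * g) = g⁻¹ * (z * z) * g by group, hzz]; group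
  have hφab : φ (Matrix.single a b 1) = Matrix.single a b 1 := slot_injective i (by rw [← hφ]; exact hwE)
  have hφφ : φ (φ (Matrix.single c b 1)) = Matrix.single c b 1 := slot_injective i (by
    rw [← hφ, ← hφ, ← cj_comp, hww, cj, Units.val_one, inv_one, Units.val_one, one_mul, mul_one])
  obtain ⟨ν, hν⟩ := fix_root_image hm h2 hab hca hcb φ hφm hφab hφφ
  refine ⟨ν, ?_⟩
  have hcjH : cj H (cj g' (eu i c b)) = ν • cj g' (eu i a b) + cj g' (eu i c b) := by
    have hwC : cj w (eu i c b) = ν • eu i a b + eu i c b := by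
      show cj w (slot i (Matrix.single c b 1)) = _
      rw [hφ, hν, slot_add, slot_smul]
      rfl
    rw [← cj_comp, show H * g' = g' * w by
      rw [hg', hw, show H = D⁻¹ * (D * H) by group, ← hzD]; group, cj_comp, hwC, cj_add, cj_smul]
  have hHval : (H : Mt t m F) = (1 + eu j p q) * (1 + eu k p q) := by rw [hH, Units.val_mul, hTl, hTl]
  rw [← hHval, ← hcjH, cj_mul_coe]

theorem not_swap [Finite F] (hM : Bad M) (hm : m = 3) (h2 : (2 : F) = 0) {g : GL (Fin t → Fin m) F} (hg : g ∈ M)
    {i : Fin t} {a b : Fin m} (hab : a ≠ b) {j k : Fin t} (hjk : j ≠ k) (a₀ : GL (Fin m) F)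
    (hx : 1 + cj g (eu i a b) = cj (slotU k a₀) (permMat m (Equiv.swap j k))) : False := by
  classical
  have hm3 : 3 ≤ m := hm.ge
  haveI : NeZero m := ⟨by omega⟩
  obtain ⟨c, hca, hcb⟩ := exists_third hm3 a b
  set σ := Equiv.swap j k with hσdef
  set P : Mt t m F := permMat m σ with hP
  set D := slotU (F := F) k a₀ with hD
  set g' := D⁻¹ * g with hg'
  set Fm : Mt t m F := cj g' (eu i a b) with hFm
  set Φ : Mt t m F := cj g' (eu i c b) with hΦ
  have hFP : Fm = P + 1 := by
    rw [hFm, hg', cj_comp, eq_sub_of_add_eq' hx, cj_sub, cj_inv_cj, cj_one, sub_eq_add_neg,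
      neg_eq_of_add_eq_zero_left (smat_add_self h2 (1 : Mt t m F))]
  -- both sides are fixed by the transposition
  have hPΦ : P * Φ = Φ := by
    have h0 : Fm * Φ = 0 := by rw [hFm, hΦ, ← cj_mul, eu_mul_ne i hcb.symm, cj_zero]
    rw [hFP, add_mul, one_mul] at h0
    rw [eq_neg_of_add_eq_zero_left h0]
    exact neg_eq_of_add_eq_zero_left (smat_add_self h2 _)
  have hΦP : Φ * P = Φ := by
    have h0 : Φ * Fm = 0 := by rw [hFm, hΦ, ← cj_mul, eu_mul_ne i hab.symm, cj_zero]
    rw [hFP, mul_add, mul_one] at h0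
    rw [eq_neg_of_add_eq_zero_left h0]
    exact neg_eq_of_add_eq_zero_left (smat_add_self h2 _)
  have hrowσ : ∀ x y, Φ (x ∘ σ) y = Φ x y := fun x y => by
    rw [← permMat_mul_apply σ Φ x y, ← hP, hPΦ]
  have hcolσ : ∀ x y, Φ x (y ∘ σ) = Φ x y := fun x y => by
    have h := mul_permMat_apply σ Φ x y
    rw [← hP, hΦP] at h
    rw [h]
    simp [hσdef, Function.comp_def]
  -- the relation from a transvection on both factors
  have hrel : ∀ p q, p ≠ q → ∃ ν : F, ((1 + eu j p q) * (1 + eu k p q) : Mt t m F) * Φ =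
      (ν • Fm + Φ) * ((1 + eu j p q) * (1 + eu k p q)) :=
    fun p q hpq => hM.swap_rel hm h2 hg hab hca hcb hjk a₀ hx hpq
  -- rows on the diagonal
  have hdiag : ∀ x y, x j = x k → Φ x y = 0 := by
    refine diag_rows_zero hm3 hjk hcolσ fun p q hpq x y hx hyj hyk => ?_
    obtain ⟨ν, hν⟩ := hrel p q hpq
    have h := congrFun (congrFun hν x) y
    have hxσ : x ∘ σ = x := funext fun l => by
      simp only [Function.comp_apply, hσdef]
      rcases eq_or_ne l j with rfl | hlj
      · rw [Equiv.swap_apply_left, hx]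
      · rcases eq_or_ne l k with rfl | hlk
        · rw [Equiv.swap_apply_right, hx]
        · rw [Equiv.swap_apply_of_ne_of_ne hlj hlk]
    have hFrow : ∀ X : Mt t m F, (Fm * X) x y = 0 := fun X => by
      rw [hFP, add_mul, one_mul, Matrix.add_apply, hP, permMat_mul_apply, hxσ, ← two_mul, h2, zero_mul]
    rw [add_mul (ν • Fm), Matrix.add_apply, smul_mul_assoc, Matrix.smul_apply, hFrow, smul_zero, zero_add] at h
    have e1 : ∀ A B : Mt t m F, (1 + A) * (1 + B) * Φ = Φ + B * Φ + A * Φ + A * (B * Φ) := fun A B => by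
      noncomm_ring
    have e2 : ∀ A B : Mt t m F, Φ * ((1 + A) * (1 + B)) = Φ + Φ * A + Φ * B + Φ * A * B := fun A B => by
      noncomm_ring
    rw [e1, e2] at h
    simp only [Matrix.add_apply, eu_mul_apply, mul_eu_apply, Function.update_of_ne hjk,
      Function.update_of_ne hjk.symm] at h
    rw [if_pos hyj, if_neg hyk, if_neg hyk] at h
    by_cases hp : x j = p
    · have hσupd : Function.update x k q = (Function.update x j q) ∘ σ := by
        funext l
        simp only [Function.comp_apply, hσdef]
        rcases eq_or_ne l k with rfl | hlk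
        · simp
        · rcases eq_or_ne l j with rfl | hlj
          · simp [Function.update_of_ne hjk, Function.update_of_ne hjk.symm, hx]
          · simp [Equiv.swap_apply_of_ne_of_ne hlj hlk, Function.update_of_ne hlk, Function.update_of_ne hlj]
      have hk : x k = p := hx ▸ hp
      simp only [if_pos hp, if_pos hk] at h
      rw [hσupd, hrowσ] at h
      rw [if_pos hp]
      have hdd : ∀ u : F, u + u = 0 := fun u => by rw [← two_mul, h2, zero_mul]
      linear_combination h - hdd (Φ (Function.update x j q) y)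
    · have hk : x k ≠ p := hx ▸ hp
      simp only [if_neg hp, if_neg hk] at h
      rw [if_neg hp]
      linear_combination h
  -- the rows off the diagonal are in the image of `Fm`
  have hfac : Φ = Fm * (proj (fun x => x j < x k) * Φ) := by
    ext x y
    rw [hFP, add_mul, one_mul, Matrix.add_apply, hP, permMat_mul_apply, proj, Matrix.diagonal_mul,
      Matrix.diagonal_mul, hrowσ]
    simp only [Function.comp_apply, hσdef, Equiv.swap_apply_left, Equiv.swap_apply_right]
    rcases lt_trichotomy (x j) (x k) with h | h | h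
    · rw [if_neg (not_lt.2 h.le), if_pos h]; ring
    · rw [hdiag x y h]; simp
    · rw [if_pos h, if_neg (not_lt.2 h.le)]; ring
  have hC : eu i c b = eu i a b * cj g'⁻¹ (proj (fun x => x j < x k) * Φ) := by
    refine cj_injective g' ?_
    rw [cj_mul, cj_cj_inv]
    exact hfac
  refine eu_ne_zero (F := F) i c b ?_
  calc (eu i c b : Mt t m F) = eu i c c * eu i c b := (eu_mul i c c b).symm
    _ = 0 := by rw [hC, ← mul_assoc, eu_mul_ne i hca, zero_mul]

end Bad

end CfsgLib.Geo.TensorPow
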