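/-
A member sending a root element of a factor into the stabiliser lies in the stabiliser, given that the
members commuting with more factors do.
-/
import Cfsg.Agent.Geo.TensorPow.Swap

set_option autoImplicit false
set_option linter.unusedSectionVars false

namespace CfsgLib.Geo.TensorPow

open Matrix Cfsg Cfsg.Geo CfsgLib.Geo CfsgLib.Aschbacher
open scoped MatrixGroups

variable {F : Type*} [Field F] {t m : ℕ}

/-- The members commuting with the factors in a larger set lie in the stabiliser. -/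
def Above (M : Subgroup (GL (Fin t → Fin m) F)) (S : Finset (Fin t)) : Prop :=
  ∀ S', S ⊂ S' → ∀ g ∈ M, (∀ s ∈ S', Com s (g : Mt t m F)) → g ∈ tensorWreathStandard m t F

lemma Com.cj {s : Fin t} {g : GL (Fin t → Fin m) F} (hg : Com s (g : Mt t m F)) {X : Mt t m F} (hX : Com s X) :
    Com s (cj g X) :=
  (hg.mul hX).mul hg.inv

lemma Com.pres {s : Fin t} {g : GL (Fin t → Fin m) F} (hg : Com s (g : Mt t m F)) : Pres g s s := fun p q =>
  ⟨Matrix.single p q 1, by rw [TensorPow.cj, ← hg, mul_assoc, Units.mul_inv, mul_one]; rfl⟩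

lemma pres_slotU (j : Fin t) (u : GL (Fin m) F) : Pres (slotU j u) j j := fun p q =>
  ⟨(u : Matrix (Fin m) (Fin m) F) * Matrix.single p q 1 * ((u⁻¹ : GL (Fin m) F) : Matrix (Fin m) (Fin m) F), by
    rw [cj, ← map_inv, slotU_val, slotU_val, eu, slot_mul, slot_mul]⟩

lemma conj_rootU_val (g : GL (Fin t → Fin m) F) (i : Fin t) {a b : Fin m} (hab : a ≠ b) (c : F) :
    ((g * rootU i a b hab c * g⁻¹ : GL (Fin t → Fin m) F) : Mt t m F) = 1 + c • cj g (eu i a b) := by
  rw [Units.val_mul, Units.val_mul, rootU_val, mul_add, add_mul, mul_one, Units.mul_inv, ← cj_smul]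
  rfl

namespace Bad

variable {M : Subgroup (GL (Fin t → Fin m) F)}

theorem exists_pres [Finite F] (hM : Bad M) (hm : 3 ≤ m) {g : GL (Fin t → Fin m) F} (hg : g ∈ M)
    {S : Finset (Fin t)} (hS : ∀ s ∈ S, Com s (g : Mt t m F)) {i : Fin t} (hi : i ∉ S) {a b : Fin m} (hab : a ≠ b)
    (hN : g * rootU i a b hab 1 * g⁻¹ ∈ tensorWreathStandard m t F) : ∃ k, k ∉ S ∧ Pres g i k := by
  classical
  haveI : NeZero m := ⟨by omega⟩
  have hv := conj_rootU_val g i hab (1 : F)
  rw [one_smul] at hv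
  have hsq : cj g (eu i a b) * cj g (eu i a b) = 0 := by rw [← cj_mul, eu_sq i hab, cj_zero]
  rcases classify_wreath hm hN (by rw [hv, add_sub_cancel_left]; exact hsq) (i := i) (a₀ := a) (b₀ := b)
    (by rw [hv, add_sub_cancel_left, rank_cj]) with ⟨j, A, hA, hA0, hAA⟩ | ⟨hm3, h2, j, k, a₀, hjk, hx⟩
  swap
  · exact (hM.not_swap hm3 h2 hg hab hjk a₀ (hv ▸ hx)).elim
  rw [hv, add_sub_cancel_left] at hA
  have hj : j ∉ S := fun hjS => by
    have hc : Com j (slot j A : Mt t m F) :=
      hA ▸ (hS j hjS).cj (com_eu (fun e : j = i => hi (e ▸ hjS)) a b)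
    obtain ⟨c, hc'⟩ := scalar_of_forall_comm (A := A) fun P => slot_injective j (by
      rw [← slot_mul, ← slot_mul, hc.slot_comm])
    apply hA0
    rw [hc', smul_mul_assoc, one_mul, smul_smul] at hAA
    have hcc := congrFun (congrFun hAA 0) 0
    simp at hcc
    rw [hc', hcc, zero_smul]
  obtain ⟨h, hh, hcj⟩ := exists_std hm hA0 hAA (i := i) (a' := a) (b' := b) (by rw [← hA, rank_cj]) hab
  have hP : Pres (slotU j h * g) i j :=
    hM.pres_of_root hm (M.mul_mem (hM.slot_mem hm j hh) hg) hab (by rw [cj_comp, hA, hcj])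
  refine ⟨j, hj, ?_⟩
  have := hP.mul (pres_slotU j h⁻¹)
  rwa [map_inv, inv_mul_cancel_left] at this

theorem mem_of_root [Finite F] (hM : Bad M) (hm : 3 ≤ m) {S : Finset (Fin t)} (hA : Above M S)
    {g : GL (Fin t → Fin m) F} (hg : g ∈ M) (hS : ∀ s ∈ S, Com s (g : Mt t m F)) {i : Fin t} (hi : i ∉ S)
    {a b : Fin m} (hab : a ≠ b)
    (hN : g * rootU i a b hab 1 * g⁻¹ ∈ tensorWreathStandard m t F) : g ∈ tensorWreathStandard m t F := by
  classical
  haveI : NeZero m := ⟨by omega⟩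
  obtain ⟨j, hj, hij⟩ := hM.exists_pres hm hg hS hi hab hN
  refine mem_wreath_of_pres (by omega) (by have := i.2; omega) fun l => ?_
  rcases eq_or_ne l i with rfl | hli
  · exact ⟨j, hij⟩
  by_cases hl : l ∈ S
  · exact ⟨l, (hS l hl).pres⟩
  have hroot : rootU l a b hab (1 : F) ∈ M := by
    obtain ⟨x, hx, hxv⟩ := hM.root_mem hm l hab (1 : F)
    rwa [show rootU l a b hab (1 : F) = x from Units.ext hxv.symm]
  have hY : g * rootU l a b hab 1 * g⁻¹ ∈ tensorWreathStandard m t F := by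
    refine hA (insert j S) (Finset.ssubset_insert hj) _
      (M.mul_mem (M.mul_mem hg hroot) (M.inv_mem hg)) fun s hs => ?_
    rw [conj_rootU_val, one_smul]
    refine (com_one s).add ?_
    rcases Finset.mem_insert.1 hs with rfl | hs
    · exact hij.com (com_eu hli.symm a b)
    · exact (hS s hs).cj (com_eu (fun e : s = l => hl (e ▸ hs)) a b)
  obtain ⟨k, -, hk⟩ := hM.exists_pres hm hg hS hl hab hY
  exact ⟨k, hk⟩

end Bad

end CfsgLib.Geo.TensorPow
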