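/-
The sum of a form over the cosets of the stabiliser differs from the form only at arguments where both
root groups of every free factor act with large degree.
-/
import Cfsg.Agent.Geo.TensorPow.Semi
import Cfsg.Agent.Geo.TensorPow.Forms

set_option autoImplicit false
set_option linter.unusedSectionVars false

namespace CfsgLib.Geo.TensorPow

open Matrix Cfsg Cfsg.Geo CfsgLib.Geo CfsgLib.Aschbacher
open scoped MatrixGroups

universe u

variable {F : Type u} [Field F] {t m d : ℕ}

/-- The members commuting with the factors in `S`. -/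
def stab (M : Subgroup (GL (Fin t → Fin m) F)) (S : Finset (Fin t)) : Subgroup (GL (Fin t → Fin m) F) where
  carrier := {g | g ∈ M ∧ ∀ s ∈ S, Com s (g : Mt t m F)}
  mul_mem' hg hh := ⟨M.mul_mem hg.1 hh.1, fun s hs => by rw [Units.val_mul]; exact (hg.2 s hs).mul (hh.2 s hs)⟩
  one_mem' := ⟨M.one_mem, fun s _ => by rw [Units.val_one]; exact com_one s⟩
  inv_mem' hg := ⟨M.inv_mem hg.1, fun s hs => (hg.2 s hs).inv⟩

lemma mem_stab {M : Subgroup (GL (Fin t → Fin m) F)} {S : Finset (Fin t)} {g : GL (Fin t → Fin m) F} :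
    g ∈ stab M S ↔ g ∈ M ∧ ∀ s ∈ S, Com s (g : Mt t m F) := Iff.rfl

lemma exists_conj_single (hm : 3 ≤ m) {u f : Fin m → F} (hu : u ≠ 0) (hf : f ≠ 0) (hfu : f ⬝ᵥ u = 0)
    {a b : Fin m} (hab : a ≠ b) :
    ∃ h : GL (Fin m) F, h ∈ specialLinear (Fin m) F ∧
      (h : Matrix (Fin m) (Fin m) F) * vecMulVec u f * ((h⁻¹ : GL (Fin m) F) : Matrix (Fin m) (Fin m) F) =
        Matrix.single a b 1 := by
  obtain ⟨g₁, hg₁, hg₁u⟩ := Tensor.move_vec (show 2 ≤ Fintype.card (Fin m) by simp; omega) hu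
    (show (Pi.single a 1 : Fin m → F) ≠ 0 by simp)
  set f₁ := f ᵥ* ((g₁⁻¹ : GL (Fin m) F) : Matrix (Fin m) (Fin m) F) with hf₁
  have hf₁u : f₁ ⬝ᵥ Pi.single a 1 = 0 := by rw [hf₁, ← hg₁u, vecMul_dotProduct_mulVec, hfu]
  have hf₁0 : f₁ ≠ 0 := fun h0 => hf (by
    have := congrArg (· ᵥ* (g₁ : Matrix (Fin m) (Fin m) F)) h0
    simpa [hf₁, Matrix.vecMul_vecMul, ← Units.val_mul] using this)
  obtain ⟨g₂, hg₂, hg₂u, hg₂f⟩ := Tensor.move_covec (show 3 ≤ Fintype.card (Fin m) by simp; omega) hf₁0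
    (show (Pi.single b 1 : Fin m → F) ≠ 0 by simp) hf₁u (show (Pi.single b 1 : Fin m → F) ⬝ᵥ Pi.single a 1 = 0 by
      simp [hab.symm])
  refine ⟨g₂ * g₁, mul_mem hg₂ hg₁, ?_⟩
  rw [Matrix.mul_vecMulVec, Matrix.vecMulVec_mul, Units.val_mul, ← Matrix.mulVec_mulVec, hg₁u, hg₂u,
    _root_.mul_inv_rev, Units.val_mul, ← Matrix.vecMul_vecMul, ← hf₁, hg₂f]
  exact vecMulVec_single_single a b

/-- The unipotent element of an abelian root group. -/
def trU {U : Type*} [AddCommGroup U] (A : U →+ Matrix (Fin m) (Fin m) F) (hA : ∀ u u', A u * A u' = 0) (u : U) :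
    GL (Fin m) F :=
  ⟨1 + A u, 1 + A (-u), by rw [add_mul, one_mul, mul_add, mul_one, hA, map_neg]; abel,
    by rw [add_mul, one_mul, mul_add, mul_one, hA, map_neg]; abel⟩

section

variable {U : Type*} [AddCommGroup U] (A : U →+ Matrix (Fin m) (Fin m) F) (hA : ∀ u u', A u * A u' = 0)

lemma trU_val (u : U) : (trU A hA u : Matrix (Fin m) (Fin m) F) = 1 + A u := rfl

lemma trU_inv_val (u : U) :
    (((trU A hA u)⁻¹ : GL (Fin m) F) : Matrix (Fin m) (Fin m) F) = 1 + A (-u) := rfl

lemma trU_add (u u' : U) : trU A hA (u + u') = trU A hA u * trU A hA u' := by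
  refine Units.ext ?_
  rw [Units.val_mul, trU_val, trU_val, trU_val, map_add, add_mul, one_mul, mul_add, mul_one, hA, add_zero]
  abel

lemma trU_mem [Finite F] (u : U) : trU A hA u ∈ specialLinear (Fin m) F :=
  mem_specialLinear.2 (by rw [trU_val]; exact det_one_add (hA u u))

end

variable [Fintype F] {M : Subgroup (GL (Fin t → Fin m) F)}

theorem Bad.exists_invariant (hM : Bad M) (hm : 3 ≤ m) {S : Finset (Fin t)} (hS : Above M S)
    (ε : Fin d → Bool) (C : (Fin d → Fin t → Fin m) → F)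
    (hC : ∀ h ∈ stab M S, h ∈ tensorWreathStandard m t F → act ε h C = C) :
    ∃ T : (Fin d → Fin t → Fin m) → F, (∀ g ∈ stab M S, act ε g T = T) ∧
      (∀ φ : ((Fin d → Fin t → Fin m) → F) →+ F, (∀ g ∈ stab M S, φ (act ε g C) = 0) → φ T = 0) ∧
      ∀ (i : Fin t) (U : Type u) [AddCommGroup U] [Fintype U] (A : U →+ Matrix (Fin m) (Fin m) F)
        (hA : ∀ u u', A u * A u' = 0), i ∉ S →
        (∀ u, u ≠ 0 → ∃ v f : Fin m → F, v ≠ 0 ∧ f ≠ 0 ∧ f ⬝ᵥ v = 0 ∧ A u = vecMulVec v f) →
        ∀ φ : ((Fin d → Fin t → Fin m) → F) →+ F,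
          (∀ X, ∑ u, φ (act ε (slotU i (trU A hA u)) X) = 0) → φ T = φ C := by
  classical
  haveI : NeZero m := ⟨by omega⟩
  set Γ := stab M S with hΓ
  set H := (tensorWreathStandard m t F).subgroupOf Γ with hH
  letI : Fintype (↥Γ ⧸ H) := Fintype.ofFinite _
  let f : ↥Γ ⧸ H → (Fin d → Fin t → Fin m) → F := fun ω =>
    act ε ((ω.out : ↥Γ) : GL (Fin t → Fin m) F)⁻¹ C
  have hf : ∀ g : ↥Γ, f (g : ↥Γ ⧸ H) = act ε (g : GL (Fin t → Fin m) F)⁻¹ C := by
    intro g
    obtain ⟨h, hh⟩ := QuotientGroup.mk_out_eq_mul H g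
    show act ε _ C = _
    rw [hh, Subgroup.coe_mul, _root_.mul_inv_rev, act_mul, hC _ (inv_mem h.1.2) (inv_mem h.2)]
  have hsmul : ∀ (γ : ↥Γ) (ω : ↥Γ ⧸ H), f (γ • ω) = act ε (γ : GL (Fin t → Fin m) F)⁻¹ (f ω) := by
    intro γ ω
    induction ω using QuotientGroup.induction_on with
    | _ g =>
      rw [show γ • (g : ↥Γ ⧸ H) = ((γ * g : ↥Γ) : ↥Γ ⧸ H) from rfl, hf, hf, Subgroup.coe_mul,
        _root_.mul_inv_rev, act_mul]
  refine ⟨∑ ω, f ω, fun g hg => ?_, fun φ hφ => ?_, fun i U _ _ A hA hi hrk φ ha => ?_⟩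
  · rw [act_sum]
    refine Fintype.sum_equiv (MulAction.toPerm (⟨g, hg⟩⁻¹ : ↥Γ)) _ _ fun ω => ?_
    rw [MulAction.toPerm_apply, hsmul, Subgroup.coe_inv, inv_inv]
  · rw [map_sum]
    exact Finset.sum_eq_zero fun ω _ => hφ _ (inv_mem ω.out.2)
  set base : ↥Γ ⧸ H := ((1 : ↥Γ) : ↥Γ ⧸ H) with hbase
  have hρ : ∀ u, slotU i (trU A hA u) ∈ Γ := fun u =>
    ⟨hM.slot_mem hm i (trU_mem A hA u), fun s hs => com_slot (fun e : s = i => hi (e ▸ hs)) _⟩
  let op : U → ↥Γ ⧸ H → ↥Γ ⧸ H := fun u ω => (⟨_, hρ u⟩ : ↥Γ) • ω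
  have hadd : ∀ u u' ω, op (u + u') ω = op u (op u' ω) := fun u u' ω => by
    show _ • ω = _ • _ • ω
    rw [← mul_smul]
    refine congrArg (· • ω) (Subtype.ext ?_)
    show slotU i _ = slotU i _ * slotU i _
    rw [trU_add, map_mul]
  have h0 : ∀ ω, op 0 ω = ω := fun ω => by
    show _ • ω = ω
    rw [show (⟨_, hρ 0⟩ : ↥Γ) = 1 from Subtype.ext (by
      show slotU i (trU A hA 0) = 1
      rw [show trU A hA 0 = 1 from Units.ext (by rw [trU_val, map_zero, add_zero]; rfl), map_one]), one_smul]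
  have hfix : ∀ u, op u base = base := fun u => by
    show _ • _ = _
    refine QuotientGroup.eq.2 ?_
    rw [hH, Subgroup.mem_subgroupOf]
    simp only [smul_eq_mul, mul_one, Subgroup.coe_inv]
    exact inv_mem (slotU_mem_wreath i _)
  have key : φ (∑ ω ∈ Finset.univ.erase base, f ω) = 0 := by
    rw [map_sum]
    refine sum_free_orbits op h0 hadd (fun ω => φ (f ω)) (fun ω => ?_) _ (fun u ω hω => ?_) fun u ω hω he => ?_
    · rw [← ha (f ω)]
      refine Fintype.sum_equiv (Equiv.neg U) _ _ fun u => ?_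
      show φ (f (_ • ω)) = _
      rw [hsmul, ← map_inv, show (trU A hA u)⁻¹ = trU A hA (Equiv.neg U u) from Units.ext (by
        rw [trU_inv_val, trU_val, Equiv.neg_apply])]
    · refine Finset.mem_erase.2 ⟨fun e => Finset.ne_of_mem_erase hω ?_, Finset.mem_univ _⟩
      rw [← h0 ω, ← neg_add_cancel u, hadd, e, hfix]
    · by_contra hu
      obtain ⟨v, w, hv, hw, hwv, hAu⟩ := hrk u hu
      refine Finset.ne_of_mem_erase hω ?_
      induction ω using QuotientGroup.induction_on with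
      | _ g =>
        have hgH := QuotientGroup.eq.1 he.symm
        rw [Subgroup.mem_subgroupOf] at hgH
        simp only [smul_eq_mul, Subgroup.coe_mul, Subgroup.coe_inv] at hgH
        obtain ⟨p, q, hpq⟩ : ∃ p q : Fin m, p ≠ q := ⟨⟨0, by omega⟩, ⟨1, by omega⟩, by simp⟩
        obtain ⟨h, hh, hconj⟩ := exists_conj_single hm hv hw hwv hpq
        have hroot : slotU i h * slotU i (trU A hA u) * (slotU i h)⁻¹ = rootU i p q hpq 1 := Units.ext (by
          rw [← map_inv, ← map_mul, ← map_mul, slotU_val, rootU_val, one_smul, Units.val_mul, Units.val_mul,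
            trU_val, hAu, mul_add, mul_one, add_mul, Units.mul_inv, hconj, slot_add, slot_one, eu])
        have hg' : (g : GL (Fin t → Fin m) F)⁻¹ * (slotU i h)⁻¹ ∈ tensorWreathStandard m t F := by
          refine hM.mem_of_root hm hS (M.mul_mem (M.inv_mem g.2.1) (M.inv_mem (hM.slot_mem hm i hh)))
            (fun s hs => ?_) hi hpq ?_
          · rw [Units.val_mul]
            exact ((g.2.2 s hs).inv).mul (Com.inv (com_slot (fun e : s = i => hi (e ▸ hs)) _))
          · rw [← hroot, _root_.mul_inv_rev, inv_inv, inv_inv]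
            simpa [mul_assoc] using hgH
        refine QuotientGroup.eq.2 ?_
        rw [hH, Subgroup.mem_subgroupOf]
        simpa [mul_assoc] using mul_mem hg' (slotU_mem_wreath i h)
  rw [← Finset.sum_erase_add _ _ (Finset.mem_univ base), map_add, key, zero_add, hbase, hf, Subgroup.coe_one,
    inv_one, act_one]

lemma act_trU (i : Fin t) {U : Type*} [AddCommGroup U] (A : U →+ Matrix (Fin m) (Fin m) F)
    (hA : ∀ u u', A u * A u' = 0) (ε : Fin d → Bool) (u : U) (X : (Fin d → Fin t → Fin m) → F)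
    (a : Fin d → Fin t → Fin m) :
    act ε (slotU i (trU A hA u)) X a = ∑ v : Fin d → Fin m,
      (∏ k, if ε k then (1 : Matrix (Fin m) (Fin m) F) (v k) (a k i) + A u (v k) (a k i)
        else (1 : Matrix (Fin m) (Fin m) F) (a k i) (v k) - A u (a k i) (v k)) *
        X (fun k => Function.update (a k) i (v k)) := by
  rw [act_slot]
  refine Finset.sum_congr rfl fun v _ => congrArg (· * _) (Finset.prod_congr rfl fun k _ => ?_)
  cases ε k
  · rw [ent_false, trU_inv_val, map_neg, if_neg Bool.false_ne_true, Matrix.add_apply, Matrix.neg_apply,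
      sub_eq_add_neg]
  · rw [ent_true, trU_val, if_pos rfl, Matrix.add_apply]

/-- Extension by zero at `o`. -/
def ext0 (o : Fin m) (u : {p // p ≠ o} → F) (r : Fin m) : F := if h : r ≠ o then u ⟨r, h⟩ else 0

lemma ext0_self (o : Fin m) (u : {p // p ≠ o} → F) : ext0 o u o = 0 := dif_neg (by simp)

lemma ext0_add (o : Fin m) (u u' : {p // p ≠ o} → F) : ext0 o (u + u') = ext0 o u + ext0 o u' := by
  funext r
  simp only [ext0, Pi.add_apply]
  split_ifs <;> simp

lemma ext0_ne_zero {o : Fin m} {u : {p // p ≠ o} → F} (h : u ≠ 0) : ext0 o u ≠ 0 := fun h0 => h (funext fun p => by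
  have := congrFun h0 p.1
  rwa [ext0, dif_pos p.2] at this)

lemma sum_ext0 (o r : Fin m) (c : F) (u : {p // p ≠ o} → F) :
    ∑ p : {p // p ≠ o}, (if r = p.1 then c else 0) * u p = c * ext0 o u r := by
  by_cases h : r ≠ o
  · rw [ext0, dif_pos h, Finset.sum_eq_single ⟨r, h⟩]
    · simp
    · intro p _ hp
      rw [if_neg fun e => hp (Subtype.ext e.symm), zero_mul]
    · simp
  · rw [ext0, dif_neg h, mul_zero]
    refine Finset.sum_eq_zero fun p _ => ?_
    rw [if_neg fun e => h (fun h' => p.2 (e.symm.trans h')), zero_mul]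

/-- The root group in the column `o`. -/
def colRoot (o : Fin m) : ({p // p ≠ o} → F) →+ Matrix (Fin m) (Fin m) F :=
  AddMonoidHom.mk' (fun u => vecMulVec (ext0 o u) (Pi.single o 1)) fun u u' => by
    rw [ext0_add, Matrix.add_vecMulVec]

/-- The root group in the row `o`. -/
def rowRoot (o : Fin m) : ({p // p ≠ o} → F) →+ Matrix (Fin m) (Fin m) F :=
  AddMonoidHom.mk' (fun u => vecMulVec (Pi.single o 1) (ext0 o u)) fun u u' => by
    rw [ext0_add, Matrix.vecMulVec_add]

lemma colRoot_mul (o : Fin m) (u u' : {p // p ≠ o} → F) : colRoot o u * colRoot o u' = 0 := by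
  show vecMulVec _ _ * vecMulVec _ _ = 0
  rw [Matrix.vecMulVec_mul_vecMulVec, single_dotProduct, ext0_self]
  simp

lemma rowRoot_mul (o : Fin m) (u u' : {p // p ≠ o} → F) : rowRoot o u * rowRoot o u' = 0 := by
  show vecMulVec _ _ * vecMulVec _ _ = 0
  rw [Matrix.vecMulVec_mul_vecMulVec, dotProduct_single, ext0_self]
  simp

lemma colRoot_rk (o : Fin m) (u : {p // p ≠ o} → F) (hu : u ≠ 0) :
    ∃ v f : Fin m → F, v ≠ 0 ∧ f ≠ 0 ∧ f ⬝ᵥ v = 0 ∧ colRoot o u = vecMulVec v f :=
  ⟨_, Pi.single o 1, ext0_ne_zero hu, by simp, by rw [single_dotProduct, ext0_self, mul_zero], rfl⟩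

lemma rowRoot_rk (o : Fin m) (u : {p // p ≠ o} → F) (hu : u ≠ 0) :
    ∃ v f : Fin m → F, v ≠ 0 ∧ f ≠ 0 ∧ f ⬝ᵥ v = 0 ∧ rowRoot o u = vecMulVec v f :=
  ⟨Pi.single o 1, _, by simp, ext0_ne_zero hu, by rw [dotProduct_single, ext0_self, zero_mul], rfl⟩

lemma colRoot_apply (o : Fin m) (u : {p // p ≠ o} → F) (r s : Fin m) :
    colRoot o u r s = if s = o then ext0 o u r else 0 := by
  show vecMulVec _ _ r s = _
  rw [vecMulVec_apply, Pi.single_apply]
  split_ifs <;> simp

lemma rowRoot_apply (o : Fin m) (u : {p // p ≠ o} → F) (r s : Fin m) :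
    rowRoot o u r s = if r = o then ext0 o u s else 0 := by
  show vecMulVec _ _ r s = _
  rw [vecMulVec_apply, Pi.single_apply]
  split_ifs <;> simp

variable [DecidableEq F]

lemma sum_col (i : Fin t) (o : Fin m) (ε : Fin d → Bool) (a : Fin d → Fin t → Fin m)
    (h : (Finset.univ.filter fun k => (ε k = true ↔ a k i = o)).card < (Fintype.card F - 1) * (m - 1))
    (X : (Fin d → Fin t → Fin m) → F) :
    ∑ u, act ε (slotU i (trU (colRoot o) (colRoot_mul o) u)) X a = 0 := by
  simp only [act_trU]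
  rw [Finset.sum_comm]
  refine Finset.sum_eq_zero fun v _ => ?_
  rw [← Finset.sum_mul]
  set l : Fin d → {p // p ≠ o} → F := fun k p =>
    if ε k then (if v k = p.1 then (if a k i = o then 1 else 0) else 0)
    else (if a k i = p.1 then (if v k = o then -1 else 0) else 0) with hl
  set c : Fin d → F := fun k => if ε k then (1 : Matrix (Fin m) (Fin m) F) (v k) (a k i)
    else (1 : Matrix (Fin m) (Fin m) F) (a k i) (v k) with hc
  rw [show ∑ u, (∏ k, if ε k then (1 : Matrix (Fin m) (Fin m) F) (v k) (a k i) + colRoot o u (v k) (a k i)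
      else (1 : Matrix (Fin m) (Fin m) F) (a k i) (v k) - colRoot o u (a k i) (v k)) = 0 from ?_, zero_mul]
  rw [← sum_prod_affine c l ?_]
  · refine Finset.sum_congr rfl fun u _ => Finset.prod_congr rfl fun k _ => ?_
    cases hε : ε k
    · simp only [hl, hc, hε, sum_ext0, colRoot_apply, Bool.false_eq_true, if_false]
      split_ifs <;> ring
    · simp only [hl, hc, hε, sum_ext0, colRoot_apply, if_true]
      split_ifs <;> ring
  · rw [Fintype.card_subtype_compl, Fintype.card_fin, Fintype.card_subtype_eq]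
    refine lt_of_le_of_lt (Finset.card_le_card fun k hk => ?_) h
    rw [Finset.mem_filter] at hk ⊢
    refine ⟨hk.1, ?_⟩
    by_contra hn
    refine hk.2 (funext fun p => ?_)
    cases hε : ε k
    · have hao : a k i = o := by by_contra h'; exact hn (by simp [hε, h'])
      simp only [hl, hε, Bool.false_eq_true, if_false, hao, Pi.zero_apply]
      rw [if_neg fun e => p.2 e.symm]
    · have hao : a k i ≠ o := fun h' => hn (by simp [hε, h'])
      simp [hl, hε, hao]

lemma sum_row (i : Fin t) (o : Fin m) (ε : Fin d → Bool) (a : Fin d → Fin t → Fin m)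
    (h : (Finset.univ.filter fun k => ¬(ε k = true ↔ a k i = o)).card < (Fintype.card F - 1) * (m - 1))
    (X : (Fin d → Fin t → Fin m) → F) :
    ∑ u, act ε (slotU i (trU (rowRoot o) (rowRoot_mul o) u)) X a = 0 := by
  simp only [act_trU]
  rw [Finset.sum_comm]
  refine Finset.sum_eq_zero fun v _ => ?_
  rw [← Finset.sum_mul]
  set l : Fin d → {p // p ≠ o} → F := fun k p =>
    if ε k then (if a k i = p.1 then (if v k = o then 1 else 0) else 0)
    else (if v k = p.1 then (if a k i = o then -1 else 0) else 0) with hl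
  set c : Fin d → F := fun k => if ε k then (1 : Matrix (Fin m) (Fin m) F) (v k) (a k i)
    else (1 : Matrix (Fin m) (Fin m) F) (a k i) (v k) with hc
  rw [show ∑ u, (∏ k, if ε k then (1 : Matrix (Fin m) (Fin m) F) (v k) (a k i) + rowRoot o u (v k) (a k i)
      else (1 : Matrix (Fin m) (Fin m) F) (a k i) (v k) - rowRoot o u (a k i) (v k)) = 0 from ?_, zero_mul]
  rw [← sum_prod_affine c l ?_]
  · refine Finset.sum_congr rfl fun u _ => Finset.prod_congr rfl fun k _ => ?_
    cases hε : ε k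
    · simp only [hl, hc, hε, sum_ext0, rowRoot_apply, Bool.false_eq_true, if_false]
      split_ifs <;> ring
    · simp only [hl, hc, hε, sum_ext0, rowRoot_apply, if_true]
      split_ifs <;> ring
  · rw [Fintype.card_subtype_compl, Fintype.card_fin, Fintype.card_subtype_eq]
    refine lt_of_le_of_lt (Finset.card_le_card fun k hk => ?_) h
    rw [Finset.mem_filter] at hk ⊢
    refine ⟨hk.1, fun hn => hk.2 (funext fun p => ?_)⟩
    cases hε : ε k
    · have hao : a k i ≠ o := fun h' => by simpa [hε, h'] using hn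
      simp [hl, hε, hao]
    · have hao : a k i = o := hn.1 hε
      simp only [hl, hε, if_true, hao, Pi.zero_apply]
      rw [if_neg fun e => p.2 e.symm]

/-- Agreement at arguments where a root group acts with small degree. -/
lemma eq_of_small {S : Finset (Fin t)} {i : Fin t} (hi : i ∉ S) {o : Fin m} {ε : Fin d → Bool}
    {a : Fin d → Fin t → Fin m} {T C : (Fin d → Fin t → Fin m) → F}
    (h : (Finset.univ.filter fun k => (ε k = true ↔ a k i = o)).card < (Fintype.card F - 1) * (m - 1) ∨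
      (Finset.univ.filter fun k => ¬(ε k = true ↔ a k i = o)).card < (Fintype.card F - 1) * (m - 1))
    (hTC : ∀ (j : Fin t) (U : Type u) [AddCommGroup U] [Fintype U] (A : U →+ Matrix (Fin m) (Fin m) F)
      (hA : ∀ u u', A u * A u' = 0), j ∉ S →
      (∀ u, u ≠ 0 → ∃ v f : Fin m → F, v ≠ 0 ∧ f ≠ 0 ∧ f ⬝ᵥ v = 0 ∧ A u = vecMulVec v f) →
      ∀ φ : ((Fin d → Fin t → Fin m) → F) →+ F,
        (∀ X, ∑ u, φ (act ε (slotU j (trU A hA u)) X) = 0) → φ T = φ C) :
    T a = C a := by
  rcases h with h | h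
  · exact hTC i _ _ (colRoot_mul o) hi (colRoot_rk o) (Pi.evalAddMonoidHom _ a) (sum_col i o ε a h)
  · exact hTC i _ _ (rowRoot_mul o) hi (rowRoot_rk o) (Pi.evalAddMonoidHom _ a) (sum_row i o ε a h)

/-- The invariant sum agrees with the form where some root group acts with small degree. -/
theorem Bad.exists_invariant' (hM : Bad M) (hm : 3 ≤ m) {S : Finset (Fin t)} (hS : Above M S)
    (ε : Fin d → Bool) (C : (Fin d → Fin t → Fin m) → F)
    (hC : ∀ h ∈ stab M S, h ∈ tensorWreathStandard m t F → act ε h C = C) :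
    ∃ T : (Fin d → Fin t → Fin m) → F, (∀ g ∈ stab M S, act ε g T = T) ∧
      ∀ i, i ∉ S → ∀ (o : Fin m) (a : Fin d → Fin t → Fin m),
        ((Finset.univ.filter fun k => (ε k = true ↔ a k i = o)).card < (Fintype.card F - 1) * (m - 1) ∨
          (Finset.univ.filter fun k => ¬(ε k = true ↔ a k i = o)).card < (Fintype.card F - 1) * (m - 1)) →
        T a = C a := by
  obtain ⟨T, hT, -, hTC⟩ := hM.exists_invariant hm hS ε C hC
  refine ⟨T, hT, fun i hi o a h => eq_of_small hi h hTC⟩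

end CfsgLib.Geo.TensorPow
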