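/-
The sum of the Casimir elements of the free factors as a form, and the members fixing it.
-/
import Cfsg.Agent.Geo.TensorPow.Avg

set_option autoImplicit false
set_option linter.unusedSectionVars false

namespace CfsgLib.Geo.TensorPow

open Matrix Cfsg Cfsg.Geo CfsgLib.Geo CfsgLib.Aschbacher
open scoped MatrixGroups

universe u

variable {F : Type u} [Field F] {t m : ℕ}

/-- Two vector and two covector arguments, alternately. -/
def ε4 : Fin 4 → Bool := ![true, false, true, false]

/-- The form of the conjugated Casimir elements of the factors outside `S`. -/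
def cas (S : Finset (Fin t)) (h : GL (Fin t → Fin m) F) (a : Fin 4 → Fin t → Fin m) : F :=
  ∑ l ∈ Sᶜ, ∑ p : Fin m, ∑ q : Fin m, cj h (eu l p q) (a 1) (a 0) * cj h (eu l q p) (a 3) (a 2)

lemma sum_fin4 {α A : Type*} [Fintype α] [AddCommMonoid A] (f : (Fin 4 → α) → A) :
    ∑ v, f v = ∑ p, ∑ q, ∑ r, ∑ s, f ![p, q, r, s] := by
  let e : α × α × α × α ≃ (Fin 4 → α) :=
    { toFun := fun x => ![x.1, x.2.1, x.2.2.1, x.2.2.2]
      invFun := fun v => (v 0, v 1, v 2, v 3)
      left_inv := fun _ => rfl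
      right_inv := fun v => funext fun i => by fin_cases i <;> rfl }
  rw [← e.sum_comp]
  simp only [Fintype.sum_prod_type]
  rfl

lemma act_pair (g : GL (Fin t → Fin m) F) (X Y : Mt t m F) (a : Fin 4 → Fin t → Fin m) :
    act ε4 g (fun b => X (b 1) (b 0) * Y (b 3) (b 2)) a =
      cj g⁻¹ X (a 1) (a 0) * cj g⁻¹ Y (a 3) (a 2) := by
  have hc : ∀ (X : Mt t m F) x y, cj g⁻¹ X x y =
      ∑ p, ∑ q, ((g⁻¹ : GL (Fin t → Fin m) F) : Mt t m F) x q * X q p * (g : Mt t m F) p y := fun X x y => by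
    simp only [cj, inv_inv, Matrix.mul_apply, Finset.sum_mul]
  rw [act, sum_fin4, hc, hc, Finset.sum_mul]
  refine Finset.sum_congr rfl fun p _ => ?_
  rw [Finset.sum_mul]
  refine Finset.sum_congr rfl fun q _ => ?_
  rw [Finset.mul_sum]
  refine Finset.sum_congr rfl fun r _ => ?_
  rw [Finset.mul_sum]
  refine Finset.sum_congr rfl fun s _ => ?_
  simp only [ε4, ent, Fin.prod_univ_four, Matrix.cons_val_zero, Matrix.cons_val_one, Matrix.cons_val, if_true,
    Bool.false_eq_true, if_false]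
  ring

lemma act_cas (S : Finset (Fin t)) (g h : GL (Fin t → Fin m) F) : act ε4 g (cas S h) = cas S (g⁻¹ * h) := by
  classical
  have e : cas S h = ∑ l ∈ Sᶜ, ∑ p : Fin m, ∑ q : Fin m,
      fun b : Fin 4 → Fin t → Fin m => cj h (eu l p q) (b 1) (b 0) * cj h (eu l q p) (b 3) (b 2) := by
    funext a; simp [cas, Finset.sum_apply]
  rw [e, act_sum]
  funext a
  simp only [Finset.sum_apply, act_sum, act_pair, cas, cj_comp]

lemma sum_slot_casimir (k : Fin t) (A : GL (Fin m) F) (x y z w : Fin t → Fin m) :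
    (∑ p, ∑ q, slot k ((A : Matrix (Fin m) (Fin m) F) * Matrix.single p q 1 * ((A⁻¹ : GL (Fin m) F) : Matrix _ _ F)) x y *
      slot k ((A : Matrix (Fin m) (Fin m) F) * Matrix.single q p 1 * ((A⁻¹ : GL (Fin m) F) : Matrix _ _ F)) z w) =
      if (∀ l, l ≠ k → x l = y l) ∧ (∀ l, l ≠ k → z l = w l) then
        (1 : Matrix (Fin m) (Fin m) F) (x k) (w k) * (1 : Matrix (Fin m) (Fin m) F) (z k) (y k) else 0 := by
  simp only [slot_apply]
  by_cases h1 : ∀ l, l ≠ k → x l = y l
  swap
  · simp [h1]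
  by_cases h2 : ∀ l, l ≠ k → z l = w l
  swap
  · simp [h2]
  simp only [if_pos h1, if_pos h2, if_pos (And.intro h1 h2)]
  rw [← Units.mul_inv A, Matrix.mul_apply, Matrix.mul_apply, Finset.sum_mul_sum]
  refine Finset.sum_congr rfl fun p _ => Finset.sum_congr rfl fun q _ => ?_
  simp [Matrix.mul_apply, Matrix.single_apply, ite_and, Finset.sum_ite_eq']
  ring

theorem cas_eq_of_mem [Fintype F] {M : Subgroup (GL (Fin t → Fin m) F)} (hm : 2 ≤ m) {S : Finset (Fin t)}
    {h : GL (Fin t → Fin m) F} (hh : h ∈ stab M S) (hN : h ∈ tensorWreathStandard m t F) :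
    cas S h = cas S 1 := by
  classical
  haveI : NeZero m := ⟨by omega⟩
  obtain ⟨A, σ, hv⟩ := exists_tens_perm hN
  have hcj : ∀ l p q, cj h (eu l p q) = slot (σ l) ((A (σ l) : Matrix (Fin m) (Fin m) F) * Matrix.single p q 1 *
      (((A (σ l))⁻¹ : GL (Fin m) F) : Matrix _ _ F)) := by
    intro l p q
    have e : (h : Mt t m F) * eu l p q = slot (σ l) ((A (σ l) : Matrix (Fin m) (Fin m) F) * Matrix.single p q 1 *
        (((A (σ l))⁻¹ : GL (Fin m) F) : Matrix _ _ F)) * (h : Mt t m F) := by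
      rw [hv, eu, mul_assoc (tens _), permMat_mul_slot, ← mul_assoc, ← mul_assoc (slot _ _)]
      congr 1
      refine tens_mul_slot _ _ ?_
      rw [mul_assoc _ _ (A (σ l) : Matrix (Fin m) (Fin m) F), Units.inv_mul, mul_one]
    rw [cj, e, mul_assoc, Units.mul_inv, mul_one]
  have hσ : ∀ l, l ∉ S → σ l ∉ S := by
    intro l hl hs
    obtain ⟨p, q, hpq⟩ : ∃ p q : Fin m, p ≠ q := ⟨⟨0, by omega⟩, ⟨1, by omega⟩, by simp⟩
    have hc := (hh.2 _ hs).cj (com_eu (fun e : σ l = l => hl (e ▸ hs)) p q)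
    rw [hcj] at hc
    set B := (A (σ l) : Matrix (Fin m) (Fin m) F) * Matrix.single p q 1 * (((A (σ l))⁻¹ : GL (Fin m) F) : Matrix _ _ F)
    obtain ⟨c, hc'⟩ := scalar_of_forall_comm (A := B) fun P => slot_injective (σ l) (by
      have := hc.slot_comm P
      rwa [slot_mul, slot_mul] at this)
    have h1 : eu l p q = c • (1 : Mt t m F) := cj_injective h (by
      rw [hcj, cj_smul, cj_one]
      show slot (σ l) B = _
      rw [hc', slot_smul, slot_one])
    have h2 := eu_sq (F := F) l hpq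
    rw [h1, smul_mul_assoc, one_mul, smul_smul] at h2
    rcases smul_eq_zero.1 h2 with h3 | h3
    · exact eu_ne_zero l p q (by rw [h1, mul_self_eq_zero.1 h3, zero_smul])
    · exact one_ne_zero h3
  have himg : Sᶜ.image σ = Sᶜ :=
    Finset.eq_of_subset_of_card_le
      (Finset.image_subset_iff.2 fun l hl => Finset.mem_compl.2 (hσ l (Finset.mem_compl.1 hl)))
      (le_of_eq (Finset.card_image_of_injective _ σ.injective).symm)
  funext a
  simp only [cas]
  conv_rhs => rw [← himg, Finset.sum_image fun x _ y _ e => σ.injective e]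
  refine Finset.sum_congr rfl fun l _ => ?_
  simp only [hcj, sum_slot_casimir]
  have hr := sum_slot_casimir (σ l) (1 : GL (Fin m) F) (a 1) (a 0) (a 3) (a 2)
  simp only [Units.val_one, inv_one, one_mul, mul_one] at hr
  rw [← hr]
  simp only [cj, Units.val_one, inv_one, one_mul, mul_one, eu]

lemma cas_one_update {S : Finset (Fin t)} [NeZero m] {i : Fin t} (hi : i ∉ S) {p₀ q₀ : Fin m} (h : p₀ ≠ q₀)
    (x y : Fin t → Fin m) :
    cas (F := F) S 1 ![y, x, Function.update 0 i p₀, Function.update 0 i q₀] = (eu i p₀ q₀ : Mt t m F) x y := by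
  classical
  have h0 : ∀ X : Mt t m F, cj 1 X = X := fun X => by simp [cj]
  simp only [cas, h0, Matrix.cons_val_zero, Matrix.cons_val_one, Matrix.cons_val]
  rw [Finset.sum_eq_single_of_mem i (Finset.mem_compl.2 hi)]
  · rw [Finset.sum_eq_single p₀, Finset.sum_eq_single q₀]
    · rw [eu, eu, slot_update, Matrix.single_apply_same, mul_one]
    · intro q _ hq
      rw [eu, eu, slot_update, Matrix.single_apply, if_neg fun e => hq e.1, mul_zero]
    · simp
    · intro p _ hp
      refine Finset.sum_eq_zero fun q _ => ?_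
      rw [eu, eu, slot_update, Matrix.single_apply, if_neg fun e => hp e.2, mul_zero]
    · simp
  · intro l _ hl
    refine Finset.sum_eq_zero fun p _ => Finset.sum_eq_zero fun q _ => ?_
    have : (eu l q p : Mt t m F) (Function.update 0 i q₀) (Function.update 0 i p₀) = 0 := by
      rw [eu, slot_apply, if_neg]
      intro h'
      exact h (by simpa using (h' i (Ne.symm hl)).symm)
    rw [this, mul_zero]

theorem Bad.mem_of_cas [Fintype F] {M : Subgroup (GL (Fin t → Fin m) F)} (hM : Bad M) (hm : 3 ≤ m)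
    {S : Finset (Fin t)} (hS : Above M S) {i : Fin t} (hi : i ∉ S)
    (hinv : ∀ g ∈ stab M S, cas S g = cas S 1) {g : GL (Fin t → Fin m) F} (hg : g ∈ stab M S) :
    g ∈ tensorWreathStandard m t F := by
  classical
  haveI : NeZero m := ⟨by omega⟩
  let p₀ : Fin m := ⟨0, by omega⟩
  let q₀ : Fin m := ⟨1, by omega⟩
  have hpq : p₀ ≠ q₀ := by simp [p₀, q₀]
  set z : Fin t → Fin m := Function.update 0 i q₀ with hz
  set w : Fin t → Fin m := Function.update 0 i p₀ with hw
  set K : Fin t → Matrix (Fin m) (Fin m) F := fun l => Matrix.of fun p q => cj g (eu l q p) z w with hK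
  have hcj : cj g (∑ l ∈ Sᶜ, slot l (K l)) = eu i p₀ q₀ := by
    ext x y
    have h1 := congrFun (hinv g hg) ![y, x, w, z]
    rw [hw, hz, cas_one_update hi hpq] at h1
    rw [← h1]
    simp only [cas, Matrix.cons_val_zero, Matrix.cons_val_one, Matrix.cons_val, slot_eq_sum, cj, Finset.mul_sum,
      Finset.sum_mul, Matrix.sum_apply, mul_smul_comm, smul_mul_assoc, Matrix.smul_apply, smul_eq_mul, hK,
      Matrix.of_apply]
    exact Finset.sum_congr rfl fun l _ => Finset.sum_congr rfl fun p _ => Finset.sum_congr rfl fun q _ => by ring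
  have hX : cj g⁻¹ (eu i p₀ q₀) = ∑ l ∈ Sᶜ, slot l (K l) := by rw [← hcj, cj_inv_cj]
  obtain ⟨j, A, hA, -, hAA⟩ := classify_sum hm K hX (by rw [← cj_mul, eu_sq i hpq, cj_zero]) (rank_cj _ _)
  have hmem := mem_stab.1 (inv_mem hg)
  refine inv_mem_iff.1 (hM.mem_of_root hm hS hmem.1 hmem.2 hi hpq ?_)
  obtain ⟨v, hv⟩ : IsUnit (1 + A) :=
    (Matrix.isUnit_iff_isUnit_det _).2 (by rw [det_one_add hAA]; exact isUnit_one)
  rw [show g⁻¹ * rootU i p₀ q₀ hpq 1 * g⁻¹⁻¹ = slotU j v from Units.ext (by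
    rw [conj_rootU_val, one_smul, hA, slotU_val, hv, slot_add, slot_one])]
  exact slotU_mem_wreath j v

/-- Apart from three-dimensional factors over two elements the members lie in the stabiliser. -/
theorem Bad.mem_of_large [Fintype F] [DecidableEq F] {M : Subgroup (GL (Fin t → Fin m) F)} (hM : Bad M) (hm : 3 ≤ m)
    (hbig : 3 ≤ (Fintype.card F - 1) * (m - 1))
    {S : Finset (Fin t)} (hS : Above M S) {i : Fin t} (hi : i ∉ S) {g : GL (Fin t → Fin m) F} (hg : g ∈ stab M S) :
    g ∈ tensorWreathStandard m t F := by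
  have hCH : ∀ h ∈ stab M S, h ∈ tensorWreathStandard m t F → act ε4 h (cas S 1) = cas S (1 : GL (Fin t → Fin m) F) :=
    fun h hh hN => by rw [act_cas, mul_one]; exact cas_eq_of_mem (by omega) (inv_mem hh) (inv_mem hN)
  obtain ⟨T, hT, hTC⟩ := hM.exists_invariant' hm hS ε4 _ hCH
  haveI : NeZero m := ⟨by omega⟩
  have hTeq : T = cas S 1 := funext fun a => by
    refine hTC i hi 0 a ?_
    have := Finset.card_filter_add_card_filter_not (s := (Finset.univ : Finset (Fin 4)))
      (p := fun k => (ε4 k = true ↔ a k i = 0))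
    rw [Finset.card_univ, Fintype.card_fin] at this
    omega
  refine hM.mem_of_cas hm hS hi (fun x hx => ?_) hg
  rw [← hTeq]
  conv_rhs => rw [← hT _ (inv_mem hx)]
  rw [hTeq, act_cas, inv_inv, mul_one]

end CfsgLib.Geo.TensorPow
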