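/-
Three-dimensional factors over the field with two elements.
-/
import Cfsg.Agent.Geo.TensorPow.Casimir

set_option autoImplicit false
set_option linter.unusedSectionVars false

namespace CfsgLib.Geo.TensorPow

open Matrix Cfsg Cfsg.Geo CfsgLib.Geo CfsgLib.Aschbacher
open scoped MatrixGroups

universe u

variable {F : Type u} [Field F] [Fintype F] [DecidableEq F] {t : ℕ}

lemma two_zero (hq : Fintype.card F = 2) : (2 : F) = 0 := by
  have := FiniteField.cast_card_eq_zero F
  rw [hq] at this
  exact_mod_cast this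

lemma eq_one_of_ne (hq : Fintype.card F = 2) {x : F} (hx : x ≠ 0) : x = 1 := by
  simpa [hq] using FiniteField.pow_card_sub_one_eq_one x hx

/-- Distinctness of three indices. -/
def dist3 (a b c : Fin 3) : F := if a ≠ b ∧ a ≠ c ∧ b ≠ c then 1 else 0

lemma dist3_eq (f : Fin 3 → Fin 3) :
    (dist3 (f 0) (f 1) (f 2) : F) = if Function.Injective f then 1 else 0 := by
  refine if_congr ⟨fun ⟨h1, h2, h3⟩ i j => ?_, fun h => ⟨h.ne (by decide), h.ne (by decide), h.ne (by decide)⟩⟩ rfl rfl
  fin_cases i <;> fin_cases j <;> simp_all [Ne.symm]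

lemma sum_dist3 (hq : Fintype.card F = 2) (A : GL (Fin 3) F) (f : Fin 3 → Fin 3) :
    ∑ v : Fin 3 → Fin 3, (∏ k, (A : Matrix (Fin 3) (Fin 3) F) (v k) (f k)) * dist3 (v 0) (v 1) (v 2) =
      dist3 (f 0) (f 1) (f 2) := by
  have hsgn : ∀ σ : Equiv.Perm (Fin 3), ((Equiv.Perm.sign σ : ℤ) : F) = 1 := fun σ => by
    rcases Int.units_eq_one_or (Equiv.Perm.sign σ) with h | h
    · simp [h]
    · rw [h]
      push_cast
      rw [neg_eq_iff_add_eq_zero, one_add_one_eq_two, two_zero hq]
  have hdet : (A : Matrix (Fin 3) (Fin 3) F).det = 1 :=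
    eq_one_of_ne hq ((Matrix.isUnit_iff_isUnit_det _).1 A.isUnit).ne_zero
  trans ((A : Matrix (Fin 3) (Fin 3) F).submatrix id f).det
  · rw [Matrix.det_apply']
    symm
    refine Fintype.sum_of_injective (fun σ : Equiv.Perm (Fin 3) => (σ : Fin 3 → Fin 3)) DFunLike.coe_injective _ _
      (fun v hv => ?_) fun σ => ?_
    · rw [dist3_eq, if_neg, mul_zero]
      exact fun h => hv ⟨Equiv.ofBijective v ⟨h, Finite.surjective_of_injective h⟩, rfl⟩
    · rw [dist3_eq, if_pos σ.injective, mul_one, hsgn, one_mul]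
      rfl
  rw [dist3_eq]
  by_cases hf : Function.Injective f
  · rw [if_pos hf]
    let σ : Equiv.Perm (Fin 3) := Equiv.ofBijective f ⟨hf, Finite.surjective_of_injective hf⟩
    rw [show f = (σ : Fin 3 → Fin 3) from rfl, Matrix.det_permute', hsgn, hdet, mul_one]
  · rw [if_neg hf]
    simp only [Function.Injective] at hf
    push Not at hf
    obtain ⟨i, j, hij, hne⟩ := hf
    exact Matrix.det_zero_of_column_eq hne fun k => by simp [hij]

/-- The product of the alternating forms of the factors. -/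
def D3 (a : Fin 3 → Fin t → Fin 3) : F := ∏ l, dist3 (a 0 l) (a 1 l) (a 2 l)

lemma sum_D3 (hq : Fintype.card F = 2) (A : Fin t → GL (Fin 3) F) (τ : Equiv.Perm (Fin t))
    (a : Fin 3 → Fin t → Fin 3) :
    ∑ b : Fin 3 → Fin t → Fin 3,
      (∏ k, ∏ l, (A l : Matrix (Fin 3) (Fin 3) F) (b k l) (a k (τ l))) * D3 b = D3 a := by
  classical
  rw [← (Equiv.piComm (fun (_ : Fin t) (_ : Fin 3) => Fin 3)).sum_comp]
  simp only [D3, Equiv.piComm_apply]
  rw [show (∑ v : Fin t → Fin 3 → Fin 3,
      (∏ k, ∏ l, (A l : Matrix (Fin 3) (Fin 3) F) (v l k) (a k (τ l))) * ∏ l, dist3 (v l 0) (v l 1) (v l 2)) =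
    ∑ v : Fin t → Fin 3 → Fin 3, ∏ l, (∏ k, (A l : Matrix (Fin 3) (Fin 3) F) (v l k) (a k (τ l))) *
      dist3 (v l 0) (v l 1) (v l 2) from Finset.sum_congr rfl fun v _ => by
      rw [Finset.prod_comm, ← Finset.prod_mul_distrib]]
  rw [← Fintype.prod_sum fun l (x : Fin 3 → Fin 3) =>
    (∏ k, (A l : Matrix (Fin 3) (Fin 3) F) (x k) (a k (τ l))) * dist3 (x 0) (x 1) (x 2)]
  simp only [sum_dist3 hq]
  exact Equiv.prod_comp τ (fun l => (dist3 (a 0 l) (a 1 l) (a 2 l) : F))

lemma act_D3_of_mem (hq : Fintype.card F = 2) (e : Bool) {h : GL (Fin t → Fin 3) F}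
    (hN : h ∈ tensorWreathStandard 3 t F) : act (fun _ : Fin 3 => e) h D3 = D3 := by
  funext a
  cases e
  · obtain ⟨A, σ, hv⟩ := exists_tens_perm (inv_mem hN)
    let A' : Fin t → GL (Fin 3) F := fun l =>
      ⟨((A (σ l) : GL (Fin 3) F) : Matrix (Fin 3) (Fin 3) F)ᵀ, (((A (σ l))⁻¹ : GL (Fin 3) F) : Matrix (Fin 3) (Fin 3) F)ᵀ,
        by rw [← Matrix.transpose_mul, Units.inv_mul, Matrix.transpose_one],
        by rw [← Matrix.transpose_mul, Units.mul_inv, Matrix.transpose_one]⟩
    rw [← sum_D3 hq A' σ a, act]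
    refine Finset.sum_congr rfl fun b _ => congrArg (· * _) (Finset.prod_congr rfl fun k _ => ?_)
    rw [ent_false, hv, mul_permMat_apply]
    simp only [tens, Matrix.of_apply, Function.comp_apply]
    rw [← Equiv.prod_comp σ]
    refine Finset.prod_congr rfl fun l _ => ?_
    rw [Equiv.symm_apply_apply]
    rfl
  · obtain ⟨A, σ, hv⟩ := exists_tens_perm hN
    rw [← sum_D3 hq A σ.symm a, act]
    refine Finset.sum_congr rfl fun b _ => congrArg (· * _) (Finset.prod_congr rfl fun k _ => ?_)
    rw [ent_true, hv, mul_permMat_apply]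
    rfl

variable {M : Subgroup (GL (Fin t → Fin 3) F)} {S : Finset (Fin t)}

lemma act_D3 (hM : Bad M) (hq : Fintype.card F = 2) (hS : Above M S) {i : Fin t} (hi : i ∉ S) (e : Bool)
    {g : GL (Fin t → Fin 3) F} (hg : g ∈ stab M S) : act (fun _ : Fin 3 => e) g D3 = D3 := by
  obtain ⟨T, hT, hTD⟩ := hM.exists_invariant' le_rfl hS (fun _ : Fin 3 => e) D3
    fun h _ hN => act_D3_of_mem hq e hN
  have hTeq : T = D3 := funext fun a => by
    refine hTD i hi 0 a ?_
    have := Finset.card_filter_add_card_filter_not (s := (Finset.univ : Finset (Fin 3)))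
      (p := fun k => (e = true ↔ a k i = 0))
    rw [Finset.card_univ, Fintype.card_fin] at this
    rw [hq]
    omega
  exact hTeq ▸ hT g hg

/-- The contraction of two of the alternating forms. -/
def A4 (a : Fin 4 → Fin t → Fin 3) : F := ∑ x, D3 ![a 0, a 2, x] * D3 ![a 1, a 3, x]

lemma sum_fin3 {α A : Type*} [Fintype α] [AddCommMonoid A] (f : (Fin 3 → α) → A) :
    ∑ v, f v = ∑ p, ∑ q, ∑ r, f ![p, q, r] := by
  let e : α × α × α ≃ (Fin 3 → α) :=
    { toFun := fun x => ![x.1, x.2.1, x.2.2]
      invFun := fun v => (v 0, v 1, v 2)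
      left_inv := fun _ => rfl
      right_inv := fun v => funext fun i => by fin_cases i <;> rfl }
  rw [← e.sum_comp]
  simp only [Fintype.sum_prod_type]
  rfl

lemma sum_rot {α A : Type*} [Fintype α] [AddCommMonoid A] (f : α → α → α → α → α → A) :
    ∑ p, ∑ q, ∑ r, ∑ s, ∑ z, f p q r s z = ∑ z, ∑ p, ∑ q, ∑ r, ∑ s, f p q r s z := by
  calc ∑ p, ∑ q, ∑ r, ∑ s, ∑ z, f p q r s z = ∑ p, ∑ q, ∑ r, ∑ z, ∑ s, f p q r s z :=
        Finset.sum_congr rfl fun p _ => Finset.sum_congr rfl fun q _ => Finset.sum_congr rfl fun r _ => Finset.sum_comm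
    _ = ∑ p, ∑ q, ∑ z, ∑ r, ∑ s, f p q r s z :=
        Finset.sum_congr rfl fun p _ => Finset.sum_congr rfl fun q _ => Finset.sum_comm
    _ = ∑ p, ∑ z, ∑ q, ∑ r, ∑ s, f p q r s z := Finset.sum_congr rfl fun p _ => Finset.sum_comm
    _ = _ := Finset.sum_comm

lemma act_A4 {g : GL (Fin t → Fin 3) F} (h1 : act (fun _ : Fin 3 => true) g D3 = D3)
    (h2 : act (fun _ : Fin 3 => false) g D3 = D3) : act ε4 g A4 = A4 := by
  funext a
  set G : Mt t 3 F := (g : Mt t 3 F) with hG
  set G' : Mt t 3 F := ((g⁻¹ : GL (Fin t → Fin 3) F) : Mt t 3 F) with hG'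
  set Φ : (Fin t → Fin 3) → F := fun z => ∑ p, ∑ r, G p (a 0) * G r (a 2) * D3 ![p, r, z] with hΦ
  set Ψ : (Fin t → Fin 3) → F := fun z => ∑ q, ∑ s, G' (a 1) q * G' (a 3) s * D3 ![q, s, z] with hΨ
  have e1 : Φ ᵥ* G = fun y => D3 ![a 0, a 2, y] := by
    funext y
    rw [← congrFun h1 ![a 0, a 2, y], act, sum_fin3]
    simp only [Matrix.vecMul, dotProduct, hΦ, Finset.sum_mul]
    rw [Finset.sum_comm]
    refine Finset.sum_congr rfl fun p _ => ?_
    rw [Finset.sum_comm]
    refine Finset.sum_congr rfl fun r _ => Finset.sum_congr rfl fun z _ => ?_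
    simp [Fin.prod_univ_three, ent_true, hG]
    ring
  have e2 : G' *ᵥ Ψ = fun y => D3 ![a 1, a 3, y] := by
    funext y
    rw [← congrFun h2 ![a 1, a 3, y], act, sum_fin3]
    simp only [Matrix.mulVec, dotProduct, hΨ, Finset.mul_sum]
    rw [Finset.sum_comm]
    refine Finset.sum_congr rfl fun p _ => ?_
    rw [Finset.sum_comm]
    refine Finset.sum_congr rfl fun r _ => Finset.sum_congr rfl fun z _ => ?_
    simp [Fin.prod_univ_three, ent_false, hG']
    ring
  calc act ε4 g A4 a = Φ ⬝ᵥ Ψ := by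
        rw [act, sum_fin4]
        simp only [dotProduct, A4, Finset.mul_sum]
        rw [sum_rot]
        refine Finset.sum_congr rfl fun z _ => ?_
        simp only [hΦ, hΨ]
        rw [Finset.sum_mul]
        refine Finset.sum_congr rfl fun p _ => ?_
        rw [Finset.mul_sum]
        refine Finset.sum_congr rfl fun q _ => ?_
        rw [Finset.sum_mul]
        refine Finset.sum_congr rfl fun r _ => ?_
        rw [Finset.mul_sum]
        refine Finset.sum_congr rfl fun s _ => ?_
        simp [Fin.prod_univ_four, ε4, ent, hG, hG']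
        ring
    _ = Φ ⬝ᵥ ((G * G') *ᵥ Ψ) := by rw [hG, hG', Units.mul_inv, Matrix.one_mulVec]
    _ = (Φ ᵥ* G) ⬝ᵥ (G' *ᵥ Ψ) := by rw [← Matrix.mulVec_mulVec, Matrix.dotProduct_mulVec]
    _ = A4 a := by rw [e1, e2]; rfl

/-- The number of indices completing both pairs. -/
def cnt (a b c d : Fin 3) : ℕ :=
  (Finset.univ.filter fun y => (a ≠ c ∧ a ≠ y ∧ c ≠ y) ∧ (b ≠ d ∧ b ≠ y ∧ d ≠ y)).card

lemma cnt_other : ∀ a b c d : Fin 3, ¬((a = b ∧ c = d) ∨ (a = d ∧ c = b)) → cnt a b c d = 0 := by decide

lemma cnt_pair : ∀ a c : Fin 3, cnt a a c c = (if a = c then 0 else 1) ∧ cnt a c c a = (if a = c then 0 else 1) := by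
  decide

lemma bal_of_count : ∀ a b c d : Fin 3,
    (∀ o, (if a = o then 1 else 0) + (if b ≠ o then 1 else 0) + (if c = o then 1 else 0) +
      (if d ≠ o then 1 else 0) = 2) → (a = b ∧ c = d) ∨ (a = d ∧ c = b) := by decide

/-- A function of four indices balanced in its support, invariant and without trace is a multiple of the
contracted alternating forms. -/
lemma factor_eq (hq : Fintype.card F = 2) (g : Fin 3 → Fin 3 → Fin 3 → Fin 3 → F)
    (hsupp : ∀ a b c d, ¬((a = b ∧ c = d) ∨ (a = d ∧ c = b)) → g a b c d = 0)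
    (hinv : ∀ x y : Fin 3, x ≠ y → ∀ a b c d, g a b c d =
      ∑ p, ∑ q, ∑ r, ∑ s,
        ((if p = a then 1 else 0) + (if p = x ∧ a = y then 1 else 0)) *
        ((if b = q then 1 else 0) + (if b = x ∧ q = y then 1 else 0)) *
        ((if r = c then 1 else 0) + (if r = x ∧ c = y then 1 else 0)) *
        ((if d = s then 1 else 0) + (if d = x ∧ s = y then 1 else 0)) * g p q r s)
    (htr : ∑ x, ∑ y, g x x y y = 0) (a b c d : Fin 3) :
    g a b c d = (cnt a b c d : F) * g 0 0 1 1 := by
  have h2 := two_zero hq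
  have hout : ∀ (G : Fin 3 → F) (a x y : Fin 3),
      (∑ p, ((if p = a then (1 : F) else 0) + (if p = x ∧ a = y then 1 else 0)) * G p) =
        G a + (if a = y then G x else 0) := fun G a x y => by
    by_cases h : a = y <;> simp [h, add_mul, Finset.sum_add_distrib]
  have hin : ∀ (G : Fin 3 → F) (b x y : Fin 3),
      (∑ q, ((if b = q then (1 : F) else 0) + (if b = x ∧ q = y then 1 else 0)) * G q) =
        G b + (if b = x then G y else 0) := fun G b x y => by
    by_cases h : b = x <;> simp [h, add_mul, Finset.sum_add_distrib]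
  have hexp : ∀ x y : Fin 3, x ≠ y → ∀ a b c d, g a b c d =
      ∑ p, ((if p = a then (1 : F) else 0) + (if p = x ∧ a = y then 1 else 0)) *
      ∑ q, ((if b = q then (1 : F) else 0) + (if b = x ∧ q = y then 1 else 0)) *
      ∑ r, ((if r = c then (1 : F) else 0) + (if r = x ∧ c = y then 1 else 0)) *
      ∑ s, ((if d = s then (1 : F) else 0) + (if d = x ∧ s = y then 1 else 0)) * g p q r s := by
    intro x y hxy a b c d
    rw [hinv x y hxy a b c d]
    simp only [Finset.mul_sum, mul_assoc]
  simp only [hout, hin] at hexp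
  have hdd : ∀ u v : F, u + v = 0 → u = v := fun u v h => by
    rw [eq_neg_of_add_eq_zero_left h, neg_eq_iff_add_eq_zero, ← two_mul, h2, zero_mul]
  -- both shapes off the diagonal are constant
  have hA1 : ∀ x y z, x ≠ y → z ≠ x → z ≠ y → g x x z z = g y y z z := by
    intro x y z hxy hzx hzy
    have h := hexp x y hxy y x z z
    simp [hxy, hxy.symm, hzx, hzy, hzx.symm, hzy.symm, hsupp] at h
    exact hdd _ _ (by linear_combination -h)
  have hA2 : ∀ x y z, x ≠ y → z ≠ x → z ≠ y → g z z x x = g z z y y := by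
    intro x y z hxy hzx hzy
    have h := hexp x y hxy z z y x
    simp [hxy, hxy.symm, hzx, hzy, hzx.symm, hzy.symm, hsupp] at h
    exact hdd _ _ (by linear_combination -h)
  have hB1 : ∀ x y z, x ≠ y → z ≠ x → z ≠ y → g x z z x = g y z z y := by
    intro x y z hxy hzx hzy
    have h := hexp x y hxy y z z x
    simp [hxy, hxy.symm, hzx, hzy, hzx.symm, hzy.symm, hsupp] at h
    exact hdd _ _ (by linear_combination -h)
  have hB2 : ∀ x y z, x ≠ y → z ≠ x → z ≠ y → g z x x z = g z y y z := by
    intro x y z hxy hzx hzy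
    have h := hexp x y hxy z x y z
    simp [hxy, hxy.symm, hzx, hzy, hzx.symm, hzy.symm, hsupp] at h
    exact hdd _ _ (by linear_combination -h)
  have hconst : ∀ G : Fin 3 → Fin 3 → F,
      (∀ x y z, x ≠ y → z ≠ x → z ≠ y → G x z = G y z) → (∀ x y z, x ≠ y → z ≠ x → z ≠ y → G z x = G z y) →
      ∀ x y, x ≠ y → G x y = G 0 1 := by
    intro G l r x y hxy
    have e21 := l 2 0 1 (by decide) (by decide) (by decide)
    have e20 := r 1 0 2 (by decide) (by decide) (by decide)
    have e10 := l 2 1 0 (by decide) (by decide) (by decide)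
    have e12 := r 0 2 1 (by decide) (by decide) (by decide)
    have e02 := l 1 0 2 (by decide) (by decide) (by decide)
    fin_cases x <;> fin_cases y <;> first | exact absurd rfl hxy | rfl | skip
    · exact e02.symm.trans (e12.symm.trans (e10.symm.trans (e20.symm.trans e21)))
    · exact e10.symm.trans (e20.symm.trans e21)
    · exact e12.symm.trans (e10.symm.trans (e20.symm.trans e21))
    · exact e20.symm.trans e21
    · exact e21
  have hA := hconst (fun x z => g x x z z) hA1 hA2
  have hB := hconst (fun x z => g x z z x) hB1 hB2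
  -- the diagonal
  have hC : ∀ x y, x ≠ y → g x x x x = g y y x x + g y x x y := by
    intro x y hxy
    have h := hexp x y hxy y x x x
    simp [hxy, hxy.symm, hsupp] at h
    exact hdd _ _ (by linear_combination -h)
  have hC' : ∀ x, g x x x x = g 0 0 1 1 + g 0 1 1 0 := by
    intro x
    obtain ⟨y, hy⟩ : ∃ y, x ≠ y := by fin_cases x <;> [exact ⟨1, by decide⟩; exact ⟨0, by decide⟩; exact ⟨0, by decide⟩]
    rw [hC x y hy, hA y x hy.symm, hB y x hy.symm]
  have hC0 : g 0 0 1 1 + g 0 1 1 0 = 0 := by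
    simp only [Fin.sum_univ_three, hC', hA 0 2 (by decide), hA 1 0 (by decide), hA 1 2 (by decide),
      hA 2 0 (by decide), hA 2 1 (by decide)] at htr
    linear_combination htr - (4 * g 0 0 1 1 + g 0 1 1 0) * h2
  by_cases hb : (a = b ∧ c = d) ∨ (a = d ∧ c = b)
  swap
  · rw [hsupp a b c d hb, cnt_other a b c d hb, Nat.cast_zero, zero_mul]
  rcases hb with ⟨rfl, rfl⟩ | ⟨rfl, rfl⟩
  · by_cases h : a = c
    · subst h
      simp [hC' a, hC0, (cnt_pair a a).1]
    · simp [hA a c h, (cnt_pair a c).1, h]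
  · by_cases h : a = c
    · subst h
      simp [hC' a, hC0, (cnt_pair a a).1]
    · simp [hB a c h, (cnt_pair a c).2, h, hdd _ _ hC0]

/-- Replacement of the factor `i` in all arguments. -/
def upd (a : Fin 4 → Fin t → Fin 3) (i : Fin t) (v : Fin 4 → Fin 3) : Fin 4 → Fin t → Fin 3 :=
  fun k => Function.update (a k) i (v k)

/-- The normal shape of a factor. -/
def std4 : Fin 4 → Fin 3 := ![0, 0, 1, 1]

lemma A4_eq (a : Fin 4 → Fin t → Fin 3) : (A4 a : F) = ∏ l, (cnt (a 0 l) (a 1 l) (a 2 l) (a 3 l) : F) := by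
  simp only [A4, D3, Matrix.cons_val_zero, Matrix.cons_val_one, Matrix.cons_val]
  simp only [← Finset.prod_mul_distrib]
  rw [← Fintype.prod_sum fun l y => (dist3 (a 0 l) (a 2 l) y : F) * dist3 (a 1 l) (a 3 l) y]
  refine Finset.prod_congr rfl fun l _ => ?_
  simp only [dist3, ite_zero_mul_ite_zero, mul_one]
  rw [Finset.sum_boole]
  rfl

/-- The shape of a factor in `S`. -/
def wS (S : Finset (Fin t)) (a : Fin 4 → Fin t → Fin 3) (l : Fin t) : F :=
  if l ∈ S then (if a 1 l = a 0 l ∧ a 3 l = a 2 l then 1 else 0)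
  else (cnt (a 0 l) (a 1 l) (a 2 l) (a 3 l) : F)

lemma cas_upd {g : GL (Fin t → Fin 3) F} (hg : g ∈ stab M S) {s : Fin t} (hs : s ∈ S)
    (a : Fin 4 → Fin t → Fin 3) :
    cas S g a = (if a 1 s = a 0 s ∧ a 3 s = a 2 s then 1 else 0) * cas S g (upd a s std4) := by
  classical
  simp only [cas, Finset.mul_sum]
  refine Finset.sum_congr rfl fun l hl => Finset.sum_congr rfl fun p _ => Finset.sum_congr rfl fun q _ => ?_
  have hc : ∀ p q, Com s (cj g (eu l p q)) := fun p q =>
    (hg.2 s hs).cj (com_eu (fun e : s = l => Finset.mem_compl.1 hl (e ▸ hs)) p q)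
  rw [(hc p q).apply_update (a 1) (a 0) 0, (hc q p).apply_update (a 3) (a 2) 1, ite_zero_mul_ite_zero,
    ite_mul, one_mul, zero_mul]
  rfl

/-- In the exceptional case the members fix the form of the Casimir elements. -/
theorem Bad.cas_invariant_two (hM : Bad M) (hq : Fintype.card F = 2) (hS : Above M S) {i₀ : Fin t}
    (hi₀ : i₀ ∉ S) {g : GL (Fin t → Fin 3) F} (hg : g ∈ stab M S) :
    act ε4 g (cas S 1) = cas S 1 := by
  classical
  have h2 := two_zero hq
  set C : (Fin 4 → Fin t → Fin 3) → F := cas S 1 with hC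
  have hCH : ∀ h ∈ stab M S, h ∈ tensorWreathStandard 3 t F → act ε4 h C = C :=
    fun h hh hN => by rw [hC, act_cas, mul_one]; exact cas_eq_of_mem (by norm_num) (inv_mem hh) (inv_mem hN)
  obtain ⟨T, hT, hspan, hTC⟩ := hM.exists_invariant le_rfl hS ε4 C hCH
  set Δ := T - C with hΔ
  have hΔH : ∀ h ∈ stab M S, h ∈ tensorWreathStandard 3 t F → act ε4 h Δ = Δ := fun h hh hN => by
    rw [hΔ, act_sub, hT h hh, hCH h hh hN]
  -- the factors in `S`
  have hΔS : ∀ s ∈ S, ∀ a, Δ a = (if a 1 s = a 0 s ∧ a 3 s = a 2 s then 1 else 0) * Δ (upd a s std4) := by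
    intro s hs a
    set w : F := if a 1 s = a 0 s ∧ a 3 s = a 2 s then 1 else 0 with hw
    let φ : ((Fin 4 → Fin t → Fin 3) → F) →+ F :=
      AddMonoidHom.mk' (fun X => X a - w * X (upd a s std4)) fun X Y => by simp [Pi.add_apply]; ring
    have hφ : ∀ h ∈ stab M S, φ (cas S h) = 0 := fun h hh => by
      show cas S h a - w * cas S h (upd a s std4) = 0
      rw [cas_upd hh hs a, ← hw, sub_self]
    have h1 : φ T = 0 := hspan φ fun h hh => by
      rw [hC, act_cas, mul_one]; exact hφ _ (inv_mem hh)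
    have h2' : φ C = 0 := hφ 1 (one_mem _)
    have h3 : φ Δ = 0 := by rw [hΔ, map_sub, h1, h2', sub_zero]
    exact sub_eq_zero.1 h3
  -- the other factors
  have hΔi : ∀ i, i ∉ S → ∀ a, Δ a = (cnt (a 0 i) (a 1 i) (a 2 i) (a 3 i) : F) * Δ (upd a i std4) := by
    intro i hi a
    set G : Fin 3 → Fin 3 → Fin 3 → Fin 3 → F := fun p q r s => Δ (upd a i ![p, q, r, s]) with hG
    have e : upd a i ![a 0 i, a 1 i, a 2 i, a 3 i] = a := by
      funext k; fin_cases k <;> simp [upd]
    have hkey := factor_eq hq G ?_ ?_ ?_ (a 0 i) (a 1 i) (a 2 i) (a 3 i)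
    · rw [hG] at hkey
      simp only [e] at hkey
      exact hkey
    · intro p q r s hb
      obtain ⟨o, ho⟩ : ∃ o, (if p = o then 1 else 0) + (if q ≠ o then 1 else 0) + (if r = o then 1 else 0) +
          (if s ≠ o then 1 else 0) ≠ 2 := by
        by_contra hc
        push Not at hc
        exact hb (bal_of_count p q r s hc)
      show T _ - C _ = 0
      rw [sub_eq_zero]
      refine eq_of_small hi (o := o) ?_ hTC
      have hsum := Finset.card_filter_add_card_filter_not (s := (Finset.univ : Finset (Fin 4)))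
        (p := fun k => (ε4 k = true ↔ upd a i ![p, q, r, s] k i = o))
      rw [Finset.card_univ, Fintype.card_fin] at hsum
      have hcard : (Finset.univ.filter fun k => (ε4 k = true ↔ upd a i ![p, q, r, s] k i = o)).card ≠ 2 := by
        rw [Finset.card_filter, Fin.sum_univ_four]
        simpa [ε4, upd] using ho
      rw [hq]
      omega
    · intro x y hxy p q r s
      let T' : GL (Fin 3) F :=
        Matrix.SpecialLinearGroup.toGL (Matrix.SpecialLinearGroup.transvection hxy (1 : F))
      have hT' : T' ∈ specialLinear (Fin 3) F := mem_specialLinear.2 (Matrix.det_transvection_of_ne x y hxy 1)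
      have hv : (T' : Matrix (Fin 3) (Fin 3) F) = 1 + Matrix.single x y 1 := rfl
      have hi' : T'⁻¹ = T' := inv_eq_of_mul_eq_one_right (Units.ext (by
        rw [Units.val_mul, hv, Units.val_one, add_mul, one_mul, mul_add, mul_one,
          Matrix.single_mul_single_of_ne _ _ _ _ hxy.symm, add_zero, add_assoc, smat_add_self h2, add_zero]))
      have hmem : slotU i T' ∈ stab M S :=
        ⟨hM.slot_mem le_rfl i hT', fun l hl => com_slot (fun e : l = i => hi (e ▸ hl)) _⟩
      have := congrFun (hΔH _ hmem (slotU_mem_wreath i T')) (upd a i ![p, q, r, s])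
      rw [act_slot, sum_fin4] at this
      show Δ _ = _
      rw [← this]
      refine Finset.sum_congr rfl fun p' _ => Finset.sum_congr rfl fun q' _ => Finset.sum_congr rfl fun r' _ =>
        Finset.sum_congr rfl fun s' _ => ?_
      simp [Fin.prod_univ_four, ε4, ent, hi', hv, upd, G, Matrix.one_apply, Matrix.single_apply, eq_comm (a := x),
        eq_comm (a := y), Function.update_idem]
      rfl
    · let φ : ((Fin 4 → Fin t → Fin 3) → F) →+ F :=
        AddMonoidHom.mk' (fun X => ∑ x, ∑ y, X (upd a i ![x, x, y, y])) fun X Y => by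
          simp [Pi.add_apply, Finset.sum_add_distrib]
      have hφ : ∀ (A : GL (Fin 3) F) X, φ (act ε4 (slotU i A) X) = φ X := by
        intro A X
        show (∑ x, ∑ y, act ε4 (slotU i A) X (upd a i ![x, x, y, y])) = ∑ x, ∑ y, X (upd a i ![x, x, y, y])
        have hpair : ∀ v w : Fin 3, ∑ x, (A : Matrix (Fin 3) (Fin 3) F) v x *
            ((A⁻¹ : GL (Fin 3) F) : Matrix (Fin 3) (Fin 3) F) x w = if v = w then 1 else 0 := fun v w => by
          rw [← Matrix.mul_apply, Units.mul_inv, Matrix.one_apply]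
        calc (∑ x, ∑ y, act ε4 (slotU i A) X (upd a i ![x, x, y, y]))
            = ∑ p, ∑ q, ∑ r, ∑ s, (∑ x, (A : Matrix (Fin 3) (Fin 3) F) p x *
                ((A⁻¹ : GL (Fin 3) F) : Matrix (Fin 3) (Fin 3) F) x q) * (∑ y, (A : Matrix (Fin 3) (Fin 3) F) r y *
                ((A⁻¹ : GL (Fin 3) F) : Matrix (Fin 3) (Fin 3) F) y s) * X (upd a i ![p, q, r, s]) := by
              simp only [act_slot, sum_fin4]
              rw [Finset.sum_congr rfl fun x _ => (sum_rot _).symm, ← sum_rot]
              refine Finset.sum_congr rfl fun p _ => Finset.sum_congr rfl fun q _ => Finset.sum_congr rfl fun r _ =>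
                Finset.sum_congr rfl fun s _ => ?_
              rw [Finset.sum_mul_sum, Finset.sum_mul]
              refine Finset.sum_congr rfl fun x _ => ?_
              rw [Finset.sum_mul]
              refine Finset.sum_congr rfl fun y _ => ?_
              simp [Fin.prod_univ_four, ε4, ent, upd]
              rw [show upd a i ![p, q, r, s] = fun k => Function.update (a k) i (![p, q, r, s] k) from rfl]
              ring
          _ = ∑ x, ∑ y, X (upd a i ![x, x, y, y]) := by
              simp only [hpair]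
              simp
      have hzero : φ T = φ C := by
        refine hTC i _ _ (colRoot_mul (0 : Fin 3)) hi (colRoot_rk _) φ fun X => ?_
        simp only [hφ]
        rw [Finset.sum_const, Finset.card_univ, nsmul_eq_mul, Fintype.card_fun]
        push_cast
        rw [hq, Fintype.card_subtype_compl, Fintype.card_fin, Fintype.card_subtype_eq]
        simp [h2]
      show φ Δ = 0
      rw [hΔ, map_sub, hzero, sub_self]
  -- all factors
  have hprod : ∀ K : Finset (Fin t), ∀ a, Δ a = (∏ l ∈ K, wS S a l) *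
      Δ (fun k l => if l ∈ K then std4 k else a k l) := by
    intro K
    induction K using Finset.induction_on with
    | empty => intro a; simp
    | insert l K hl ih =>
      intro a
      rw [ih a, Finset.prod_insert hl]
      set b : Fin 4 → Fin t → Fin 3 := fun k r => if r ∈ K then std4 k else a k r with hb
      have hbl : ∀ k, b k l = a k l := fun k => if_neg hl
      have e : upd b l std4 = fun k r => if r ∈ insert l K then std4 k else a k r := by
        funext k r
        rcases eq_or_ne r l with rfl | hr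
        · simp [upd]
        · simp [upd, b, Function.update_of_ne hr, hr]
      by_cases hlS : l ∈ S
      · rw [hΔS l hlS b, e, hbl, hbl, hbl, hbl, wS, if_pos hlS]; ring
      · rw [hΔi l hlS b, e, hbl, hbl, hbl, hbl, wS, if_neg hlS]; ring
  set c := Δ (fun k _ => std4 k) with hc
  have hform : ∀ a, Δ a = (∏ l, wS S a l) * c := fun a => by
    simpa [hc] using hprod Finset.univ a
  have hnorm : ∀ a : Fin 4 → Fin t → Fin 3, (∀ s ∈ S, ∀ k, a k s = std4 k) → Δ a = A4 a * c := by
    intro a ha
    rw [hform, A4_eq]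
    congr 1
    refine Finset.prod_congr rfl fun l _ => ?_
    by_cases hl : l ∈ S
    · simp [wS, hl, ha l hl, std4, (cnt_pair 0 1).1]
    · simp [wS, hl]
  -- normal arguments
  have hgoal : ∀ a : Fin 4 → Fin t → Fin 3, (∀ s ∈ S, ∀ k, a k s = std4 k) → act ε4 g C a = C a := by
    intro a ha
    have hA := congrFun (act_A4 (act_D3 hM hq hS hi₀ true hg) (act_D3 hM hq hS hi₀ false hg)) a
    have hgΔ : act ε4 g Δ a = A4 a * c := by
      rw [← hA, act, act, Finset.sum_mul]
      refine Finset.sum_congr rfl fun b _ => ?_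
      by_cases hz : ∏ k, ent g (ε4 k) (b k) (a k) = 0
      · rw [hz, zero_mul, zero_mul, zero_mul]
      rw [hnorm b fun s hs k => ?_, mul_assoc]
      have hk : ent g (ε4 k) (b k) (a k) ≠ 0 := fun h => hz (Finset.prod_eq_zero (Finset.mem_univ k) h)
      rw [← ha s hs k]
      cases hε : ε4 k
      · rw [hε, ent_false, ((hg.2 s hs).inv).apply_update _ _ 0] at hk
        by_contra hne
        exact hk (if_neg (Ne.symm hne))
      · rw [hε, ent_true, (hg.2 s hs).apply_update _ _ 0] at hk
        by_contra hne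
        exact hk (if_neg hne)
    have hTΔ : C = T - Δ := by rw [hΔ, sub_sub_cancel]
    calc act ε4 g C a = act ε4 g T a - act ε4 g Δ a := by rw [hTΔ, act_sub]; rfl
      _ = T a - Δ a := by rw [hT g hg, hgΔ, hnorm a ha]
      _ = C a := by rw [hΔ, Pi.sub_apply, sub_sub_cancel]
  funext a
  suffices h : ∀ K ⊆ S, ∀ a : Fin 4 → Fin t → Fin 3, (∀ s ∈ S, s ∉ K → ∀ k, a k s = std4 k) →
      act ε4 g C a = C a from h S (subset_refl S) a fun s hs hn => absurd hs hn
  intro K
  induction K using Finset.induction_on with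
  | empty => intro _ a ha; exact hgoal a fun s hs => ha s hs (Finset.notMem_empty s)
  | insert l K hl ih =>
    intro hK a ha
    have hlS : l ∈ S := hK (Finset.mem_insert_self l K)
    have e := ih (fun x hx => hK (Finset.mem_insert_of_mem hx)) (upd a l std4) fun s hs hn k => by
      rcases eq_or_ne s l with rfl | hsl
      · simp [upd]
      · simp [upd, Function.update_of_ne hsl, ha s hs (by simp [hsl, hn]) k]
    rw [hC, act_cas, mul_one] at e ⊢
    rw [cas_upd (inv_mem hg) hlS a, cas_upd (one_mem (stab M S)) hlS a, e]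

end CfsgLib.Geo.TensorPow
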