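/-
The stabiliser of a tensor power is maximal.
-/
import Cfsg.Agent.Geo.TensorPow.Exc
import Cfsg.Agent.Geo.TensorLinearMaximal

set_option autoImplicit false
set_option linter.unusedSectionVars false

namespace CfsgLib.Geo.TensorPow

open Matrix Cfsg Cfsg.Geo CfsgLib.Geo CfsgLib.Aschbacher
open scoped MatrixGroups

universe u

variable {F : Type u} [Field F] [Fintype F] {t m : ℕ}

theorem Bad.stab_le {M : Subgroup (GL (Fin t → Fin m) F)} (hM : Bad M) (hm : 3 ≤ m) (ht : 0 < t) :
    ∀ S : Finset (Fin t), stab M S ≤ tensorWreathStandard m t F := by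
  classical
  haveI : NeZero m := ⟨by omega⟩
  suffices h : ∀ n, ∀ S : Finset (Fin t), Sᶜ.card = n → stab M S ≤ tensorWreathStandard m t F from
    fun S => h _ S rfl
  intro n
  induction n using Nat.strong_induction_on with
  | _ n ih =>
    intro S hn g hg
    have habove : Above M S := fun S' hS' x hx hxS =>
      ih S'ᶜ.card (hn ▸ Finset.card_lt_card (Finset.compl_ssubset_compl.2 hS')) S' rfl ⟨hx, hxS⟩
    by_cases hall : ∀ i, i ∈ S
    · obtain ⟨c, hc⟩ := scalar_of_com (X := (g : Mt t m F)) fun i => hg.2 i (hall i)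
      have hc0 : c ≠ 0 := fun h0 => g.ne_zero (by rw [hc, h0, zero_smul])
      rw [show g = slotU ⟨0, ht⟩ (Units.map (algebraMap F (Matrix (Fin m) (Fin m) F)).toMonoidHom
          (Units.mk0 c hc0)) from Units.ext (by
        rw [slotU_val, hc]
        show _ = slot _ (algebraMap F (Matrix (Fin m) (Fin m) F) c)
        rw [Algebra.algebraMap_eq_smul_one, slot_smul, slot_one])]
      exact slotU_mem_wreath _ _
    push Not at hall
    obtain ⟨i, hi⟩ := hall
    by_cases hex : m = 3 ∧ Fintype.card F = 2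
    · obtain ⟨rfl, hq⟩ := hex
      refine hM.mem_of_cas hm habove hi (fun x hx => ?_) hg
      have h := hM.cas_invariant_two hq habove hi (inv_mem hx)
      rwa [act_cas, inv_inv, mul_one] at h
    · refine hM.mem_of_large hm ?_ habove hi hg
      have hq : 2 ≤ Fintype.card F := Fintype.one_lt_card
      rcases eq_or_lt_of_le hq with h | h
      · rw [← h]; omega
      · have : 2 * 2 ≤ (Fintype.card F - 1) * (m - 1) := Nat.mul_le_mul (by omega) (by omega)
        omega

theorem Bad.le_wreath {M : Subgroup (GL (Fin t → Fin m) F)} (hM : Bad M) (hm : 3 ≤ m) (ht : 0 < t) :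
    M ≤ tensorWreathStandard m t F :=
  fun _ hg => hM.stab_le hm ht ∅ ⟨hg, fun _ hs => absurd hs (Finset.notMem_empty _)⟩

theorem tensorWreath_maximal {n : ℕ} (hn : 2 ≤ n) (hm : 3 ≤ m) (ht : 2 ≤ t) (e : Fin n ≃ (Fin t → Fin m))
    (P : GL (Fin n) F) :
    IsMaximalIn (specialLinear (Fin n) F) (tensorWreathSubgroup m t e P ⊓ specialLinear (Fin n) F) := by
  let ψ := CfsgLib.Geo.Tensor.glTransport e P
  have hX : tensorWreathSubgroup m t e P = (tensorWreathStandard m t F).map ψ.toMonoidHom := by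
    rw [tensorWreathSubgroup, Subgroup.map_map]
    rfl
  have hI : (specialLinear (Fin t → Fin m) F).map ψ.toMonoidHom = specialLinear (Fin n) F :=
    CfsgLib.Geo.Tensor.specialLinear_map_glTransport e P
  refine isMaximalIn_of_key (fun hle => ?_) fun M hM _ hMX => ?_
  · have hd : (Pi.single ⟨1, by omega⟩ 1 : Fin n → F) ⬝ᵥ Pi.single ⟨0, by omega⟩ 1 = 0 := by simp
    exact tvec_notMem_wreath (by omega) ht (Or.inl hm) e P hd (by simp) (by simp) (hle (tvec_mem_specialLinear _ _ hd))
  · by_contra hne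
    have hbad : Bad (M.comap ψ.toMonoidHom) := ⟨fun g hg => hM ⟨hX ▸ Subgroup.mem_map_of_mem _ hg.1,
      hI ▸ Subgroup.mem_map_of_mem _ hg.2⟩, fun h => hne (hI ▸ Subgroup.map_le_iff_le_comap.2 h)⟩
    refine hMX fun g hg => ?_
    obtain ⟨x, rfl⟩ := ψ.surjective g
    rw [hX]
    exact Subgroup.mem_map_of_mem _ (hbad.le_wreath hm (by omega) hg)

end CfsgLib.Geo.TensorPow
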